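import Cfsg.Agent.Lib.Coprime.Basic
import Cfsg.Agent.Lib.PGroups.UniqueOrderP
import Cfsg.Agent.S0205

/-!
Groups of odd order transitive on the involutions of an elementary abelian `2`-group, with
elements of order divisible by `r` of order exactly `r` and stabilisers of exponent `r`.
-/

set_option autoImplicit false
set_option linter.style.haveILetI false
set_option linter.unusedSectionVars false

open scoped Pointwise

namespace CfsgLib.Recog.TwoR

universe u v

section Norm

variable {S : Type u} {A : Type v} [CommGroup S] [Group A] [MulDistribMulAction A S]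

/-- `g` fixes only the identity of `S`. -/
def FixFree (S : Type u) {A : Type v} [CommGroup S] [Group A] [MulDistribMulAction A S] (g : A) :
    Prop :=
  ∀ x : S, g • x = x → x = 1

theorem FixFree.conj {g : A} (h : FixFree S g) (k : A) : FixFree S (k * g * k⁻¹) := by
  intro x hx
  have h1 : g • (k⁻¹ • x) = k⁻¹ • x := by
    calc g • (k⁻¹ • x) = k⁻¹ • ((k * g * k⁻¹) • x) := by simp [mul_smul]
      _ = k⁻¹ • x := by rw [hx]
  have h2 := congrArg (k • ·) (h _ h1)
  simpa using h2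

theorem prod_pow_smul {g : A} {l : ℕ} (hl : g ^ l = 1) (hg : FixFree S g) (x : S) :
    ∏ i ∈ Finset.range l, g ^ i • x = 1 := by
  refine hg _ ?_
  rw [Finset.smul_prod']
  simp only [smul_smul, ← pow_succ']
  have h1 := Finset.prod_range_succ (fun i => g ^ i • x) l
  have h2 := Finset.prod_range_succ' (fun i => g ^ i • x) l
  simp only [pow_zero, hl] at h1 h2
  exact mul_right_cancel (h2.symm.trans h1)

theorem prod_subgroup_smul (K : Subgroup A) [Fintype K] (k₀ : K) (h : FixFree S (k₀ : A)) (x : S) :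
    ∏ k : K, (k : A) • x = 1 := by
  refine h _ ?_
  rw [Finset.smul_prod']
  exact Fintype.prod_equiv (Equiv.mulLeft k₀) _ _ fun k => by simp [smul_smul]

/-- Summing over `l` conjugates or translates of a fixed point free element. -/
theorem pow_card_eq_one (K : Subgroup A) [Fintype K] (k₀ : K) (hk₀ : FixFree S (k₀ : A)) {l : ℕ}
    (hl : 0 < l) (y : A) (g : K → A) (φ : ℕ → K → K) (h1 : ∀ k, g k ^ l = 1)
    (h2 : ∀ k, FixFree S (g k))
    (hφ : ∀ i, 0 < i → i < l → Function.Injective (φ i) ∧ ∀ k, g k ^ i = (φ i k : A) * y ^ i)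
    (x : S) : x ^ Fintype.card K = 1 := by
  have hT : ∏ k : K, ∏ i ∈ Finset.range l, g k ^ i • x = 1 :=
    Finset.prod_eq_one fun k _ => prod_pow_smul (h1 k) (h2 k) x
  rw [Finset.prod_comm, Finset.prod_eq_single 0] at hT
  · simpa [Finset.prod_const] using hT
  · intro i hi hi0
    obtain ⟨hinj, hg⟩ := hφ i (Nat.pos_of_ne_zero hi0) (Finset.mem_range.1 hi)
    simp only [hg, mul_smul]
    rw [Fintype.prod_bijective (φ i) (Finite.injective_iff_bijective.1 hinj) _
      (fun k : K => (k : A) • (y ^ i • x)) fun k => rfl]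
    exact prod_subgroup_smul K k₀ hk₀ _
  · intro h
    exact absurd (Finset.mem_range.2 hl) h

theorem eq_one_of_pow_odd (hS : ∀ x : S, x * x = 1) {x : S} {n : ℕ} (hn : Odd n) (h : x ^ n = 1) :
    x = 1 := by
  obtain ⟨k, rfl⟩ := hn
  rwa [pow_succ, pow_mul, pow_two, hS, one_pow, one_mul] at h

variable [Finite A]

/-- A noncyclic abelian group is not fixed point free. -/
theorem mem_zpowers_of_commute_fixFree (hS : ∀ x : S, x * x = 1) (hA : Odd (Nat.card A))
    [Nontrivial S] {p : ℕ} (hp : p.Prime) {a b : A} (ha : orderOf a = p) (hb : b ^ p = 1)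
    (hab : Commute a b) (hfa : FixFree S a)
    (hf : b ∉ Subgroup.zpowers a → ∀ k ∈ Subgroup.zpowers a, FixFree S (k * b)) :
    b ∈ Subgroup.zpowers a := by
  classical
  by_contra hba
  haveI : Fintype (Subgroup.zpowers a) := Fintype.ofFinite _
  have hcard : Nat.card (Subgroup.zpowers a) = p := by rw [Nat.card_zpowers, ha]
  have hk : ∀ k : Subgroup.zpowers a, Commute (k : A) b ∧ (k : A) ^ p = 1 := by
    rintro ⟨k, hk⟩
    obtain ⟨n, rfl⟩ := Subgroup.mem_zpowers_iff.1 hk
    refine ⟨hab.zpow_left n, ?_⟩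
    rw [← zpow_natCast, ← zpow_mul, mul_comm, zpow_mul, zpow_natCast, ← ha, pow_orderOf_eq_one,
      one_zpow]
  obtain ⟨x, hx⟩ := exists_ne (1 : S)
  refine hx (eq_one_of_pow_odd hS (Odd.of_dvd_nat hA (ha ▸ orderOf_dvd_natCard a))
    (show x ^ p = 1 from ?_))
  have h := pow_card_eq_one (Subgroup.zpowers a) ⟨a, Subgroup.mem_zpowers a⟩ hfa hp.pos b
    (fun k => (k : A) * b) (fun i k => k ^ i)
    (fun k => by rw [(hk k).1.mul_pow, (hk k).2, hb, one_mul])
    (fun k => hf hba _ k.2)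
    (fun i hi hil => ⟨by
      have hco : (Nat.card (Subgroup.zpowers a)).Coprime i := by
        rw [hcard, hp.coprime_iff_not_dvd]
        exact fun hd => absurd (Nat.le_of_dvd hi hd) (by omega)
      exact (powCoprime hco).injective,
      fun k => by rw [(hk k).1.mul_pow]; simp⟩) x
  rwa [← Nat.card_eq_fintype_card, hcard] at h

/-- In a Frobenius group the complement has a fixed point. -/
theorem exists_fixed_of_frobenius (hS : ∀ x : S, x * x = 1) (hA : Odd (Nat.card A)) [Nontrivial S]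
    (F : Subgroup A) [F.Normal] (hF : F ≠ ⊥) (hfree : ∀ f ∈ F, f ≠ 1 → FixFree S f) {y : A} {l : ℕ}
    (hl : l.Prime) (hy : orderOf y = l)
    (hcomm : ∀ f ∈ F, ∀ i, 0 < i → i < l → Commute f (y ^ i) → f = 1) :
    ∃ x : S, x ≠ 1 ∧ y • x = x := by
  classical
  by_contra hno
  have hfy : FixFree S y := fun x hx => by_contra fun h1 => hno ⟨x, h1, hx⟩
  haveI : Fintype F := Fintype.ofFinite _
  obtain ⟨f₀, hf₀⟩ := Subgroup.ne_bot_iff_exists_ne_one.1 hF
  obtain ⟨x, hx⟩ := exists_ne (1 : S)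
  refine hx (eq_one_of_pow_odd hS (Odd.of_dvd_nat hA ?_) (pow_card_eq_one F f₀
    (hfree _ f₀.2 fun h => hf₀ (Subtype.ext h)) hl.pos y (fun k => (k : A) * y * (k : A)⁻¹)
    (fun i k => ⟨(k : A) * y ^ i * (k : A)⁻¹ * (y ^ i)⁻¹, ?_⟩) ?_ (fun k => hfy.conj _) ?_ x))
  · rw [← Nat.card_eq_fintype_card]
    exact Subgroup.card_subgroup_dvd_card F
  · rw [mul_assoc (k : A), mul_assoc (k : A)]
    exact F.mul_mem k.2 (Subgroup.Normal.conj_mem inferInstance _ (F.inv_mem k.2) _)
  · intro k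
    rw [conj_pow, ← hy, pow_orderOf_eq_one, mul_one, mul_inv_cancel]
  · intro i hi hil
    refine ⟨fun k k' h => ?_, fun k => by rw [conj_pow]; simp⟩
    have h' : (k : A) * y ^ i * (k : A)⁻¹ = (k' : A) * y ^ i * (k' : A)⁻¹ :=
      mul_right_cancel (congrArg Subtype.val h)
    have hc : Commute ((k' : A)⁻¹ * k) (y ^ i) := by
      calc (k' : A)⁻¹ * k * y ^ i = (k' : A)⁻¹ * ((k : A) * y ^ i * (k : A)⁻¹) * k := by group
        _ = (k' : A)⁻¹ * ((k' : A) * y ^ i * (k' : A)⁻¹) * k := by rw [h']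
        _ = y ^ i * ((k' : A)⁻¹ * k) := by group
    have := hcomm _ (F.mul_mem (F.inv_mem k'.2) k.2) i hi hil hc
    exact Subtype.ext (inv_mul_eq_one.1 this).symm

/-- A fixed point free subgroup has cyclic Sylow subgroups. -/
theorem isZGroup_of_fixFree (hS : ∀ x : S, x * x = 1) (hA : Odd (Nat.card A)) [Nontrivial S]
    (C : Subgroup A) (hfree : ∀ c ∈ C, c ≠ 1 → FixFree S c) : IsZGroup C := by
  refine ⟨fun p hp P => ?_⟩
  have := Fact.mk hp
  rcases eq_or_ne (P : Subgroup C) ⊥ with hbot | hne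
  · rw [hbot]; exact isCyclic_of_subsingleton
  have : Nontrivial (P : Subgroup C) := (Subgroup.nontrivial_iff_ne_bot _).2 hne
  have hpA : p ∣ Nat.card A := by
    obtain ⟨k, hk⟩ := IsPGroup.iff_card.1 P.2
    rcases k with _ | k
    · rw [pow_zero] at hk
      exact absurd hk Finite.one_lt_card.ne'
    · exact (dvd_pow_self p (Nat.succ_ne_zero k)).trans (hk ▸
        (Subgroup.card_subgroup_dvd_card _).trans (Subgroup.card_subgroup_dvd_card C))
  have hodd : Odd p := Odd.of_dvd_nat hA hpA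
  obtain ⟨k, hk⟩ := IsPGroup.iff_card.1 (P.2.to_subgroup (Subgroup.center (P : Subgroup C)))
  have hd : p ∣ Nat.card (Subgroup.center (P : Subgroup C)) := by
    have := P.2.center_nontrivial
    have hlt := Finite.one_lt_card (α := Subgroup.center (P : Subgroup C))
    rcases k with _ | k
    · rw [hk] at hlt; simp at hlt
    · rw [hk]; exact dvd_pow_self p (Nat.succ_ne_zero _)
  obtain ⟨⟨z, hzc⟩, hz⟩ := exists_prime_orderOf_dvd_card' p hd
  rw [Subgroup.orderOf_mk] at hz
  have hzA : orderOf (((z : C) : A)) = p := by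
    rw [Subgroup.orderOf_coe, Subgroup.orderOf_coe, hz]
  have hz1 : ((z : C) : A) ≠ 1 := by
    intro h
    rw [h, orderOf_one] at hzA
    exact hp.one_lt.ne hzA
  have huniq : ∀ y : (P : Subgroup C), y ^ p = 1 → y ∈ Subgroup.zpowers z := by
    intro y hy
    by_contra hyz
    have hyz' : ((y : C) : A) ∉ Subgroup.zpowers (((z : C) : A)) := by
      intro hm
      obtain ⟨n, hn⟩ := Subgroup.mem_zpowers_iff.1 hm
      exact hyz (Subgroup.mem_zpowers_iff.2 ⟨n, Subtype.ext (Subtype.ext (by simpa using hn))⟩)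
    refine hyz' (mem_zpowers_of_commute_fixFree hS hA hp hzA
      (by simpa using congrArg (fun t : (P : Subgroup C) => ((t : C) : A)) hy) ?_
      (hfree _ (z : C).2 hz1) fun _ k hk => hfree _ ?_ ?_)
    · exact (congrArg (fun t : (P : Subgroup C) => ((t : C) : A))
        (Subgroup.mem_center_iff.1 hzc y)).symm
    · exact C.mul_mem (Subgroup.zpowers_le.2 (z : C).2 hk) (y : C).2
    · intro h
      exact hyz' (by rw [eq_inv_of_mul_eq_one_right h]; exact inv_mem hk)
  rcases CfsgLib.PGroups.isCyclic_or_quaternion_of_unique P.2 (z := z)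
      (orderOf_dvd_iff_pow_eq_one.1 hz.dvd) huniq with
    h | ⟨h2, -⟩
  · exact h
  · exact absurd hodd (by rw [h2]; decide)

end Norm

section Main

variable {S : Type u} {A : Type v} [CommGroup S] [Group A] [Finite A] [MulDistribMulAction A S]
  [FaithfulSMul A S] [Finite S] {r : ℕ}

/-- The hypotheses on the action. -/
structure AutHyp (S : Type u) (A : Type v) [CommGroup S] [Group A] [MulDistribMulAction A S]
    (r : ℕ) : Prop where
  prime : r.Prime
  oddr : Odd r
  sq : ∀ x : S, x * x = 1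
  big : 8 ≤ Nat.card S
  oddA : Odd (Nat.card A)
  trans : ∀ x y : S, x ≠ 1 → y ≠ 1 → ∃ g : A, g • x = y
  sep : ∀ g : A, r ∣ orderOf g → orderOf g = r
  fix : ∀ (g : A) (x : S), x ≠ 1 → g • x = x → g ^ r = 1

variable (h : AutHyp S A r)
include h

theorem AutHyp.nontrivial : Nontrivial S :=
  Finite.one_lt_card_iff_nontrivial.1 (by have := h.big; omega)

theorem AutHyp.smul_ne (g : A) {x : S} (hx : x ≠ 1) : g • x ≠ 1 := fun he => hx (by
  simpa using congrArg (g⁻¹ • ·) he)

theorem AutHyp.card_eq {x : S} (hx : x ≠ 1) :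
    Nat.card A = (Nat.card S - 1) * Nat.card (MulAction.stabilizer A x) := by
  have h1 : MulAction.orbit A x = {1}ᶜ := by
    ext v
    constructor
    · rintro ⟨g, rfl⟩
      exact h.smul_ne g hx
    · intro hv
      exact h.trans x v hx hv
  rw [← Subgroup.card_mul_index (MulAction.stabilizer A x), MulAction.index_stabilizer, h1,
    Set.ncard_compl, Set.ncard_singleton, mul_comm]

theorem AutHyp.eq_one_of_forall {g : A} (hg : ∀ x : S, x ≠ 1 → g • x = x) : g = 1 :=
  eq_of_smul_eq_smul (α := S) fun x => by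
    rcases eq_or_ne x 1 with rfl | hx
    · rw [smul_one, smul_one]
    · rw [hg x hx, one_smul]

theorem AutHyp.fixFree_of_not_dvd {g : A} (hg1 : g ≠ 1) (hg : ¬ r ∣ orderOf g) : FixFree S g := by
  intro x hx
  by_contra hx1
  rcases (Nat.dvd_prime h.prime).1 (orderOf_dvd_of_pow_eq_one (h.fix g x hx1 hx)) with he | he
  · exact hg1 (orderOf_eq_one_iff.1 he)
  · exact hg (he ▸ dvd_rfl)

/-- Only the identity of order prime to `r` commutes with an element of order `r`. -/
theorem AutHyp.eq_one_of_commute {a g : A} (ha : orderOf a = r) (hc : Commute a g)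
    (hg : ¬ r ∣ orderOf g) : g = 1 := by
  have h1 : orderOf (a * g) = r * orderOf g := by
    rw [hc.orderOf_mul_eq_mul_orderOf_of_coprime, ha]
    rw [ha, h.prime.coprime_iff_not_dvd]
    exact hg
  have h2 := h.sep (a * g) (h1 ▸ dvd_mul_right r _)
  rw [h1] at h2
  exact orderOf_eq_one_iff.1 (Nat.eq_of_mul_eq_mul_left h.prime.pos (h2.trans (mul_one r).symm))

theorem AutHyp.pow_of_commute {a g : A} (ha : orderOf a = r) (hc : Commute a g) : g ^ r = 1 := by
  by_cases hg : r ∣ orderOf g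
  · rw [← h.sep g hg, pow_orderOf_eq_one]
  · rw [h.eq_one_of_commute ha hc hg, one_pow]

/-- The coprime case: the action is regular. -/
theorem AutHyp.regular_of_not_dvd (hr : ¬ r ∣ Nat.card A) :
    Nat.card A + 1 = Nat.card S ∧ ∀ (g : A) (x : S), x ≠ 1 → g • x = x → g = 1 := by
  have hreg : ∀ (g : A) (x : S), x ≠ 1 → g • x = x → g = 1 := fun g x hx hgx => by
    by_contra hg
    exact hx (h.fixFree_of_not_dvd hg (fun hd => hr (hd.trans (orderOf_dvd_natCard g))) x hgx)
  refine ⟨?_, hreg⟩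
  have := h.nontrivial
  obtain ⟨x, hx⟩ := exists_ne (1 : S)
  have h1 := h.card_eq hx
  rw [(Subgroup.eq_bot_iff_forall _).2 fun g hg => hreg g x hx (MulAction.mem_stabilizer_iff.1 hg),
    Subgroup.card_bot, mul_one] at h1
  have := h.big
  omega

/-- A normal abelian subgroup of exponent `r` is cyclic. -/
theorem AutHyp.le_zpowers (E : Subgroup A) [E.Normal] (hE : ∀ a ∈ E, ∀ b ∈ E, a * b = b * a)
    (hexp : ∀ a ∈ E, a ^ r = 1) {z : A} (hz : z ∈ E) (hzr : orderOf z = r) {e : A} (he : e ∈ E) :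
    e ∈ Subgroup.zpowers z := by
  have := h.nontrivial
  let K : S → Subgroup A := fun x => E ⊓ MulAction.stabilizer A x
  have hK : ∀ (x : S) (k : A), k ∈ K x ↔ k ∈ E ∧ k • x = x := fun x k => Iff.rfl
  have hle : ∀ x y : S, x ≠ 1 → y ≠ 1 → Nat.card (K x) ≤ Nat.card (K y) := by
    intro x y hx hy
    obtain ⟨a, rfl⟩ := h.trans x y hx hy
    let f : K x → K (a • x) := fun k => ⟨a * k * a⁻¹, (hK _ _).2
      ⟨Subgroup.Normal.conj_mem inferInstance _ ((hK _ _).1 k.2).1 a,
      by simp [mul_smul, ((hK _ _).1 k.2).2]⟩⟩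
    refine Nat.card_le_card_of_injective f fun k k' hkk => Subtype.ext ?_
    exact mul_left_cancel (mul_right_cancel (congrArg Subtype.val hkk))
  have heq : ∀ x y : S, x ≠ 1 → y ≠ 1 → K x ≤ K y → K x = K y := fun x y hx hy hxy =>
    Subgroup.eq_of_le_of_card_ge hxy (hle y x hy hx)
  have hsame : ∀ v₁ v₂ : S, v₁ ≠ 1 → v₂ ≠ 1 → K v₁ ≤ K v₂ := by
    intro v₁ v₂ h1 h2 k hk
    by_contra hk2
    rw [hK] at hk hk2
    have hu : v₂ * (k • v₂) ≠ 1 := fun hu => hk2 ⟨hk.1, by
      calc k • v₂ = v₂ * v₂ * (k • v₂) := by rw [h.sq, one_mul]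
        _ = v₂ * (v₂ * (k • v₂)) := mul_assoc _ _ _
        _ = v₂ := by rw [hu, mul_one]⟩
    have hw : v₁ * v₂ ≠ 1 := fun hw => by
      have h12 : v₁ = v₂ := by
        calc v₁ = v₁ * (v₂ * v₂) := by rw [h.sq, mul_one]
          _ = v₁ * v₂ * v₂ := (mul_assoc _ _ _).symm
          _ = v₂ := by rw [hw, one_mul]
      exact hk2 (h12 ▸ hk)
    have e2 : K v₂ ≤ K (v₂ * (k • v₂)) := fun l hl => by
      rw [hK] at hl ⊢
      refine ⟨hl.1, ?_⟩
      rw [smul_mul', hl.2, ← mul_smul, hE l hl.1 k hk.1, mul_smul, hl.2]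
    have e3 : K (v₁ * v₂) ≤ K (v₂ * (k • v₂)) := fun l hl => by
      rw [hK] at hl ⊢
      refine ⟨hl.1, ?_⟩
      have hu' : v₂ * (k • v₂) = (v₁ * v₂) * (k • (v₁ * v₂)) := by
        rw [smul_mul', hk.2, mul_mul_mul_comm, h.sq, one_mul]
      rw [hu', smul_mul', hl.2, ← mul_smul, hE l hl.1 k hk.1, mul_smul, hl.2]
    have e23 : K v₂ = K (v₁ * v₂) :=
      (heq _ _ h2 hu e2).trans (heq _ _ hw hu e3).symm
    have e21 : K v₂ ≤ K v₁ := fun l hl => by
      have hl' : l ∈ K (v₁ * v₂) := e23 ▸ hl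
      rw [hK] at hl hl' ⊢
      refine ⟨hl.1, mul_right_cancel (b := v₂) ?_⟩
      have := hl'.2
      rwa [smul_mul', hl.2] at this
    exact hk2 ((hK _ _).1 ((heq _ _ h2 h1 e21).symm ▸ (hK _ _).2 hk))
  have hfree : ∀ a ∈ E, a ≠ 1 → FixFree S a := fun a ha ha1 x hx => by
    by_contra hx1
    exact ha1 (h.eq_one_of_forall fun y hy =>
      ((hK _ _).1 (hsame x y hx1 hy ((hK _ _).2 ⟨ha, hx⟩))).2)
  refine mem_zpowers_of_commute_fixFree h.sq h.oddA h.prime hzr (hexp e he) (hE z hz e he)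
    (hfree z hz fun h1 => ?_) fun hez k hk => hfree _ (E.mul_mem (Subgroup.zpowers_le.2 hz hk) he)
      fun h1 => hez (by rw [eq_inv_of_mul_eq_one_right h1]; exact inv_mem hk)
  rw [h1, orderOf_one] at hzr
  exact h.prime.one_lt.ne hzr

omit h in
theorem count_ineq {r q : ℕ} (hr : 3 ≤ r) (hq : 2 ≤ q) : r * (r - 1) * (q - 1) + 1 < q ^ r := by
  obtain ⟨t, rfl⟩ : ∃ t, q = t + 2 := ⟨q - 2, by omega⟩
  induction r, hr using Nat.le_induction with
  | base =>
    rw [show t + 2 - 1 = t + 1 from rfl]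
    norm_num
    nlinarith [Nat.zero_le (t ^ 3)]
  | succ n hn ih =>
    obtain ⟨s, rfl⟩ : ∃ s, n = s + 3 := ⟨n - 3, by omega⟩
    rw [show s + 3 + 1 - 1 = s + 3 from rfl, show t + 2 - 1 = t + 1 from rfl]
    rw [show s + 3 - 1 = s + 2 from rfl, show t + 2 - 1 = t + 1 from rfl] at ih
    calc (s + 3 + 1) * (s + 3) * (t + 1) + 1
        ≤ (t + 2) * ((s + 3) * (s + 2) * (t + 1) + 1) := by
          nlinarith [Nat.zero_le (s * t), Nat.zero_le (s * s * t), Nat.zero_le (s * s)]
      _ < (t + 2) * (t + 2) ^ (s + 3) := (Nat.mul_lt_mul_left (by omega)).2 ih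
      _ = (t + 2) ^ (s + 3 + 1) := (pow_succ' _ _).symm

/-- The case of a normal `r`-subgroup. -/
theorem AutHyp.case_normal_r (M : Subgroup A) [M.Normal] (hM : M ≠ ⊥)
    (hMc : ∀ a ∈ M, ∀ b ∈ M, a * b = b * a) (hMr : ∀ a ∈ M, a ^ r = 1) :
    Nat.card A = r ∧ Nat.card A + 1 = Nat.card S ∧
      ∀ (g : A) (x : S), x ≠ 1 → g • x = x → g = 1 := by
  classical
  have := h.nontrivial
  have := Fact.mk h.prime
  obtain ⟨z, hzM, hz1⟩ : ∃ z ∈ M, z ≠ 1 := by
    by_contra hc
    exact hM ((Subgroup.eq_bot_iff_forall M).2 fun a ha => by_contra fun h1 => hc ⟨a, ha, h1⟩)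
  have hzr : orderOf z = r := orderOf_eq_prime (hMr z hzM) hz1
  have hMz : M = Subgroup.zpowers z :=
    le_antisymm (fun a ha => h.le_zpowers M hMc hMr hzM hzr ha) (Subgroup.zpowers_le.2 hzM)
  have hMcard : Nat.card M = r := by rw [hMz, Nat.card_zpowers, hzr]
  have hMgen : ∀ m ∈ M, m ≠ 1 → M = Subgroup.zpowers m := fun m hm hm1 =>
    (Subgroup.eq_of_le_of_card_ge (Subgroup.zpowers_le.2 hm) (by
      rw [hMcard, Nat.card_zpowers, orderOf_eq_prime (hMr m hm) hm1])).symm
  have hMfree : ∀ m ∈ M, m ≠ 1 → FixFree S m := by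
    intro m hm hm1 x hx
    by_contra hx1
    refine hm1 (h.eq_one_of_forall fun y hy => ?_)
    obtain ⟨a, rfl⟩ := h.trans x y hx1 hy
    have hmem : a⁻¹ * m * a ∈ Subgroup.zpowers m := by
      rw [← hMgen m hm hm1]
      simpa using Subgroup.Normal.conj_mem (inferInstance : M.Normal) m hm a⁻¹
    have hfx : Subgroup.zpowers m ≤ MulAction.stabilizer A x := Subgroup.zpowers_le.2 hx
    calc m • a • x = a • ((a⁻¹ * m * a) • x) := by simp [mul_smul]
      _ = a • x := by rw [MulAction.mem_stabilizer_iff.1 (hfx hmem)]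
  let ψ : A →* MulAut M := MulAut.conjNormal
  set F := ψ.ker with hFdef
  have hFmem : ∀ g : A, g ∈ F ↔ ∀ m ∈ M, Commute g m := by
    intro g
    rw [hFdef, MonoidHom.mem_ker, MulEquiv.ext_iff]
    constructor
    · intro hg m hm
      have := congrArg Subtype.val (hg ⟨m, hm⟩)
      simp only [ψ, MulAut.conjNormal_apply, MulAut.one_apply] at this
      exact mul_inv_eq_iff_eq_mul.1 this
    · intro hg m
      apply Subtype.ext
      simp only [ψ, MulAut.conjNormal_apply, MulAut.one_apply]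
      exact mul_inv_eq_iff_eq_mul.2 (hg m m.2)
  have hMF : M ≤ F := fun a ha => (hFmem a).2 fun m hm => hMc a ha m hm
  have hFexp : ∀ g ∈ F, g ^ r = 1 := fun g hg =>
    h.pow_of_commute hzr ((hFmem g).1 hg z hzM).symm
  have hidx : F.index ∣ r - 1 := by
    haveI : IsCyclic M := isCyclic_of_prime_card hMcard
    rw [hFdef, Subgroup.index_ker]
    refine (Subgroup.card_subgroup_dvd_card ψ.range).trans ?_
    rw [IsCyclic.card_mulAut, hMcard, Nat.totient_prime h.prime]
  have hr1 : 2 ≤ r := h.prime.two_le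
  have hinF : ∀ g : A, g ^ r = 1 → g ∈ F := by
    intro g hg
    rw [hFdef, MonoidHom.mem_ker, ← orderOf_eq_one_iff]
    haveI : IsCyclic M := isCyclic_of_prime_card hMcard
    have h1 : orderOf (ψ g) ∣ r := orderOf_dvd_of_pow_eq_one (by rw [← map_pow, hg, map_one])
    have h2 : orderOf (ψ g) ∣ r - 1 := by
      have := orderOf_dvd_natCard (ψ g)
      rwa [IsCyclic.card_mulAut, hMcard, Nat.totient_prime h.prime] at this
    rcases (Nat.dvd_prime h.prime).1 h1 with h3 | h3
    · exact h3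
    · rw [h3] at h2
      have := Nat.le_of_dvd (by omega) h2
      omega
  by_cases hFM : F = M
  · have hreg : ∀ (g : A) (x : S), x ≠ 1 → g • x = x → g = 1 := fun g x hx hgx => by
      by_contra hg
      exact hx (hMfree g (hFM ▸ hinF g (h.fix g x hx hgx)) hg x hgx)
    have hAr : Nat.card A = r := by
      by_contra hne
      have hi1 : F.index ≠ 1 := fun hi => hne (by
        rw [← Subgroup.card_mul_index F, hi, mul_one, hFM, hMcard])
      obtain ⟨l, hl, hld⟩ := Nat.exists_prime_and_dvd hi1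
      have := Fact.mk hl
      obtain ⟨y, hy⟩ := exists_prime_orderOf_dvd_card' l
        (hld.trans (Subgroup.index_dvd_card F))
      have hlr : l < r := by
        have := Nat.le_of_dvd (by omega) (hld.trans hidx)
        omega
      obtain ⟨x, hx, hxy⟩ := exists_fixed_of_frobenius h.sq h.oddA M hM hMfree hl hy
        (fun f hf i hi hil hc => by
          by_contra hf1
          refine hf1 ?_
          have hco : l.Coprime i := (hl.coprime_iff_not_dvd).2 fun hd =>
            absurd (Nat.le_of_dvd hi hd) (by omega)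
          have hfr : orderOf f = r := orderOf_eq_prime (hMr f hf) hf1
          have ho : orderOf (y ^ i) = l := by
            rw [Nat.Coprime.orderOf_pow (hy ▸ hco), hy]
          have := h.eq_one_of_commute hfr hc (fun hd => by
            rw [ho, Nat.prime_dvd_prime_iff_eq h.prime hl] at hd
            omega)
          rw [this, orderOf_one] at ho
          exact absurd ho.symm hl.one_lt.ne')
      have := hreg y x hx hxy
      rw [this, orderOf_one] at hy
      exact hl.one_lt.ne hy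
    refine ⟨hAr, ?_, hreg⟩
    obtain ⟨x, hx⟩ := exists_ne (1 : S)
    have h1 := h.card_eq hx
    rw [(Subgroup.eq_bot_iff_forall _).2 fun g hg =>
      hreg g x hx (MulAction.mem_stabilizer_iff.1 hg), Subgroup.card_bot, mul_one] at h1
    have := h.big
    omega
  -- `F` is bigger than `M`: count fixed points
  exfalso
  obtain ⟨e₀, he₀, he₀M, hcomm⟩ :
      ∃ e ∈ F, e ∉ M ∧ ∀ f ∈ F, f * e * f⁻¹ * e⁻¹ ∈ M := by
    have hP : IsPGroup r F := fun g => ⟨1, Subtype.ext (by simpa using hFexp g g.2)⟩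
    let N : Subgroup F := M.subgroupOf F
    haveI : N.Normal := Subgroup.Normal.subgroupOf inferInstance F
    haveI : Nontrivial (F ⧸ N) := by
      rw [← Finite.one_lt_card_iff_nontrivial, ← Subgroup.index_eq_card]
      have hne : N ≠ ⊤ := fun hN => hFM (le_antisymm (Subgroup.subgroupOf_eq_top.1 hN) hMF)
      have := Subgroup.index_eq_one.not.2 hne
      have := Subgroup.index_ne_zero_of_finite (H := N)
      omega
    have hQ := hP.to_quotient N
    haveI := hQ.center_nontrivial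
    obtain ⟨⟨e, he⟩, he1⟩ := exists_ne (1 : Subgroup.center (F ⧸ N))
    obtain ⟨e, rfl⟩ := QuotientGroup.mk'_surjective N e
    refine ⟨e, e.2, fun hm => he1 (Subtype.ext ((QuotientGroup.eq_one_iff e).2 hm)), fun f hf => ?_⟩
    have hc := Subgroup.mem_center_iff.1 he (QuotientGroup.mk' N ⟨f, hf⟩)
    have : (⟨f, hf⟩ : F) * e * (⟨f, hf⟩ : F)⁻¹ * e⁻¹ ∈ N := by
      rw [← QuotientGroup.eq_one_iff]
      change QuotientGroup.mk' N _ = 1
      simp only [map_mul, map_inv, hc]
      group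
    exact this
  obtain ⟨e, he, heM, hcomm, x₀, hx₀, hex₀⟩ :
      ∃ e ∈ F, e ∉ M ∧ (∀ f ∈ F, f * e * f⁻¹ * e⁻¹ ∈ M) ∧ ∃ x : S, x ≠ 1 ∧ e • x = x := by
    by_contra hno
    refine he₀M ?_
    rw [hMz]
    refine mem_zpowers_of_commute_fixFree h.sq h.oddA h.prime hzr (hFexp e₀ he₀)
      ((hFmem e₀).1 he₀ z hzM).symm (hMfree z hzM hz1) fun _ k hk x hx => ?_
    have hkM : k ∈ M := hMz ▸ hk
    by_contra hx1
    refine hno ⟨k * e₀, F.mul_mem (hMF hkM) he₀, fun hm => he₀M ?_, fun f hf => ?_, x, hx1, hx⟩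
    · simpa [← mul_assoc] using M.mul_mem (M.inv_mem hkM) hm
    · have hfk : f * k = k * f := (hFmem f).1 hf k hkM
      have : f * (k * e₀) * f⁻¹ * (k * e₀)⁻¹ = k * (f * e₀ * f⁻¹ * e₀⁻¹) * k⁻¹ := by
        rw [← mul_assoc f, hfk]; group
      rw [this]
      exact M.mul_mem (M.mul_mem hkM (hcomm f hf)) (M.inv_mem hkM)
  obtain ⟨f₀, hf₀, hf₀e⟩ : ∃ f ∈ F, f * e * f⁻¹ * e⁻¹ ≠ 1 := by
    by_contra hno
    refine heM ?_
    rw [hMz]
    refine h.le_zpowers (F ⊓ Subgroup.centralizer (F : Set A)) ?_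
      (fun a ha => hFexp a ha.1) ⟨hMF hzM, ?_⟩ hzr ⟨he, ?_⟩
    · intro a ha b hb
      exact ((Subgroup.mem_centralizer_iff.1 ha.2) b hb.1).symm
    · exact Subgroup.mem_centralizer_iff.2 fun g hg => (hFmem g).1 hg z hzM
    · refine Subgroup.mem_centralizer_iff.2 fun g hg => ?_
      by_contra hne
      refine hno ⟨g, hg, fun h1 => hne ?_⟩
      rwa [mul_inv_eq_one, mul_inv_eq_iff_eq_mul] at h1
  set z₀ := f₀ * e * f₀⁻¹ * e⁻¹ with hz₀def
  have hz₀M : z₀ ∈ M := hcomm f₀ hf₀
  have hz₀r : orderOf z₀ = r := orderOf_eq_prime (hMr z₀ hz₀M) hf₀e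
  have hz₀c : ∀ g ∈ F, Commute g z₀ := fun g hg => (hFmem g).1 hg z₀ hz₀M
  have hconj : ∀ i : ℕ, f₀ ^ i * e * (f₀ ^ i)⁻¹ = z₀ ^ i * e := by
    intro i
    induction i with
    | zero => simp
    | succ i ih =>
      calc f₀ ^ (i + 1) * e * (f₀ ^ (i + 1))⁻¹
          = f₀ * (f₀ ^ i * e * (f₀ ^ i)⁻¹) * f₀⁻¹ := by rw [pow_succ']; group
        _ = f₀ * z₀ ^ i * e * f₀⁻¹ := by rw [ih]; group
        _ = z₀ ^ i * (z₀ * e) := by
          rw [((hz₀c f₀ hf₀).pow_right i).eq, hz₀def]; group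
        _ = z₀ ^ (i + 1) * e := by rw [← mul_assoc, ← pow_succ]
  have her : e ^ r = 1 := hFexp e he
  -- the fixed points of the conjugates of `e` are independent
  have hproj : ∀ (i j : ℕ) (c : S), i < r → j < r → e • c = c →
      ∏ k ∈ Finset.range r, (z₀ ^ j * e) ^ k • (f₀ ^ i • c) = if i = j then f₀ ^ i • c else 1 := by
    intro i j c hi hj hc
    have hfx : (z₀ ^ i * e) • (f₀ ^ i • c) = f₀ ^ i • c := by
      rw [← hconj, mul_smul, mul_smul, inv_smul_smul, hc]
    split_ifs with hij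
    · subst hij
      have hk : ∀ k : ℕ, (z₀ ^ i * e) ^ k • (f₀ ^ i • c) = f₀ ^ i • c := fun k =>
        MulAction.mem_stabilizer_iff.1 (Subgroup.pow_mem _ (MulAction.mem_stabilizer_iff.2 hfx) k)
      simp only [hk, Finset.prod_const, Finset.card_range]
      obtain ⟨t, ht⟩ := h.oddr
      rw [ht, pow_succ, pow_mul, pow_two, h.sq, one_pow, one_mul]
    · set w := z₀ ^ j * (z₀ ^ i)⁻¹ with hw
      have hwM : w ∈ M := M.mul_mem (M.pow_mem hz₀M j) (M.inv_mem (M.pow_mem hz₀M i))
      have hw1 : w ≠ 1 := fun hw1 => hij (pow_injOn_Iio_orderOf (Set.mem_Iio.2 (hz₀r.symm ▸ hi))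
        (Set.mem_Iio.2 (hz₀r.symm ▸ hj)) (mul_inv_eq_one.1 hw1).symm)
      have hsplit : z₀ ^ j * e = w * (z₀ ^ i * e) := by rw [hw]; group
      have hcw : Commute w (z₀ ^ i * e) :=
        ((hFmem _).1 (F.mul_mem (hMF (M.pow_mem hz₀M i)) he) w hwM).symm
      have hk : ∀ k : ℕ, (z₀ ^ j * e) ^ k • (f₀ ^ i • c) = w ^ k • (f₀ ^ i • c) := fun k => by
        rw [hsplit, hcw.mul_pow, mul_smul,
          MulAction.mem_stabilizer_iff.1
            (Subgroup.pow_mem _ (MulAction.mem_stabilizer_iff.2 hfx) k)]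
      simp only [hk]
      exact prod_pow_smul (hMr w hwM) (hMfree w hwM hw1) _
  set C₀ : Set S := {x | e • x = x} with hC₀
  set D : Set S := {x | e • x = x ∧ x ≠ 1} with hD
  have hq2 : 2 ≤ C₀.ncard := by
    have hsub : ({1, x₀} : Set S) ⊆ C₀ := by
      rintro t (rfl | rfl)
      · exact smul_one e
      · exact hex₀
    have := Set.ncard_le_ncard hsub (Set.toFinite _)
    rwa [Set.ncard_pair (Ne.symm hx₀)] at this
  have hDq : D.ncard + 1 = C₀.ncard := by
    have : D = C₀ \ {1} := by ext t; simp [hC₀, hD]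
    rw [this, Set.ncard_sdiff_singleton_of_mem (show (1 : S) ∈ C₀ from smul_one e)]
    omega
  have hlow : C₀.ncard ^ r ≤ Nat.card S := by
    let Ψ : (Fin r → C₀) → S := fun c => ∏ i : Fin r, f₀ ^ (i : ℕ) • ((c i : S))
    have hinj : Function.Injective Ψ := by
      intro c d hcd
      funext j
      have key : ∀ c : Fin r → C₀,
          ∏ k ∈ Finset.range r, (z₀ ^ (j : ℕ) * e) ^ k • Ψ c = f₀ ^ (j : ℕ) • (c j : S) := by
        intro c
        simp only [Ψ, Finset.smul_prod']
        rw [Finset.prod_comm, Finset.prod_eq_single j]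
        · rw [hproj _ _ _ j.2 j.2 (c j).2, if_pos rfl]
        · intro i _ hij
          rw [hproj _ _ _ i.2 j.2 (c i).2, if_neg (fun hh => hij (Fin.ext hh))]
        · intro hj
          exact absurd (Finset.mem_univ j) hj
      have := key c
      rw [hcd, key d] at this
      exact Subtype.ext (smul_left_cancel _ this).symm
    have := Nat.card_le_card_of_injective Ψ hinj
    rwa [Nat.card_fun, Nat.card_coe_set_eq, Nat.card_fin] at this
  have hup : Nat.card S - 1 ≤ F.index * r * D.ncard := by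
    let Φ : (A ⧸ F) × Fin r × D → S := fun t => t.1.out • f₀ ^ (t.2.1 : ℕ) • (t.2.2 : S)
    have hsub : ({1}ᶜ : Set S) ⊆ Set.range Φ := by
      intro v hv
      obtain ⟨a, rfl⟩ := h.trans x₀ v hx₀ hv
      obtain ⟨f, hf⟩ := QuotientGroup.mk_out_eq_mul F a
      have hfF : (f : A)⁻¹ ∈ F := F.inv_mem f.2
      have hmem : (f : A)⁻¹ * e * ((f : A)⁻¹)⁻¹ * e⁻¹ ∈ Subgroup.zpowers z₀ := by
        rw [← hMgen z₀ hz₀M hf₀e]
        exact hcomm _ hfF
      obtain ⟨i, hi, hie⟩ := Finset.mem_image.1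
        ((isOfFinOrder_of_finite z₀).mem_zpowers_iff_mem_range_orderOf.1 hmem)
      rw [hz₀r, Finset.mem_range] at hi
      have h2 : (f : A)⁻¹ * e * (f : A) = f₀ ^ i * e * (f₀ ^ i)⁻¹ := by
        rw [hconj, show z₀ ^ i = _ from hie]; group
      have hc : e * ((f₀ ^ i)⁻¹ * (f : A)⁻¹) = (f₀ ^ i)⁻¹ * (f : A)⁻¹ * e := by
        calc e * ((f₀ ^ i)⁻¹ * (f : A)⁻¹)
            = (f₀ ^ i)⁻¹ * (f₀ ^ i * e * (f₀ ^ i)⁻¹) * (f : A)⁻¹ := by group
          _ = (f₀ ^ i)⁻¹ * (f : A)⁻¹ * e := by rw [← h2]; group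
      refine ⟨((a : A ⧸ F), ⟨i, hi⟩, ⟨((f₀ ^ i)⁻¹ * (f : A)⁻¹) • x₀, ?_, h.smul_ne _ hx₀⟩), ?_⟩
      · rw [← mul_smul, hc, mul_smul, hex₀]
      · show (a : A ⧸ F).out • f₀ ^ i • ((f₀ ^ i)⁻¹ * (f : A)⁻¹) • x₀ = a • x₀
        rw [hf, mul_smul, mul_smul, smul_inv_smul, smul_inv_smul]
    have h1 := Set.ncard_le_ncard hsub (Set.toFinite _)
    rw [Set.ncard_compl, Set.ncard_singleton] at h1
    refine h1.trans ?_
    rw [← Nat.card_coe_set_eq]
    refine (Finite.card_range_le Φ).trans (le_of_eq ?_)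
    rw [Nat.card_prod, Nat.card_prod, ← Subgroup.index_eq_card, Nat.card_fin, Nat.card_coe_set_eq,
      mul_assoc]
  have hr3 : 3 ≤ r := by
    obtain ⟨t, ht⟩ := h.oddr
    omega
  have h1 := count_ineq hr3 hq2
  have h2 : F.index * r * D.ncard ≤ r * (r - 1) * (C₀.ncard - 1) := by
    rw [mul_comm r (r - 1)]
    exact Nat.mul_le_mul (Nat.mul_le_mul_right r (Nat.le_of_dvd (by omega) hidx)) (by omega)
  omega

/-- The case of a normal abelian subgroup of order prime to `r`. -/
theorem AutHyp.case_normal_prime (hrA : r ∣ Nat.card A) (M : Subgroup A) [M.Normal] (hM : M ≠ ⊥)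
    {l : ℕ} (hl : l.Prime) (hlr : l ≠ r) (hMc : ∀ a ∈ M, ∀ b ∈ M, a * b = b * a)
    (hMl : ∀ a ∈ M, a ^ l = 1) :
    ∃ F : Subgroup A, F.Normal ∧ IsCyclic F ∧ Nat.card F + 1 = Nat.card S ∧ F.index = r ∧
      ¬ r ∣ Nat.card F ∧ (∀ g ∈ F, ∀ x : S, x ≠ 1 → g • x = x → g = 1) ∧
      (∀ g : A, g ∉ F → ∀ f ∈ F, g * f * g⁻¹ = f → f = 1) ∧
      (∀ g : A, g ∉ F → orderOf g = r) := by
  classical
  have := h.nontrivial
  have := Fact.mk h.prime
  obtain ⟨y, hy⟩ := exists_prime_orderOf_dvd_card' r hrA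
  obtain ⟨m, hmM, hm1⟩ : ∃ m ∈ M, m ≠ 1 := by
    by_contra hc
    exact hM ((Subgroup.eq_bot_iff_forall M).2 fun a ha => by_contra fun h1 => hc ⟨a, ha, h1⟩)
  have := Fact.mk hl
  have hml : orderOf m = l := orderOf_eq_prime (hMl m hmM) hm1
  have hMfree : ∀ a ∈ M, a ≠ 1 → FixFree S a := fun a ha ha1 => h.fixFree_of_not_dvd ha1 (by
    rw [orderOf_eq_prime (hMl a ha) ha1, Nat.prime_dvd_prime_iff_eq h.prime hl]
    exact Ne.symm hlr)
  have hMcard : Nat.card M = l := by
    have hMz : M = Subgroup.zpowers m := le_antisymm (fun a ha =>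
      mem_zpowers_of_commute_fixFree h.sq h.oddA hl hml (hMl a ha) (hMc m hmM a ha)
        (hMfree m hmM hm1) fun haz k hk =>
          hMfree _ (M.mul_mem (Subgroup.zpowers_le.2 hmM hk) ha) fun h1 =>
            haz (by rw [eq_inv_of_mul_eq_one_right h1]; exact inv_mem hk))
      (Subgroup.zpowers_le.2 hmM)
    rw [hMz, Nat.card_zpowers, hml]
  haveI : IsCyclic M := isCyclic_of_prime_card hMcard
  let ψ : A →* MulAut M := MulAut.conjNormal
  set C := ψ.ker with hCdef
  have hCmem : ∀ g : A, g ∈ C → Commute g m := by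
    intro g hg
    rw [hCdef, MonoidHom.mem_ker, MulEquiv.ext_iff] at hg
    have := congrArg Subtype.val (hg ⟨m, hmM⟩)
    simp only [ψ, MulAut.conjNormal_apply, MulAut.one_apply] at this
    exact mul_inv_eq_iff_eq_mul.1 this
  have hCr : ∀ g ∈ C, ¬ r ∣ orderOf g := by
    intro g hg hd
    refine hm1 (h.eq_one_of_commute (h.sep g hd) (hCmem g hg) ?_)
    rw [hml, Nat.prime_dvd_prime_iff_eq h.prime hl]
    exact Ne.symm hlr
  have hCfree : ∀ g ∈ C, g ≠ 1 → FixFree S g := fun g hg hg1 =>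
    h.fixFree_of_not_dvd hg1 (hCr g hg)
  have hMC : M ≤ C := fun a ha => by
    rw [hCdef, MonoidHom.mem_ker, MulEquiv.ext_iff]
    intro b
    apply Subtype.ext
    simp only [ψ, MulAut.conjNormal_apply, MulAut.one_apply]
    exact mul_inv_eq_iff_eq_mul.2 (hMc a ha b b.2)
  have hyfree : ∀ c ∈ C, Commute y c → c = 1 := fun c hc hcy =>
    h.eq_one_of_commute hy hcy (hCr c hc)
  -- `c ↦ [y, c]` is a permutation of `C`
  have hbij : Function.Surjective (fun c : C => (⟨y * c * y⁻¹ * (c : A)⁻¹,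
      C.mul_mem (Subgroup.Normal.conj_mem inferInstance _ c.2 y) (C.inv_mem c.2)⟩ : C)) := by
    refine (Finite.injective_iff_surjective).1 fun c c' hcc => ?_
    have h1 : y * c * y⁻¹ * (c : A)⁻¹ = y * c' * y⁻¹ * (c' : A)⁻¹ := congrArg Subtype.val hcc
    have h2 : Commute y ((c' : A)⁻¹ * c) := by
      calc y * ((c' : A)⁻¹ * c)
          = y * (c' : A)⁻¹ * y⁻¹ * (y * c * y⁻¹ * (c : A)⁻¹) * c * y := by group
        _ = y * (c' : A)⁻¹ * y⁻¹ * (y * c' * y⁻¹ * (c' : A)⁻¹) * c * y := by rw [h1]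
        _ = (c' : A)⁻¹ * c * y := by group
    exact Subtype.ext (inv_mul_eq_one.1
      (hyfree _ (C.mul_mem (C.inv_mem c'.2) c.2) h2)).symm
  haveI : IsZGroup C := isZGroup_of_fixFree h.sq h.oddA C hCfree
  haveI hCcyc : IsCyclic C := by
    let K : Subgroup A := (commutator C).map C.subtype
    haveI : K.Normal := ConjAct.normal_of_characteristic_of_normal
    haveI : IsCyclic (commutator C) := IsZGroup.isCyclic_commutator C
    haveI : IsCyclic K := isCyclic_of_surjective
      (Subgroup.equivMapOfInjective (commutator C) _ C.subtype_injective)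
      (MulEquiv.surjective _)
    let χ : A →* MulAut K := MulAut.conjNormal
    have hcommAut : ∀ a b : MulAut K, a * b = b * a := fun a b =>
      (IsCyclic.mulAutMulEquiv K).injective (by rw [map_mul, map_mul, mul_comm])
    have hcent : commutator C ≤ Subgroup.center C := by
      intro k hk
      rw [Subgroup.mem_center_iff]
      intro c
      obtain ⟨c', rfl⟩ := hbij c
      have h1 : χ (y * c' * y⁻¹ * (c' : A)⁻¹) = 1 := by
        rw [map_mul, map_mul, map_mul, hcommAut (χ y), map_inv, map_inv]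
        group
      have h2 := congrArg Subtype.val (MulEquiv.ext_iff.1 h1 ⟨k, ⟨k, hk, rfl⟩⟩)
      simp only [χ, MulAut.conjNormal_apply, MulAut.one_apply] at h2
      exact Subtype.ext (mul_inv_eq_iff_eq_mul.1 h2)
    have hab : ∀ a b : C, a * b = b * a :=
      ((Abelianization.of : C →* Abelianization C).isMulCommutative_of_isCyclic_of_ker_le_center
        (by rw [Abelianization.ker_of]; exact hcent)).is_comm.comm
    haveI : Group.IsNilpotent C :=
      letI : CommGroup C := { (inferInstance : Group C) with mul_comm := hab }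
      inferInstance
    infer_instance
  have hcent : Nat.card (Subgroup.centralizer ({y} : Set A)) = r := by
    set Y := Subgroup.centralizer ({y} : Set A) with hY
    have hYc : ∀ g ∈ Y, Commute y g := fun g hg => Subgroup.mem_centralizer_singleton_iff.1 hg |>.symm
    have hinj : Function.Injective (ψ.comp Y.subtype) := by
      rw [injective_iff_map_eq_one]
      intro g hg
      exact Subtype.ext (hyfree _ (MonoidHom.mem_ker.2 hg) (hYc _ g.2))
    haveI : IsCyclic (MulAut M) := by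
      haveI : Fact (Nat.card M).Prime := ⟨hMcard ▸ hl⟩
      exact isCyclic_of_surjective (IsCyclic.mulAutMulEquiv M).symm (MulEquiv.surjective _)
    haveI : IsCyclic Y := isCyclic_of_injective _ hinj
    obtain ⟨g, hg⟩ := IsCyclic.exists_ofOrder_eq_natCard (α := Y)
    have h1 : Nat.card Y ∣ r := by
      rw [← hg, orderOf_dvd_iff_pow_eq_one]
      exact Subtype.ext (by simpa using h.pow_of_commute hy (hYc _ g.2))
    rcases (Nat.dvd_prime h.prime).1 h1 with h2 | h2
    · exfalso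
      have hyY : y ∈ Y := Subgroup.mem_centralizer_singleton_iff.2 rfl
      rw [(Subgroup.card_eq_one.1 h2), Subgroup.mem_bot] at hyY
      rw [hyY, orderOf_one] at hy
      exact h.prime.one_lt.ne hy
    · exact h2
  have hquot : ∀ a b : A, a * b * a⁻¹ * b⁻¹ ∈ C := by
    intro a b
    have hcommAut : ∀ a b : MulAut M, a * b = b * a := fun a b =>
      (IsCyclic.mulAutMulEquiv M).injective (by rw [map_mul, map_mul, mul_comm])
    rw [hCdef, MonoidHom.mem_ker, map_mul, map_mul, map_mul, hcommAut (ψ a), map_inv, map_inv]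
    group
  have hidx : C.index = r := by
    set Y := Subgroup.centralizer ({y} : Set A) with hY
    have hle : r ≤ C.index := by
      rw [← hcent, Subgroup.index_eq_card]
      refine Nat.card_le_card_of_injective (fun g : Y => ((g : A) : A ⧸ C)) fun g g' hgg => ?_
      have hmem := QuotientGroup.eq.1 hgg
      refine Subtype.ext (inv_mul_eq_one.1 (hyfree _ hmem ?_))
      exact (Subgroup.mem_centralizer_singleton_iff.1 (Y.mul_mem (Y.inv_mem g.2) g'.2)).symm
    have hge : Nat.card A ≤ r * Nat.card C := by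
      rw [← Subgroup.card_mul_index Y, hcent, Subgroup.index_eq_card]
      refine Nat.mul_le_mul le_rfl (Nat.card_le_card_of_injective
        (fun q : A ⧸ Y => (⟨q.out * y * q.out⁻¹ * y⁻¹, hquot _ _⟩ : C)) fun q q' hqq => ?_)
      have h1 : q.out * y * q.out⁻¹ = q'.out * y * q'.out⁻¹ :=
        mul_right_cancel (congrArg Subtype.val hqq)
      rw [← QuotientGroup.out_eq' q, ← QuotientGroup.out_eq' q', QuotientGroup.eq]
      refine Subgroup.mem_centralizer_singleton_iff.2 ?_
      calc q.out⁻¹ * q'.out * y = q.out⁻¹ * (q'.out * y * q'.out⁻¹) * q'.out := by group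
        _ = q.out⁻¹ * (q.out * y * q.out⁻¹) * q'.out := by rw [h1]
        _ = y * (q.out⁻¹ * q'.out) := by group
    rw [← Subgroup.card_mul_index C, mul_comm] at hge
    exact le_antisymm (Nat.le_of_mul_le_mul_right hge Nat.card_pos) hle
  have hout : ∀ g : A, g ∉ C → orderOf g = r := by
    intro g hg
    refine h.sep g ?_
    have h1 : (g : A ⧸ C) ≠ 1 := fun h1 => hg ((QuotientGroup.eq_one_iff g).1 h1)
    have h2 : orderOf (g : A ⧸ C) = r := by
      rcases (Nat.dvd_prime h.prime).1 (show orderOf (g : A ⧸ C) ∣ r by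
        rw [← hidx, Subgroup.index_eq_card]; exact orderOf_dvd_natCard _) with h3 | h3
      · exact absurd (orderOf_eq_one_iff.1 h3) h1
      · exact h3
    rw [← h2]
    exact orderOf_map_dvd (QuotientGroup.mk' C) g
  have hfpf : ∀ g : A, g ∉ C → ∀ f ∈ C, Commute g f → f = 1 := fun g hg f hf hc =>
    h.eq_one_of_commute (hout g hg) hc (hCr f hf)
  have hrC : ¬ r ∣ Nat.card C := by
    intro hd
    obtain ⟨g, hg⟩ := exists_prime_orderOf_dvd_card' r hd
    exact hCr g g.2 (by rw [Subgroup.orderOf_coe, hg])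
  refine ⟨C, inferInstance, hCcyc, ?_, hidx, hrC, fun g hg x hx hgx => ?_, fun g hg f hf hgf =>
    hfpf g hg f hf (mul_inv_eq_iff_eq_mul.1 hgf), hout⟩
  · have hyC : y ∉ C := fun hyC => hCr y hyC (hy ▸ dvd_rfl)
    have hne : C ≠ ⊥ := fun hb => hM (le_bot_iff.1 (hb ▸ hMC))
    obtain ⟨x, hx, hxy⟩ := exists_fixed_of_frobenius h.sq h.oddA C hne hCfree h.prime hy
      (fun f hf i hi hir hc => hfpf (y ^ i) (fun hyi => hCr _ hyi (by
        rw [Nat.Coprime.orderOf_pow, hy]
        rw [hy]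
        exact (h.prime.coprime_iff_not_dvd).2 fun hd =>
          absurd (Nat.le_of_dvd hi hd) (by omega))) f hf hc.symm)
    have hst : Nat.card (MulAction.stabilizer A x) = r := by
      set T := MulAction.stabilizer A x with hT
      refine le_antisymm ?_ ?_
      · rw [← hidx, Subgroup.index_eq_card]
        refine Nat.card_le_card_of_injective (fun g : T => ((g : A) : A ⧸ C)) fun g g' hgg => ?_
        refine Subtype.ext (inv_mul_eq_one.1 (by_contra fun h1 => hx (hCfree _
          (QuotientGroup.eq.1 hgg) h1 x ?_)))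
        exact MulAction.mem_stabilizer_iff.1 (T.mul_mem (T.inv_mem g.2) g'.2)
      · have hyT : y ∈ T := MulAction.mem_stabilizer_iff.2 hxy
        rw [← hy, ← Nat.card_zpowers]
        exact Nat.le_of_dvd Nat.card_pos
          (Subgroup.card_dvd_of_le (Subgroup.zpowers_le.2 hyT))
    have h1 := h.card_eq hx
    rw [hst, ← Subgroup.card_mul_index C, hidx] at h1
    have := Nat.eq_of_mul_eq_mul_right h.prime.pos h1
    have := h.big
    omega
  · by_contra hg1
    exact hx (hCfree g hg hg1 x hgx)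

end Main

/-- Odd order groups of automorphisms transitive on the involutions of an elementary abelian
`2`-group, with the element order restrictions at `r`: regular, or cyclic regular kernel with a
fixed point free complement of order `r`. -/
theorem aut_cases {S : Type u} {A : Type v} [Group S] [Finite S] [Group A] [Finite A]
    [MulDistribMulAction A S] [FaithfulSMul A S] {r : ℕ} (hr : r.Prime) (hr2 : Odd r)
    (hS : ∀ x : S, x * x = 1) (h8 : 8 ≤ Nat.card S) (hA : Odd (Nat.card A))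
    (htrans : ∀ x y : S, x ≠ 1 → y ≠ 1 → ∃ g : A, g • x = y)
    (hsep : ∀ g : A, r ∣ orderOf g → orderOf g = r)
    (hfix : ∀ (g : A) (x : S), x ≠ 1 → g • x = x → g ^ r = 1) :
    ((¬ r ∣ Nat.card A ∨ Nat.card A = r) ∧ Nat.card A + 1 = Nat.card S ∧
      (∀ (g : A) (x : S), x ≠ 1 → g • x = x → g = 1)) ∨
    ∃ F : Subgroup A, F.Normal ∧ IsCyclic F ∧ Nat.card F + 1 = Nat.card S ∧ F.index = r ∧
      ¬ r ∣ Nat.card F ∧ (∀ g ∈ F, ∀ x : S, x ≠ 1 → g • x = x → g = 1) ∧
      (∀ g : A, g ∉ F → ∀ f ∈ F, g * f * g⁻¹ = f → f = 1) ∧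
      (∀ g : A, g ∉ F → orderOf g = r) := by
  let _ : CommGroup S :=
    { (inferInstance : Group S) with
      mul_comm := fun a b => by
        have h1 : ∀ c : S, c⁻¹ = c := fun c => inv_eq_of_mul_eq_one_right (hS c)
        calc a * b = (a * b)⁻¹ := (h1 _).symm
          _ = b * a := by rw [mul_inv_rev, h1, h1] }
  have h : AutHyp S A r := ⟨hr, hr2, hS, h8, hA, htrans, hsep, hfix⟩
  by_cases hrA : r ∣ Nat.card A
  · haveI : Group.IsSolvable A := Cfsg.Agent.S0205.result hA
    have hA1 : Nat.card A ≠ 1 := fun h1 => hr.one_lt.ne' (Nat.dvd_one.1 (h1 ▸ hrA))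
    haveI : Nontrivial A :=
      Finite.one_lt_card_iff_nontrivial.1 (by have := Nat.card_pos (α := A); omega)
    obtain ⟨l, M, hl, hMn, hM1, hMc, hMl⟩ :=
      CfsgLib.Coprime.exists_normal_elementaryAbelian (G := A)
    haveI := hMn
    by_cases hlr : l = r
    · obtain ⟨h1, h2, h3⟩ := h.case_normal_r M hM1 hMc (hlr ▸ hMl)
      exact Or.inl ⟨Or.inr h1, h2, h3⟩
    · exact Or.inr (h.case_normal_prime hrA M hM1 hl hlr hMc hMl)
  · obtain ⟨h2, h3⟩ := h.regular_of_not_dvd hrA
    exact Or.inl ⟨Or.inl hrA, h2, h3⟩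

end CfsgLib.Recog.TwoR
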