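import Cfsg.Agent.Lib.Recog.TwoR.Defs
import Cfsg.Agent.Lib.Recog.EPPOTwo.Basic
import Cfsg.Agent.Lib.Base.Cores
import Cfsg.Agent.Lib.Base.MinimalNormal

/-!
Elementary consequences of the element-order hypothesis `Ord2r`.
-/

set_option autoImplicit false
set_option linter.dupNamespace false
set_option linter.style.haveILetI false
set_option linter.unusedSectionVars false

namespace CfsgLib.Recog.TwoR

universe u

variable {G : Type u} [Group G] {r : ℕ}

theorem Ord2r.two_lt (h : Ord2r G r) : 2 < r := by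
  have := h.prime.two_le
  obtain ⟨k, hk⟩ := h.odd
  omega

theorem Ord2r.coprime_two (h : Ord2r G r) : Nat.Coprime 2 r :=
  (Nat.coprime_primes Nat.prime_two h.prime).2 (by have := h.two_lt; omega)

theorem Ord2r.subgroup (h : Ord2r G r) (K : Subgroup G) : Ord2r K r where
  prime := h.prime
  odd := h.odd
  two g hg := by rw [← Subgroup.orderOf_coe] at hg ⊢; exact h.two _ hg
  rdvd g hg := by rw [← Subgroup.orderOf_coe] at hg ⊢; exact h.rdvd _ hg

theorem exists_orderOf_eq [Finite G] {Q : Type*} [Group Q] {f : G →* Q}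
    (hf : Function.Surjective f) (q : Q) : ∃ g : G, orderOf g = orderOf q := by
  obtain ⟨x, rfl⟩ := hf q
  have hd := orderOf_map_dvd f x
  obtain ⟨k, hk⟩ := hd
  refine ⟨x ^ k, ?_⟩
  have hk0 : k ≠ 0 := fun e => by
    rw [e, mul_zero] at hk
    exact (orderOf_pos x).ne' hk
  rw [orderOf_pow' x hk0, Nat.gcd_eq_right (Dvd.intro_left _ hk.symm)]
  nth_rw 1 [hk]
  rw [Nat.mul_div_cancel _ (Nat.pos_of_ne_zero hk0)]

theorem Ord2r.of_surjective [Finite G] (h : Ord2r G r) {Q : Type*} [Group Q] (f : G →* Q)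
    (hf : Function.Surjective f) : Ord2r Q r where
  prime := h.prime
  odd := h.odd
  two q hq := by
    obtain ⟨g, hg⟩ := exists_orderOf_eq hf q
    rw [← hg] at hq ⊢
    exact h.two g hq
  rdvd q hq := by
    obtain ⟨g, hg⟩ := exists_orderOf_eq hf q
    rw [← hg] at hq ⊢
    exact h.rdvd g hq

/-- A `2`-element squares to one. -/
theorem Ord2r.sq_eq_one (h : Ord2r G r) {x : G} {k : ℕ} (hx : x ^ 2 ^ k = 1) : x * x = 1 := by
  obtain ⟨j, -, hj⟩ := (Nat.dvd_prime_pow Nat.prime_two).1 (orderOf_dvd_of_pow_eq_one hx)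
  rcases j with _ | j
  · rw [pow_zero, orderOf_eq_one_iff] at hj
    rw [hj, one_mul]
  · rcases h.two x (hj ▸ dvd_pow_self 2 j.succ_ne_zero) with e | e
    · rw [← pow_two, ← e, pow_orderOf_eq_one]
    · exfalso
      have h1 : r ∣ 2 ^ (j + 1) := hj ▸ e ▸ dvd_mul_left r 2
      have h2 := (Nat.prime_dvd_prime_iff_eq h.prime Nat.prime_two).1 (h.prime.dvd_of_dvd_pow h1)
      have := h.two_lt
      omega

theorem Ord2r.mul_self_of_mem (h : Ord2r G r) {T : Subgroup G} (hT : IsPGroup 2 T) {x : G}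
    (hx : x ∈ T) : x * x = 1 := by
  obtain ⟨k, hk⟩ := hT ⟨x, hx⟩
  exact h.sq_eq_one (k := k) (congrArg Subtype.val hk)

theorem Ord2r.comm_of_mem (h : Ord2r G r) {T : Subgroup G} (hT : IsPGroup 2 T) {x y : G}
    (hx : x ∈ T) (hy : y ∈ T) : x * y = y * x := by
  have h1 := h.mul_self_of_mem hT (mul_mem hx hy)
  have h2 := h.mul_self_of_mem hT hx
  have h3 := h.mul_self_of_mem hT hy
  calc x * y = (x * y)⁻¹ := eq_inv_of_mul_eq_one_left h1
    _ = y⁻¹ * x⁻¹ := mul_inv_rev x y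
    _ = y * x := by rw [inv_eq_of_mul_eq_one_left h2, inv_eq_of_mul_eq_one_left h3]

theorem Ord2r.isMulCommutative (h : Ord2r G r) {T : Subgroup G} (hT : IsPGroup 2 T) :
    IsMulCommutative T :=
  ⟨⟨fun a b => Subtype.ext (h.comm_of_mem hT a.2 b.2)⟩⟩

/-- An element of odd order commuting with an involution has order dividing `r`. -/
theorem Ord2r.pow_r_of_commute_two (h : Ord2r G r) {t y : G} (ht : orderOf t = 2)
    (hy : Odd (orderOf y)) (hc : Commute t y) : y ^ r = 1 := by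
  have hco : (orderOf t).Coprime (orderOf y) := by rw [ht]; exact Nat.coprime_two_left.2 hy
  have ho := hc.orderOf_mul_eq_mul_orderOf_of_coprime hco
  rw [ht] at ho
  rcases h.two (t * y) (ho ▸ dvd_mul_right 2 _) with e | e
  · have h1 : orderOf y = 1 := by omega
    rw [orderOf_eq_one_iff.1 h1, one_pow]
  · have h1 : orderOf y = r := by omega
    rw [← h1, pow_orderOf_eq_one]

/-- The exponent of the centraliser of an element of order `r` divides `2r`. -/
theorem Ord2r.pow_two_r (h : Ord2r G r) {x y : G} (hx : orderOf x = r) (hc : Commute x y) :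
    y ^ (2 * r) = 1 := by
  by_cases hd : r ∣ orderOf y
  · rcases h.rdvd y hd with e | e
    · rw [mul_comm, pow_mul, ← e, pow_orderOf_eq_one, one_pow]
    · rw [← e, pow_orderOf_eq_one]
  · have hco : (orderOf x).Coprime (orderOf y) := hx ▸ h.prime.coprime_iff_not_dvd.2 hd
    have ho := hc.orderOf_mul_eq_mul_orderOf_of_coprime hco
    rw [hx] at ho
    rcases h.rdvd (x * y) (ho ▸ dvd_mul_right r _) with e | e
    · have h1 : orderOf y = 1 := Nat.eq_of_mul_eq_mul_left h.prime.pos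
        (by rw [← ho, e, mul_one])
      rw [orderOf_eq_one_iff.1 h1, one_pow]
    · have h1 : orderOf y = 2 := Nat.eq_of_mul_eq_mul_left h.prime.pos
        (by rw [← ho, e, mul_comm])
      rw [pow_mul, ← h1, pow_orderOf_eq_one, one_pow]

/-- The exponent of the centraliser of an involution divides `2r`. -/
theorem Ord2r.pow_two_r' [Finite G] (h : Ord2r G r) {t y : G} (ht : orderOf t = 2)
    (hc : Commute t y) : y ^ (2 * r) = 1 := by
  by_cases hd : 2 ∣ orderOf y
  · rcases h.two y hd with e | e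
    · rw [pow_mul, ← e, pow_orderOf_eq_one, one_pow]
    · rw [← e, pow_orderOf_eq_one]
  · rw [mul_comm, pow_mul, h.pow_r_of_commute_two ht
      (Nat.odd_iff.2 (Nat.two_dvd_ne_zero.1 hd)) hc, one_pow]

theorem Ord2r.commute_odd (h : Ord2r G r) {x y : G} (hx : orderOf x = r) (hy : Odd (orderOf y))
    (hc : Commute x y) : y ^ r = 1 := by
  have h1 := orderOf_dvd_of_pow_eq_one (h.pow_two_r hx hc)
  exact orderOf_dvd_iff_pow_eq_one.1 ((Nat.coprime_two_right.2 hy).dvd_of_dvd_mul_left h1)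

theorem orderOf_odd_of_card {A : Subgroup G} (hA : Odd (Nat.card A)) {a : G} (ha : a ∈ A) :
    Odd (orderOf a) :=
  hA.of_dvd_nat (Subgroup.orderOf_dvd_natCard A ha)

/-- An odd subgroup of exponent dividing `2r` is an `r`-group. -/
theorem Ord2r.isPGroup_of_exp (h : Ord2r G r) {A : Subgroup G} (hA : Odd (Nat.card A))
    (he : ∀ a ∈ A, a ^ (2 * r) = 1) : IsPGroup r A := fun a => by
  refine ⟨1, Subtype.ext ?_⟩
  rw [pow_one]
  exact orderOf_dvd_iff_pow_eq_one.1 ((Nat.coprime_two_right.2 (orderOf_odd_of_card hA a.2)).dvd_of_dvd_mul_left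
    (orderOf_dvd_of_pow_eq_one (he a a.2)))

theorem Ord2r.odd_card_of_isPGroup [Finite G] (h : Ord2r G r) {Q : Subgroup G} (hQ : IsPGroup r Q) :
    Odd (Nat.card Q) := by
  haveI : Fact r.Prime := ⟨h.prime⟩
  obtain ⟨n, hn⟩ := IsPGroup.iff_card.1 hQ
  rw [hn]
  exact h.odd.pow

theorem Ord2r.pow_r_of_mem (h : Ord2r G r) {Q : Subgroup G} (hQ : IsPGroup r Q) {x : G}
    (hx : x ∈ Q) : x ^ r = 1 := by
  obtain ⟨k, hk⟩ := hQ ⟨x, hx⟩
  obtain ⟨j, -, hj⟩ := (Nat.dvd_prime_pow h.prime).1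
    (orderOf_dvd_of_pow_eq_one (congrArg Subtype.val hk : x ^ r ^ k = 1))
  rcases j with _ | j
  · rw [pow_zero, orderOf_eq_one_iff] at hj
    rw [show x = 1 from hj, one_pow]
  · rcases h.rdvd x (hj ▸ dvd_pow_self r j.succ_ne_zero) with e | e
    · rw [← e, pow_orderOf_eq_one]
    · exfalso
      have h1 : 2 ∣ r ^ (j + 1) := hj ▸ e ▸ dvd_mul_right 2 r
      have h2 := Nat.prime_two.dvd_of_dvd_pow h1
      exact Nat.not_even_iff_odd.2 h.odd (even_iff_two_dvd.2 h2)

theorem Ord2r.orderOf_eq_r (h : Ord2r G r) {Q : Subgroup G} (hQ : IsPGroup r Q) {x : G}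
    (hx : x ∈ Q) (hx1 : x ≠ 1) : orderOf x = r := by
  haveI : Fact r.Prime := ⟨h.prime⟩
  exact orderOf_eq_prime (h.pow_r_of_mem hQ hx) hx1

section Exponent

variable [Finite G]

/-- A group of exponent dividing `2r` is soluble. -/
theorem isSolvable_of_exp (hr : r.Prime) (he : ∀ g : G, g ^ (2 * r) = 1) :
    Group.IsSolvable G := by
  refine EPPOTwo.isSolvable_of_card_primeFactors_le_two ((Finset.card_le_card (t := {2, r}) ?_).trans
    Finset.card_le_two)
  intro p hp
  have hpp := Nat.prime_of_mem_primeFactors hp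
  haveI : Fact p.Prime := ⟨hpp⟩
  obtain ⟨g, hg⟩ := exists_prime_orderOf_dvd_card' p (Nat.dvd_of_mem_primeFactors hp)
  rcases hpp.dvd_mul.1 (hg ▸ orderOf_dvd_of_pow_eq_one (he g)) with h1 | h1
  · simp [(Nat.prime_dvd_prime_iff_eq hpp Nat.prime_two).1 h1]
  · simp [(Nat.prime_dvd_prime_iff_eq hpp hr).1 h1]

theorem centralizer_pCore_le_quotient [Group.IsSolvable G] :
    Subgroup.centralizer (Cfsg.pCore 2 (G ⧸ Cfsg.pPrimeCore 2 G) : Set (G ⧸ Cfsg.pPrimeCore 2 G)) ≤
      Cfsg.pCore 2 (G ⧸ Cfsg.pPrimeCore 2 G) := by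
  haveI : Fact (Nat.Prime 2) := ⟨Nat.prime_two⟩
  exact Base.centralizer_pCore_le_of_isSolvable (Base.pPrimeCore_quotient_pPrimeCore 2 G)

/-- In a soluble group with an abelian Sylow `2`-subgroup, that subgroup together with the odd core
is normal. -/
theorem sylow_sup_core_normal [Group.IsSolvable G] (T : Sylow 2 G)
    (hab : ∀ a ∈ (T : Subgroup G), ∀ b ∈ (T : Subgroup G), a * b = b * a) :
    (Cfsg.pPrimeCore 2 G ⊔ (T : Subgroup G)).Normal := by
  haveI : Fact (Nat.Prime 2) := ⟨Nat.prime_two⟩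
  set O := Cfsg.pPrimeCore 2 G with hO
  set π := QuotientGroup.mk' O with hπ
  have hsurj : Function.Surjective π := QuotientGroup.mk'_surjective O
  let T' : Sylow 2 (G ⧸ O) := T.mapSurjective hsurj
  have hle : (T' : Subgroup (G ⧸ O)) ≤ Cfsg.pCore 2 (G ⧸ O) := by
    refine le_trans (fun x hx => Subgroup.mem_centralizer_iff.2 fun y hy => ?_)
      centralizer_pCore_le_quotient
    obtain ⟨a, ha, rfl⟩ : x ∈ (T : Subgroup G).map π := hx
    obtain ⟨b, hb, rfl⟩ : y ∈ (T : Subgroup G).map π := Base.pCore_le_sylow T' hy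
    rw [← map_mul, ← map_mul, hab a ha b hb]
  have heq : (T : Subgroup G).map π = Cfsg.pCore 2 (G ⧸ O) :=
    le_antisymm hle (Base.pCore_le_sylow T')
  have h2 : O ⊔ (T : Subgroup G) = (Cfsg.pCore 2 (G ⧸ O)).comap π := by
    rw [← heq, Subgroup.comap_map_eq, QuotientGroup.ker_mk', sup_comm]
  rw [h2]
  haveI : (Cfsg.pCore 2 (G ⧸ O)).Normal := Cfsg.pCore_normal 2 _
  infer_instance

/-- In a soluble group with an abelian Sylow `2`-subgroup, an element of odd order centralising it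
modulo the odd core lies in the odd core. -/
theorem mem_core_of_centralizes [Group.IsSolvable G] (T : Sylow 2 G)
    {x : G} (hx : Odd (orderOf x))
    (hc : ∀ a ∈ (T : Subgroup G), a⁻¹ * x⁻¹ * a * x ∈ Cfsg.pPrimeCore 2 G) :
    x ∈ Cfsg.pPrimeCore 2 G := by
  haveI : Fact (Nat.Prime 2) := ⟨Nat.prime_two⟩
  set O := Cfsg.pPrimeCore 2 G with hO
  set π := QuotientGroup.mk' O with hπ
  have hsurj : Function.Surjective π := QuotientGroup.mk'_surjective O
  let T' : Sylow 2 (G ⧸ O) := T.mapSurjective hsurj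
  have h1 : π x ∈ Cfsg.pCore 2 (G ⧸ O) := by
    refine centralizer_pCore_le_quotient (Subgroup.mem_centralizer_iff.2 fun y hy => ?_)
    obtain ⟨a, ha, rfl⟩ : y ∈ (T : Subgroup G).map π := Base.pCore_le_sylow T' hy
    rw [← map_mul, ← map_mul]
    refine ((QuotientGroup.eq).2 ?_).symm
    rw [mul_inv_rev, show a⁻¹ * x⁻¹ * (a * x) = a⁻¹ * x⁻¹ * a * x by group]
    exact hc a ha
  obtain ⟨k, hk⟩ := Base.isPGroup_pCore 2 (G ⧸ O) ⟨π x, h1⟩
  have h2 : orderOf (π x) ∣ 2 ^ k := orderOf_dvd_of_pow_eq_one (congrArg Subtype.val hk)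
  have h3 : orderOf (π x) = 1 := Nat.eq_one_of_dvd_coprimes
    (Nat.Coprime.pow_left k (Nat.coprime_two_left.2 hx)) h2 (orderOf_map_dvd π x)
  exact (QuotientGroup.eq_one_iff x).1 (orderOf_eq_one_iff.1 h3)

end Exponent

end CfsgLib.Recog.TwoR
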