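import Cfsg.Agent.Lib.Recog.TwoR.KeyLemmas
import Cfsg.Agent.Lib.Recog.CIT.Main
import Cfsg.Agent.Lib.Recog.ProjSpectrum
import Cfsg.Agent.Lib.Classical.Order

/-!
A normal simple subgroup with trivial centraliser and no element of order `2r` is the whole group.
-/

set_option autoImplicit false
set_option linter.dupNamespace false
set_option linter.style.haveILetI false
set_option linter.unusedSectionVars false

open scoped Pointwise

namespace CfsgLib.Recog.TwoR.CitNormal

open CfsgLib.Recog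

universe u

/-- Fixed points of an automorphism of prime exponent on an invariant set. -/
theorem fixed_modEq {M α : Type*} [Group M] [Finite M] [MulAction M α] [Finite α] {g : M} {p : ℕ}
    (hp : p.Prime) (hg : g ^ p = 1) (s : Set α) (hs : ∀ x ∈ s, g • x ∈ s) :
    s.ncard ≡ {x | x ∈ s ∧ g • x = x}.ncard [MOD p] := by
  haveI := Fact.mk hp
  have hinv : ∀ z ∈ Subgroup.zpowers g, ∀ x ∈ s, z • x ∈ s := by
    intro z hz
    obtain ⟨n, rfl⟩ := ((isOfFinOrder_of_finite g).mem_powers_iff_mem_zpowers).2 hz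
    induction n with
    | zero => intro x hx; simpa using hx
    | succ n ih =>
      intro x hx
      simp only at ih ⊢
      rw [pow_succ, mul_smul]
      exact ih ((isOfFinOrder_of_finite g).mem_powers_iff_mem_zpowers.1 ⟨n, rfl⟩) _ (hs x hx)
  let K := Subgroup.zpowers g
  let Y : SubMulAction K α := ⟨s, fun z x hx => hinv z z.2 x hx⟩
  have hK : IsPGroup p K := fun z => ⟨1, by
    obtain ⟨n, hn⟩ := Subgroup.mem_zpowers_iff.1 z.2
    refine Subtype.ext ?_
    rw [pow_one, Subgroup.coe_pow, ← hn, Subgroup.coe_one, ← zpow_natCast, ← zpow_mul, mul_comm,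
      zpow_mul, zpow_natCast, hg, one_zpow]⟩
  have h1 := hK.card_modEq_card_fixedPoints Y
  have h2 : Nat.card (MulAction.fixedPoints K Y) = {x | x ∈ s ∧ g • x = x}.ncard := by
    rw [← Nat.card_coe_set_eq {x | x ∈ s ∧ g • x = x}]
    exact Nat.card_congr
      { toFun := fun y => ⟨((y : Y) : α), (y : Y).2,
          congrArg Subtype.val (y.2 ⟨g, Subgroup.mem_zpowers g⟩)⟩
        invFun := fun x => ⟨⟨x.1, x.2.1⟩, fun z => Subtype.ext
          (MulAction.mem_stabilizer_iff.1 ((Subgroup.zpowers_le.2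
            (show g ∈ MulAction.stabilizer M x.1 from x.2.2)) z.2))⟩
        left_inv := fun y => rfl
        right_inv := fun x => rfl }
  rw [h2] at h1
  exact (Nat.card_coe_set_eq s).symm ▸ h1

theorem exists_four_PSL_three {F : Type*} [Field F] [Fintype F] (hF : Fintype.card F = 4) :
    ∃ x : Matrix.ProjectiveSpecialLinearGroup (Fin 3) F, orderOf x = 4 := by
  classical
  haveI : Fact (Nat.Prime 2) := ⟨Nat.prime_two⟩
  obtain ⟨c, hc⟩ := CharP.exists F
  obtain ⟨n, hcp, hn⟩ := FiniteField.card F c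
  rw [hF] at hn
  have := (Nat.prime_dvd_prime_iff_eq Nat.prime_two hcp).1
    (Nat.prime_two.dvd_of_dvd_pow (hn ▸ (by norm_num : 2 ∣ 4)))
  subst this
  have h2 : (2 : F) = 0 := CharTwo.two_eq_zero
  let M : Matrix (Fin 3) (Fin 3) F := !![1, 1, 0; 0, 1, 1; 0, 0, 1]
  let g : Matrix.SpecialLinearGroup (Fin 3) F := ⟨M, by simp [M, Matrix.det_fin_three]⟩
  have hM2 : M ^ 2 = !![1, 0, 1; 0, 1, 0; 0, 0, 1] := by
    ext i j
    fin_cases i <;> fin_cases j <;>
      simp [M, pow_two, Matrix.mul_apply, Fin.sum_univ_three] <;> linear_combination h2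
  refine ⟨QuotientGroup.mk' _ g, orderOf_eq_prime_pow (p := 2) (n := 1) ?_ ?_⟩
  · rw [pow_one, ← map_pow]
    intro h
    have hz := (QuotientGroup.eq_one_iff _).1 h
    obtain ⟨r, -, hr⟩ := Matrix.SpecialLinearGroup.mem_center_iff.1 hz
    rw [Matrix.SpecialLinearGroup.coe_pow] at hr
    change _ = M ^ 2 at hr
    rw [hM2] at hr
    have h02 := congrFun (congrFun hr 0) 2
    simp at h02
  · rw [← map_pow]
    refine (QuotientGroup.eq_one_iff _).2 ?_
    suffices g ^ (2 ^ (1 + 1)) = 1 by rw [this]; exact one_mem _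
    apply Subtype.ext
    rw [Matrix.SpecialLinearGroup.coe_pow, Matrix.SpecialLinearGroup.coe_one]
    change M ^ (2 * 2) = 1
    rw [pow_mul, hM2]
    ext i j
    fin_cases i <;> fin_cases j <;>
      simp [pow_two, Matrix.mul_apply, Fin.sum_univ_three]
    linear_combination h2

theorem exists_fixed {M α : Type*} [Group M] [Finite M] [MulAction M α] [Finite α] {g : M} {p : ℕ}
    (hp : p.Prime) (hg : g ^ p = 1) (s : Set α) (hs : ∀ x ∈ s, g • x ∈ s) (hd : ¬ p ∣ s.ncard) :
    ∃ x ∈ s, g • x = x := by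
  by_contra hno
  have h1 := fixed_modEq hp hg s hs
  rw [show {x | x ∈ s ∧ g • x = x} = ∅ from Set.eq_empty_iff_forall_notMem.2
    fun x hx => hno ⟨x, hx⟩, Set.ncard_empty] at h1
  exact hd (Nat.modEq_zero_iff_dvd.1 h1)

variable {G : Type u} [Group G] [Finite G] {r : ℕ} (h : Ord2r G r) (E : Subgroup G) [E.Normal]

/-- Conjugation on the normal subgroup. -/
noncomputable def φ : G →* MulAut E := MulAut.conjNormal

theorem φ_apply_eq_iff (g : G) (x : E) : φ E g x = x ↔ Commute g (x : G) := by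
  rw [Subtype.ext_iff, φ, MulAut.conjNormal_apply, mul_inv_eq_iff_eq_mul]
  rfl

variable (hE : ∀ x ∈ E, orderOf x ≠ 2 * r)

include h hE

theorem order_two {x : E} (hx : 2 ∣ orderOf x) : orderOf x = 2 := by
  rw [← Subgroup.orderOf_coe] at hx ⊢
  exact (h.two _ hx).resolve_right (hE _ x.2)

theorem sq_of_commute {t y : E} (ht : orderOf t = 2) (hc : Commute t y) : y * y = 1 := by
  by_cases hd : 2 ∣ orderOf y
  · rw [← pow_two, ← order_two h E hE hd, pow_orderOf_eq_one]
  · have hco : (orderOf t).Coprime (orderOf y) := by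
      rw [ht]
      exact Nat.prime_two.coprime_iff_not_dvd.2 hd
    have ho := hc.orderOf_mul_eq_mul_orderOf_of_coprime hco
    rw [ht] at ho
    have h1 := order_two h E hE (x := t * y) (ho ▸ dvd_mul_right 2 _)
    rw [h1] at ho
    have h2 : orderOf y = 1 := by omega
    rw [orderOf_eq_one_iff.1 h2, mul_one]

theorem cit : CIT.CIT E := fun t ht y =>
  ⟨1, Subtype.ext (by
    rw [pow_one, pow_two, Subgroup.coe_mul, Subgroup.coe_one]
    exact sq_of_commute h E hE ht (Subgroup.mem_centralizer_singleton_iff.1 y.2).symm)⟩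

theorem sq_of_mem {P : Subgroup E} (hP : IsPGroup 2 P) {x : E} (hx : x ∈ P) : x * x = 1 := by
  obtain ⟨k, hk⟩ := hP ⟨x, hx⟩
  refine Subtype.ext ?_
  rw [Subgroup.coe_mul, Subgroup.coe_one]
  exact h.sq_eq_one (k := k) (congrArg (fun z : P => ((z : E) : G)) hk)

theorem orderOf_of_mem {P : Subgroup E} (hP : IsPGroup 2 P) {x : E} (hx : x ∈ P) (hx1 : x ≠ 1) :
    orderOf x = 2 := by
  haveI : Fact (Nat.Prime 2) := ⟨Nat.prime_two⟩
  exact orderOf_eq_prime (by rw [pow_two]; exact sq_of_mem h E hE hP hx) hx1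

variable [IsSimpleGroup E] (hnab : ∃ a b : E, a * b ≠ b * a)
include hnab

/-- The data of `E`. -/
theorem exists_data : ∃ (S D : Subgroup E) (q : ℕ), CIT.SEData E S D q ∧ Nat.card S = q ∧
    (∀ n, n ∣ q + 1 → ∃ x : E, orderOf x = n) := by
  classical
  rcases CIT.known_of_cit hnab (cit h E hE) with ⟨⟨S, D, q, hd⟩, hk⟩ | hodd | hL
  · have hS : Nat.card S = q := by
      have h1 : Nat.card {t : E // t ∈ S ∧ orderOf t = 2} = Nat.card {x : S // x ≠ 1} :=
        Nat.card_congr
          { toFun := fun t => ⟨⟨t.1, t.2.1⟩, fun e => by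
              have h3 := t.2.2
              rw [show t.1 = 1 from congrArg Subtype.val e, orderOf_one] at h3
              omega⟩
            invFun := fun x => ⟨(x.1 : E), x.1.2,
              orderOf_of_mem h E hE hd.isP x.1.2 fun e => x.2 (Subtype.ext e)⟩
            left_inv := fun t => rfl
            right_inv := fun x => rfl }
      have h2 : Nat.card {x : S // x = 1} + Nat.card {x : S // x ≠ 1} = Nat.card S := by
        rw [← Nat.card_sum]; exact Nat.card_congr (Equiv.sumCompl _)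
      rw [Nat.card_unique, ← h1, hd.card_invol] at h2
      have := hd.four_le
      omega
    rcases hk with ⟨F, _, _, ⟨n, hn, hF⟩, ⟨e⟩⟩ | hsz
    · refine ⟨S, D, q, hd, hS, fun m hm => ?_⟩
      have hq := hd.four_le
      obtain ⟨i, hi⟩ := hd.isPow
      have hFq : Fintype.card F = q := by
        have h1 : Nat.card E = Fintype.card F * (Fintype.card F ^ 2 - 1) := by
          rw [Nat.card_congr e.toEquiv, Classical.card_PSL_two,
            Classical.gcd_two_card_sub_one_of_even, Nat.div_one, Nat.card_eq_fintype_card]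
          rw [Nat.card_eq_fintype_card, hF]
          exact (Nat.even_pow.2 ⟨even_two, by omega⟩)
        have h2 : Nat.card E = q * (q ^ 2 - 1) := by
          rw [hd.card_G, hS]
          obtain ⟨w, rfl⟩ : ∃ w, q = w + 1 := ⟨q - 1, by omega⟩
          rw [show (w + 1) ^ 2 = w * (w + 1 + 1) + 1 by ring, Nat.add_sub_cancel,
            Nat.add_sub_cancel]
          ring
        have hmono : ∀ a b : ℕ, 1 ≤ a → a < b → a * (a ^ 2 - 1) < b * (b ^ 2 - 1) := by
          intro a b ha hab
          have h3 : a ^ 2 < b ^ 2 := Nat.pow_lt_pow_left hab two_ne_zero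
          have h4 : 1 ≤ a ^ 2 := Nat.one_le_pow _ _ ha
          exact Nat.mul_lt_mul_of_lt_of_lt hab (by omega)
        have hF1 : 1 ≤ Fintype.card F := Fintype.card_pos
        rcases lt_trichotomy (Fintype.card F) q with hlt | heq | hgt
        · have := hmono _ _ hF1 hlt; omega
        · exact heq
        · have := hmono _ _ (by omega) hgt; omega
      haveI : Fact (Nat.Prime 2) := ⟨Nat.prime_two⟩
      obtain ⟨c, hc⟩ := CharP.exists F
      obtain ⟨k, hcp, hk⟩ := FiniteField.card F c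
      have hc2 : c = 2 := by
        rw [hF] at hk
        exact ((Nat.prime_dvd_prime_iff_eq Nat.prime_two hcp).1
          (Nat.prime_two.dvd_of_dvd_pow (hk ▸ dvd_pow_self 2 (by omega : n ≠ 0)))).symm
      subst hc2
      have hd1 : Recog.dTwo F = 1 := by
        unfold Recog.dTwo
        rw [if_pos]
        rw [hF]
        exact Nat.even_pow.2 ⟨even_two, by omega⟩
      obtain ⟨x, hx⟩ : m ∈ Set.range (orderOf :
          Matrix.ProjectiveSpecialLinearGroup (Fin 2) F → ℕ) := by
        rw [Recog.range_orderOf_PSL_two (F := F) 2, hd1, Nat.div_one, Nat.div_one, hFq]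
        exact Or.inr (Or.inr hm)
      exact ⟨e.symm x, by rw [← hx]; exact e.symm.orderOf_eq x⟩
    · exact absurd (fun x hx => sq_of_mem h E hE hd.isP hx) (CIT.exists_n hd hsz).2.2
  · exfalso
    obtain ⟨-, M, -, -, ⟨e⟩, -, -⟩ := hodd
    have h4 : orderOf (finRotate 4) = 4 := by
      refine orderOf_eq_prime_pow (p := 2) (n := 1) ?_ ?_ <;> decide +kernel
    have h1 : orderOf ((e.symm (finRotate 4) : M) : E) = 4 := by
      rw [Subgroup.orderOf_coe, MulEquiv.orderOf_eq, h4]
    have := order_two h E hE (x := ((e.symm (finRotate 4) : M) : E)) (by rw [h1]; norm_num)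
    omega
  · exfalso
    obtain ⟨F, _, _, hF, ⟨e⟩⟩ := hL
    obtain ⟨x, hx⟩ := exists_four_PSL_three (F := F) hF
    have h1 : orderOf (e.symm x) = 4 := by rw [MulEquiv.orderOf_eq, hx]
    have := order_two h E hE (x := e.symm x) (by rw [h1]; norm_num)
    omega

section Data

variable {S D : Subgroup E} {q : ℕ} (hd : CIT.SEData E S D q) (hS : Nat.card S = q)
include hd hS

theorem two_dvd_q : 2 ∣ q := by
  obtain ⟨n, hn⟩ := hd.isPow
  have := hd.four_le
  rcases n with _ | n
  · omega
  · exact ⟨2 ^ n, by rw [hn, pow_succ, mul_comm]⟩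

theorem not_dvd_q : ¬ r ∣ q := by
  intro hr
  obtain ⟨n, hn⟩ := hd.isPow
  have h1 := (Nat.prime_dvd_prime_iff_eq h.prime Nat.prime_two).1
    (h.prime.dvd_of_dvd_pow (hn ▸ hr))
  have := h.two_lt
  omega

/-- The distinguished Sylow subgroup. -/
def base : Sylow 2 E where
  toSubgroup := S
  isPGroup' := hd.isP
  is_maximal' := fun hQ hle => hd.maxP _ hQ hle

theorem card_sylow_eq (P : Sylow 2 E) : Nat.card (P : Subgroup E) = q := by
  haveI : Fact (Nat.Prime 2) := ⟨Nat.prime_two⟩
  rw [P.card_eq_multiplicity, ← (base E hd).card_eq_multiplicity]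
  exact hS

theorem card_sylow : Nat.card (Sylow 2 E) = q + 1 := by
  haveI : Fact (Nat.Prime 2) := ⟨Nat.prime_two⟩
  rw [(base E hd).card_eq_index_normalizer]
  have h1 := Subgroup.card_mul_index (Subgroup.normalizer (S : Set E))
  rw [hd.card_norm, hd.card_G, hS] at h1
  have := hd.four_le
  exact Nat.eq_of_mul_eq_mul_left (Nat.mul_pos (by omega) (by omega : 0 < q - 1))
    (h1.trans (by ring))

theorem centralizer_sylow (P : Sylow 2 E) {t : E} (ht : t ∈ (P : Subgroup E)) (ht1 : t ≠ 1)
    (y : E) : y ∈ (P : Subgroup E) ↔ Commute t y := by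
  haveI : Fact (Nat.Prime 2) := ⟨Nat.prime_two⟩
  obtain ⟨g, hg⟩ := MulAction.exists_smul_eq E (base E hd) P
  have hmem : ∀ z : E, z ∈ (P : Subgroup E) ↔ g⁻¹ * z * g ∈ S := by
    intro z
    rw [← hg, Sylow.coe_subgroup_smul, Subgroup.mem_pointwise_smul_iff_inv_smul_mem]
    simp [base, MulAut.smul_def]
  rw [hmem] at ht ⊢
  have ht2 : orderOf (g⁻¹ * t * g) = 2 := orderOf_of_mem h E hE hd.isP ht fun e => ht1 (by
    calc t = g * (g⁻¹ * t * g) * g⁻¹ := by group
      _ = 1 := by rw [e]; group)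
  rw [← hd.centralizer_eq _ ht ht2, Subgroup.mem_centralizer_singleton_iff]
  constructor
  · intro hc
    calc t * y = g * ((g⁻¹ * t * g) * (g⁻¹ * y * g)) * g⁻¹ := by group
      _ = g * ((g⁻¹ * y * g) * (g⁻¹ * t * g)) * g⁻¹ := by rw [hc]
      _ = y * t := by group
  · intro hc
    calc g⁻¹ * y * g * (g⁻¹ * t * g) = g⁻¹ * (y * t) * g := by group
      _ = g⁻¹ * (t * y) * g := by rw [hc.eq]
      _ = g⁻¹ * t * g * (g⁻¹ * y * g) := by group

theorem sylow_eq (P Q : Sylow 2 E) {t : E} (hP : t ∈ (P : Subgroup E))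
    (hQ : t ∈ (Q : Subgroup E)) (ht1 : t ≠ 1) : P = Q :=
  Sylow.ext (SetLike.ext fun y =>
    (centralizer_sylow h E hE hnab hd hS P hP ht1 y).trans
      (centralizer_sylow h E hE hnab hd hS Q hQ ht1 y).symm)

theorem ncard_punctured (P : Sylow 2 E) :
    {x : E | x ∈ (P : Subgroup E) ∧ x ≠ 1}.ncard = q - 1 := by
  rw [show {x : E | x ∈ (P : Subgroup E) ∧ x ≠ 1} = ((P : Subgroup E) : Set E) \ {1} from rfl,
    Set.ncard_sdiff_singleton_of_mem (SetLike.mem_coe.2 (one_mem (P : Subgroup E))), ← Nat.card_coe_set_eq]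
  exact congrArg (· - 1) (card_sylow_eq h E hE hnab hd hS P)

theorem smul_sylow_of_commute (P : Sylow 2 E) {g : G} {t : E} (ht : t ∈ (P : Subgroup E))
    (ht1 : t ≠ 1) (hc : Commute g (t : G)) : φ E g • P = P := by
  refine sylow_eq h E hE hnab hd hS _ _ ?_ ht ht1
  have h1 := Subgroup.smul_mem_pointwise_smul t (φ E g) (P : Subgroup E) ht
  rw [MulAut.smul_def, (φ_apply_eq_iff E g t).2 hc] at h1
  exact h1

theorem mapsTo_punctured (P : Sylow 2 E) {g : G} (hP : φ E g • P = P) :
    ∀ x ∈ {x : E | x ∈ (P : Subgroup E) ∧ x ≠ 1},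
      φ E g • x ∈ {x : E | x ∈ (P : Subgroup E) ∧ x ≠ 1} := by
  rintro x ⟨hx, hx1⟩
  refine ⟨?_, fun e => hx1 ?_⟩
  · have h1 := Subgroup.smul_mem_pointwise_smul x (φ E g) (P : Subgroup E) hx
    rwa [← Sylow.pointwise_smul_def, hP] at h1
  · rwa [MulAut.smul_def, map_eq_one_iff _ (φ E g).injective] at e

/-- An automorphism of order dividing `r` with a fixed involution in a Sylow subgroup on at most
`r` involutions centralises it. -/
theorem commute_of_small (P : Sylow 2 E) (hq : q - 1 ≤ r) {g : G} (hg : g ^ r = 1)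
    (hP : φ E g • P = P) {t : E} (ht : t ∈ (P : Subgroup E)) (ht1 : t ≠ 1)
    (hc : Commute g (t : G)) {x : E} (hx : x ∈ (P : Subgroup E)) : Commute g (x : G) := by
  rcases eq_or_ne x 1 with rfl | hx1
  · exact Commute.one_right g
  set s := {x : E | x ∈ (P : Subgroup E) ∧ x ≠ 1} with hs
  set f := {x | x ∈ s ∧ φ E g • x = x} with hf
  have hmod : s.ncard ≡ f.ncard [MOD r] :=
    fixed_modEq h.prime (by rw [← map_pow, hg, map_one]) s (mapsTo_punctured h E hE hnab hd hS P hP)
  have hle : f ⊆ s := fun z hz => hz.1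
  have hpos : 0 < f.ncard :=
    (Set.ncard_pos (Set.toFinite _)).2 ⟨t, ⟨ht, ht1⟩, (φ_apply_eq_iff E g t).2 hc⟩
  have hle' := Set.ncard_le_ncard hle (Set.toFinite _)
  have hsr : s.ncard ≤ r := (ncard_punctured h E hE hnab hd hS P).le.trans hq
  have heq : f.ncard = s.ncard := by
    obtain ⟨c, hc'⟩ := (Nat.modEq_iff_dvd' hle').1 hmod.symm
    rcases c with _ | c
    · omega
    · rw [Nat.mul_succ] at hc'
      omega
  have hfs : f = s := Set.eq_of_subset_of_ncard_le hle heq.ge (Set.toFinite _)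
  have hxf : x ∈ f := hfs.symm ▸ (show x ∈ s from ⟨hx, hx1⟩)
  exact (φ_apply_eq_iff E g x).1 hxf.2

variable (hC : Subgroup.centralizer (E : Set G) = ⊥)
  (hm : ∀ n, n ∣ q + 1 → ∃ x : E, orderOf x = n)
include hC hm

/-- No element of order `r` centralises an involution of `E`. -/
theorem not_commute_r {g : G} (hg : orderOf g = r) {t : E} (ht : orderOf t = 2)
    (hc : Commute g (t : G)) : False := by
  classical
  haveI : Fact (Nat.Prime 2) := ⟨Nat.prime_two⟩
  obtain ⟨P, hP⟩ := (IsPGroup.of_card (n := 1) (G := Subgroup.zpowers t)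
    (by rw [Nat.card_zpowers, ht, pow_one])).exists_le_sylow
  have htP : t ∈ (P : Subgroup E) := hP (Subgroup.mem_zpowers t)
  have ht1 : t ≠ 1 := fun e => by rw [e, orderOf_one] at ht; omega
  have hgr : g ^ r = 1 := hg ▸ pow_orderOf_eq_one g
  have hφr : φ E g ^ r = 1 := by rw [← map_pow, hgr, map_one]
  have hfixP := smul_sylow_of_commute h E hE hnab hd hS P htP ht1 hc
  -- a second fixed Sylow subgroup
  obtain ⟨Q, hQP, hfixQ⟩ : ∃ Q : Sylow 2 E, Q ≠ P ∧ φ E g • Q = Q := by
    by_contra hno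
    have h1 := fixed_modEq h.prime hφr (Set.univ : Set (Sylow 2 E)) fun x _ => Set.mem_univ _
    have h2 : {x : Sylow 2 E | x ∈ Set.univ ∧ φ E g • x = x} = {P} := by
      ext x
      simp only [Set.mem_univ, true_and, Set.mem_ofPred_eq, Set.mem_singleton_iff]
      exact ⟨fun hx => by_contra fun hne => hno ⟨x, hne, hx⟩, fun hx => hx ▸ hfixP⟩
    rw [h2, Set.ncard_univ, card_sylow h E hE hnab hd hS, Set.ncard_singleton] at h1
    exact not_dvd_q h E hE hnab hd hS (Nat.modEq_zero_iff_dvd.1 (Nat.ModEq.add_right_cancel' 1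
      (h1.trans (by simp [Nat.ModEq.refl]))))
  have hq := hd.four_le
  have hsmall : q - 1 ≤ r := by
    by_cases hr1 : r ∣ q - 1
    · haveI : Fact r.Prime := ⟨h.prime⟩
      haveI := hd.cyclic_D
      obtain ⟨x, hx⟩ := exists_prime_orderOf_dvd_card' (G := D) r (by rw [hd.card_D]; exact hr1)
      obtain ⟨d, hdd⟩ := IsCyclic.exists_ofOrder_eq_natCard (α := D)
      have hodd : Odd (orderOf d) := by
        rw [hdd, hd.card_D]
        obtain ⟨w, hw⟩ := two_dvd_q h E hE hnab hd hS
        exact ⟨w - 1, by omega⟩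
      have hodd' : Odd (orderOf ((d : E) : G)) := by
        rwa [Subgroup.orderOf_coe, Subgroup.orderOf_coe]
      have h1 := h.commute_odd (x := ((x : E) : G)) (y := ((d : E) : G))
        (by rw [Subgroup.orderOf_coe, Subgroup.orderOf_coe, hx]) hodd' ?_
      · have h2 := Nat.le_of_dvd h.prime.pos (orderOf_dvd_of_pow_eq_one h1)
        rwa [Subgroup.orderOf_coe, Subgroup.orderOf_coe, hdd, hd.card_D] at h2
      · letI := IsCyclic.commGroup (α := D)
        exact congrArg (fun z : D => ((z : E) : G)) (mul_comm x d)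
    · obtain ⟨t', ⟨ht'Q, ht'1⟩, ht'⟩ := exists_fixed h.prime hφr _
        (mapsTo_punctured h E hE hnab hd hS Q hfixQ)
        (by rw [ncard_punctured h E hE hnab hd hS Q]; exact hr1)
      have hc' : Commute g (t' : G) := (φ_apply_eq_iff E g t').1 ht'
      have hne : ¬ Commute t t' := fun hcc =>
        hQP (sylow_eq h E hE hnab hd hS Q P ht'Q
          ((centralizer_sylow h E hE hnab hd hS P htP ht1 t').2 hcc) ht'1)
      have hz2r : ((t * t' : E) : G) ^ (2 * r) = 1 := h.pow_two_r hg (hc.mul_right hc')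
      have hzr : orderOf (t * t') = r := by
        by_cases he : 2 ∣ orderOf (t * t')
        · refine absurd ?_ hne
          have h2 := order_two h E hE he
          have h3 : (t * t') * (t * t') = 1 := by rw [← pow_two, ← h2, pow_orderOf_eq_one]
          have ht2 := sq_of_mem h E hE P.2 htP
          have ht'2 := sq_of_mem h E hE Q.2 ht'Q
          calc t * t' = (t * t')⁻¹ := eq_inv_of_mul_eq_one_left h3
            _ = t'⁻¹ * t⁻¹ := mul_inv_rev t t'
            _ = t' * t := by rw [inv_eq_of_mul_eq_one_left ht2, inv_eq_of_mul_eq_one_left ht'2]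
        · have h4 : orderOf (t * t') ∣ r := by
            refine ((Nat.prime_two.coprime_iff_not_dvd.2 he).symm).dvd_of_dvd_mul_left ?_
            rw [← Subgroup.orderOf_coe]
            exact orderOf_dvd_of_pow_eq_one hz2r
          rcases (Nat.dvd_prime h.prime).1 h4 with h5 | h5
          · exact absurd (by
              rw [eq_inv_of_mul_eq_one_right (orderOf_eq_one_iff.1 h5)]
              exact (Commute.refl t).inv_right) hne
          · exact h5
      have hdvd : r ∣ (q + 1) * q * (q - 1) := by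
        have := orderOf_dvd_natCard (t * t')
        rwa [hzr, hd.card_G, hS] at this
      have hq1 : r ∣ q + 1 := by
        rcases h.prime.dvd_mul.1 hdvd with h6 | h6
        · exact (h.prime.dvd_mul.1 h6).resolve_right (not_dvd_q h E hE hnab hd hS)
        · exact absurd h6 hr1
      obtain ⟨x, hx⟩ := hm (q + 1) dvd_rfl
      rcases h.rdvd (x : G) (by rw [Subgroup.orderOf_coe, hx]; exact hq1) with h7 | h7 <;>
        rw [Subgroup.orderOf_coe, hx] at h7
      · omega
      · obtain ⟨w, hw⟩ := two_dvd_q h E hE hnab hd hS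
        omega
  have hall : ∀ x : E, x ∈ (P : Subgroup E) → Commute g (x : G) := fun x hx =>
    commute_of_small h E hE hnab hd hS P hsmall hgr hfixP htP ht1 hc hx
  have hsm : ∀ (a : E) (R : Sylow 2 E), φ E g • (a • R) = φ E g a • (φ E g • R) := fun a R => by
    have h1 : φ E g * MulAut.conj a = MulAut.conj (φ E g a) * φ E g := by
      ext x
      simp [MulAut.conj_apply]
    rw [Sylow.smul_def, Sylow.smul_def, ← mul_smul, h1, mul_smul]
  -- all Sylow subgroups are fixed
  have hfix : ∀ R : Sylow 2 E, φ E g • R = R := by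
    let f : ↥(P : Subgroup E) → {R : Sylow 2 E // R ≠ P} := fun s => ⟨(s : E) • Q, fun e => hQP (by
      rw [eq_inv_smul_iff.2 e, Sylow.smul_eq_iff_mem_normalizer]
      exact Subgroup.le_normalizer (inv_mem s.2))⟩
    have hinj : Function.Injective f := by
      intro s s' hss
      have h1 : ((s' : E)⁻¹ * s) • Q = Q := by
        rw [mul_smul, inv_smul_eq_iff]
        exact congrArg Subtype.val hss
      rw [Sylow.smul_eq_iff_mem_normalizer] at h1
      have h2 : (s' : E)⁻¹ * s ∈ (P : Subgroup E) := mul_mem (inv_mem s'.2) s.2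
      have h3 : (s' : E)⁻¹ * s ∈ (P : Subgroup E) ⊓ (Q : Subgroup E) :=
        P.2.inf_normalizer_sylow Q ▸ ⟨h2, h1⟩
      by_contra hne
      refine hQP (sylow_eq h E hE hnab hd hS Q P h3.2 h3.1 fun e => hne ?_)
      exact Subtype.ext (inv_mul_eq_one.1 e).symm
    have hsurj : Function.Surjective f := by
      refine ((Nat.bijective_iff_injective_and_card f).2 ⟨hinj, ?_⟩).2
      rw [card_sylow_eq h E hE hnab hd hS P]
      have h2 : Nat.card {R : Sylow 2 E // R = P} + Nat.card {R : Sylow 2 E // R ≠ P} =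
          Nat.card (Sylow 2 E) := by
        rw [← Nat.card_sum]; exact Nat.card_congr (Equiv.sumCompl _)
      rw [Nat.card_unique, card_sylow h E hE hnab hd hS] at h2
      omega
    intro R
    rcases eq_or_ne R P with rfl | hR
    · exact hfixP
    · obtain ⟨s, hs⟩ := hsurj ⟨R, hR⟩
      obtain rfl : (s : E) • Q = R := congrArg Subtype.val hs
      rw [hsm, hfixQ, (φ_apply_eq_iff E g (s : E)).2 (hall _ s.2)]
  set H := Subgroup.normalizer ((P : Subgroup E) : Set E) with hH
  let c : E → E := fun a => a⁻¹ * φ E g a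
  have hcH : ∀ a : E, c a ∈ H := fun a => by
    refine Sylow.smul_eq_iff_mem_normalizer.1 ?_
    rw [mul_smul, inv_smul_eq_iff]
    have h1 := hfix (a • P)
    rwa [hsm, hfixP] at h1
  have hcore : ∀ a : E, c a ∈ H.normalCore := fun a b => by
    have h1 : c (a * b⁻¹) = b * c a * b⁻¹ * c b⁻¹ := by
      simp only [c, map_mul, mul_inv_rev, inv_inv]
      group
    have h2 := H.mul_mem (hcH (a * b⁻¹)) (H.inv_mem (hcH b⁻¹))
    rwa [h1, mul_inv_cancel_right] at h2
  have hbot : H.normalCore = ⊥ := by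
    rcases H.normalCore_normal.eq_bot_or_eq_top with hb | hb
    · exact hb
    · exfalso
      have hHtop : H = ⊤ := top_le_iff.1 (hb ▸ H.normalCore_le)
      have h1 := card_sylow h E hE hnab hd hS
      rw [P.card_eq_index_normalizer, show Subgroup.normalizer (P : Set E) = ⊤ from hHtop,
        Subgroup.index_top] at h1
      omega
  have hcg : g ∈ Subgroup.centralizer (E : Set G) := by
    refine Subgroup.mem_centralizer_iff.2 fun a ha => ?_
    have h1 : c ⟨a, ha⟩ = 1 := Subgroup.mem_bot.1 (hbot ▸ hcore _)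
    exact ((φ_apply_eq_iff E g ⟨a, ha⟩).1 (inv_mul_eq_one.1 h1).symm).symm.eq
  rw [hC, Subgroup.mem_bot] at hcg
  rw [hcg, orderOf_one] at hg
  exact h.prime.one_lt.ne hg

theorem sq_of_commute_invol {g : G} {t : E} (ht : orderOf t = 2) (hc : Commute g (t : G)) :
    g * g = 1 := by
  have h1 : g ^ (2 * r) = 1 := h.pow_two_r' (t := (t : G)) (by rw [Subgroup.orderOf_coe, ht]) hc.symm
  by_contra hne
  haveI : Fact r.Prime := ⟨h.prime⟩
  have h2 : orderOf (g ^ 2) = r :=
    orderOf_eq_prime (by rw [← pow_mul, h1]) (by rwa [pow_two])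
  exact not_commute_r h E hE hnab hd hS hC hm h2 ht (hc.pow_left 2)

theorem comm_of_commute_invol {g g' : G} {t : E} (ht : orderOf t = 2) (hc : Commute g (t : G))
    (hc' : Commute g' (t : G)) : g * g' = g' * g := by
  have h1 := sq_of_commute_invol h E hE hnab hd hS hC hm ht (hc.mul_left hc')
  have h2 := sq_of_commute_invol h E hE hnab hd hS hC hm ht hc
  have h3 := sq_of_commute_invol h E hE hnab hd hS hC hm ht hc'
  calc g * g' = (g * g')⁻¹ := eq_inv_of_mul_eq_one_left h1
    _ = g'⁻¹ * g⁻¹ := mul_inv_rev g g'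
    _ = g' * g := by rw [inv_eq_of_mul_eq_one_left h2, inv_eq_of_mul_eq_one_left h3]

/-- An automorphism centralising one involution of a Sylow subgroup centralises all of it. -/
theorem commute_sylow (P : Sylow 2 E) {g : G} {t x : E} (ht : t ∈ (P : Subgroup E)) (ht1 : t ≠ 1)
    (hc : Commute g (t : G)) (hx : x ∈ (P : Subgroup E)) : Commute g (x : G) :=
  comm_of_commute_invol h E hE hnab hd hS hC hm (orderOf_of_mem h E hE P.2 ht ht1) hc
    (congrArg Subtype.val
      ((centralizer_sylow h E hE hnab hd hS P ht ht1 x).1 hx)).symm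

/-- The involutions of `E` centralised by an outer involution lie in one Sylow subgroup. -/
theorem centralizer_invol_le (P : Sylow 2 E) {z : G} (hz : orderOf z = 2)
    (hzP : ∀ x : E, x ∈ (P : Subgroup E) → Commute z (x : G)) {y : E} (hy : orderOf y = 2)
    (hzy : Commute z (y : G)) : y ∈ (P : Subgroup E) := by
  classical
  haveI : Fact (Nat.Prime 2) := ⟨Nat.prime_two⟩
  have hcit := cit h E hE
  let K : Subgroup E := (Subgroup.centralizer ({z} : Set G)).subgroupOf E
  have hKmem : ∀ x : E, x ∈ K ↔ Commute z (x : G) := fun x => by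
    rw [Subgroup.mem_subgroupOf, Subgroup.mem_centralizer_singleton_iff]
    exact ⟨fun e => e.symm, fun e => e.symm⟩
  have hexp : ∀ k : K, k ^ (2 * r) = 1 := fun k => Subtype.ext (Subtype.ext (by
    simpa using h.pow_two_r' hz ((hKmem _).1 k.2)))
  haveI : Group.IsSolvable K := isSolvable_of_exp h.prime hexp
  have hPK : (P : Subgroup E) ≤ K := fun x hx => (hKmem x).2 (hzP x hx)
  let T : Sylow 2 K := P.subtype hPK
  have hT : ∀ k : K, k ∈ (T : Subgroup K) ↔ (k : E) ∈ (P : Subgroup E) := fun k => Iff.rfl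
  have hab : ∀ a ∈ (T : Subgroup K), ∀ b ∈ (T : Subgroup K), a * b = b * a := fun a ha b hb =>
    Subtype.ext (Subtype.ext (h.comm_of_mem (T := (P : Subgroup E).map E.subtype) (P.2.map _)
      ⟨_, (hT a).1 ha, rfl⟩ ⟨_, (hT b).1 hb, rfl⟩))
  have hn := sylow_sup_core_normal T hab
  obtain ⟨a, ha, b, hb, hab1, ha1, hb1⟩ : ∃ a ∈ (P : Subgroup E), ∃ b ∈ (P : Subgroup E),
      a * b ≠ 1 ∧ a ≠ 1 ∧ b ≠ 1 := by
    have h1 := ncard_punctured h E hE hnab hd hS P
    have hq := hd.four_le
    obtain ⟨a, ha, b, hb, hne⟩ := (Set.one_lt_ncard (Set.toFinite _)).1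
      (show 1 < {x : E | x ∈ (P : Subgroup E) ∧ x ≠ 1}.ncard by omega)
    refine ⟨a, ha.1, b, hb.1, fun e => hne ?_, ha.2, hb.2⟩
    rw [eq_inv_of_mul_eq_one_left e, inv_eq_of_mul_eq_one_left (sq_of_mem h E hE P.2 hb.1)]
  have hO : Cfsg.pPrimeCore 2 K = ⊥ := by
    set A := (Cfsg.pPrimeCore 2 K).map K.subtype with hA
    have hodd : Odd (Nat.card A) := by
      rw [hA, Subgroup.card_map_of_injective K.subtype_injective]
      exact Nat.odd_iff.2 (Nat.two_dvd_ne_zero.1 (Base.not_dvd_card_pPrimeCore 2 K))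
    have hnorm : K ≤ Subgroup.normalizer (A : Set E) := by
      haveI : (Cfsg.pPrimeCore 2 K).Normal := Cfsg.pPrimeCore_normal 2 _
      have h0 := Subgroup.le_normalizer_map (H := Cfsg.pPrimeCore 2 K) K.subtype
      rwa [Subgroup.normalizer_eq_top, ← MonoidHom.range_eq_map, Subgroup.range_subtype] at h0
    have hAbot : A = ⊥ := by
      refine (Subgroup.eq_bot_iff_forall _).2 fun x hx => ?_
      have hinv : ∀ s ∈ (P : Subgroup E), s ≠ 1 → s * x * s⁻¹ = x⁻¹ := fun s hs hs1 =>
        hcit.inv_of_odd hodd (orderOf_of_mem h E hE P.2 hs hs1) (hnorm (hPK hs)) hx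
      have h1 : x = x⁻¹ := by
        calc x = (x⁻¹)⁻¹ := (inv_inv x).symm
          _ = (a * x * a⁻¹)⁻¹ := by rw [hinv a ha ha1]
          _ = a * x⁻¹ * a⁻¹ := by group
          _ = a * (b * x * b⁻¹) * a⁻¹ := by rw [hinv b hb hb1]
          _ = a * b * x * (a * b)⁻¹ := by group
          _ = x⁻¹ := hinv _ (mul_mem ha hb) hab1
      refine CIT.eq_one_of_odd_isTwo (CIT.odd_orderOf_of_mem hodd hx) ⟨1, ?_⟩
      rw [pow_one, pow_two]
      exact eq_inv_iff_mul_eq_one.1 h1
    exact (Subgroup.map_eq_bot_iff_of_injective _ K.subtype_injective).1 hAbot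
  rw [hO, bot_sup_eq] at hn
  have hyK : y ∈ K := (hKmem y).2 hzy
  have hyT : (⟨y, hyK⟩ : K) ∈ (T : Subgroup K) := by
    haveI := hn
    obtain ⟨R, hR⟩ := (IsPGroup.of_card (n := 1) (G := Subgroup.zpowers (⟨y, hyK⟩ : K))
      (by rw [Nat.card_zpowers, Subgroup.orderOf_mk, hy, pow_one])).exists_le_sylow
    have : Subsingleton (Sylow 2 K) := by haveI := Sylow.unique_of_normal T hn; infer_instance
    rw [Subsingleton.elim T R]
    exact hR (Subgroup.mem_zpowers _)
  exact (hT _).1 hyT

/-- All involutions lie in `E`. -/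
theorem invol_mem {c : G} (hc : orderOf c = 2) : c ∈ E := by
  classical
  by_contra hcE
  have hcc : c * c = 1 := by rw [← pow_two, ← hc, pow_orderOf_eq_one]
  have hφ2 : φ E c ^ 2 = 1 := by rw [← map_pow, pow_two, hcc, map_one]
  haveI : Fact (Nat.Prime 2) := ⟨Nat.prime_two⟩
  have hq := hd.four_le
  obtain ⟨w, hw⟩ := two_dvd_q h E hE hnab hd hS
  -- an involution normalising a Sylow subgroup of `E` centralises it
  have key : ∀ {c : G}, orderOf c = 2 → ∀ R : Sylow 2 E, φ E c • R = R →
      ∀ x : E, x ∈ (R : Subgroup E) → Commute c (x : G) := by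
    intro c hc R hR x hx
    have hφ : φ E c ^ 2 = 1 := by rw [← map_pow, ← hc, pow_orderOf_eq_one, map_one]
    obtain ⟨s, ⟨hsR, hs1⟩, hs⟩ := exists_fixed Nat.prime_two hφ _
      (mapsTo_punctured h E hE hnab hd hS R hR)
      (by rw [ncard_punctured h E hE hnab hd hS R]; omega)
    exact commute_sylow h E hE hnab hd hS hC hm R hsR hs1 ((φ_apply_eq_iff E c s).1 hs) hx
  obtain ⟨P, -, hcP⟩ := exists_fixed Nat.prime_two hφ2 (Set.univ : Set (Sylow 2 E))
    (fun x _ => Set.mem_univ _) (by rw [Set.ncard_univ, card_sylow h E hE hnab hd hS]; omega)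
  have hcP' := key hc P hcP
  obtain ⟨Q, hQP⟩ : ∃ Q : Sylow 2 E, Q ≠ P := by
    haveI : Nontrivial (Sylow 2 E) := Finite.one_lt_card_iff_nontrivial.1
      (by rw [card_sylow h E hE hnab hd hS]; omega)
    exact exists_ne P
  obtain ⟨t, htQ, ht1⟩ : ∃ t ∈ (Q : Subgroup E), t ≠ 1 := by
    obtain ⟨t, ht⟩ := (Set.ncard_pos (Set.toFinite _)).1
      (show 0 < {x : E | x ∈ (Q : Subgroup E) ∧ x ≠ 1}.ncard by
        rw [ncard_punctured h E hE hnab hd hS Q]; omega)
    exact ⟨t, ht.1, ht.2⟩
  have ht2 := orderOf_of_mem h E hE Q.2 htQ ht1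
  have htG : orderOf (t : G) = 2 := by rw [Subgroup.orderOf_coe, ht2]
  have hnc : ¬ Commute c (t : G) := fun hct =>
    hQP (sylow_eq h E hE hnab hd hS Q P htQ
      (centralizer_invol_le h E hE hnab hd hS hC hm P hc hcP' ht2 hct) ht1)
  rcases Nat.even_or_odd (orderOf (c * (t : G))) with he | ho
  swap
  · have hconj := CfsgLib.Involutions.isConj_of_odd_prod hc htG ho
    obtain ⟨a, ha⟩ := isConj_iff.1 hconj
    refine hcE ?_
    have := Subgroup.Normal.conj_mem (inferInstance : E.Normal) _ t.2 a⁻¹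
    rw [← ha, inv_inv] at this
    simpa [mul_assoc] using this
  obtain ⟨z, hz, hzc, hzt⟩ : ∃ z : G, orderOf z = 2 ∧ Commute z c ∧ Commute z (t : G) :=
    ⟨_, CfsgLib.Involutions.half_invol he, CfsgLib.Involutions.half_comm_left hc htG he,
      CfsgLib.Involutions.half_comm_right hc htG he⟩
  by_cases hzE : z ∈ E
  · have hz2 : orderOf (⟨z, hzE⟩ : E) = 2 := by rw [Subgroup.orderOf_mk, hz]
    exact hnc (comm_of_commute_invol h E hE hnab hd hS hC hm (t := ⟨z, hzE⟩) hz2 hzc.symm hzt.symm)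
  · have hzQ : ∀ x : E, x ∈ (Q : Subgroup E) → Commute z (x : G) := fun x hx =>
      commute_sylow h E hE hnab hd hS hC hm Q htQ ht1 hzt hx
    have hcQ : φ E c • Q = Q := by
      have hmem : φ E c • t ∈ ((φ E c • Q : Sylow 2 E) : Subgroup E) :=
        Subgroup.smul_mem_pointwise_smul t _ _ htQ
      have ho : orderOf (φ E c • t) = 2 := by rw [MulAut.smul_def, MulEquiv.orderOf_eq, ht2]
      have hzct : Commute z ((φ E c • t : E) : G) := by
        rw [MulAut.smul_def, φ, MulAut.conjNormal_apply]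
        exact (hzc.mul_right hzt).mul_right hzc.inv_right
      exact sylow_eq h E hE hnab hd hS _ _ hmem
        (centralizer_invol_le h E hE hnab hd hS hC hm Q hz hzQ ho hzct)
        (fun e => by rw [e, orderOf_one] at ho; omega)
    exact hnc (key hc Q hcQ t htQ)

theorem eq_top_of_data : E = ⊤ := by
  classical
  haveI : Fact (Nat.Prime 2) := ⟨Nat.prime_two⟩
  set P := base E hd with hP
  set N := Subgroup.normalizer (((P : Subgroup E).map E.subtype : Subgroup G) : Set G) with hN
  have hfr := Sylow.normalizer_sup_eq_top P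
  rw [← hN] at hfr
  suffices hle : N ≤ E by
    rwa [sup_eq_right.2 hle] at hfr
  have hq := hd.four_le
  obtain ⟨t, htP, ht1⟩ : ∃ t ∈ (P : Subgroup E), t ≠ 1 := by
    obtain ⟨t, ht⟩ := (Set.ncard_pos (Set.toFinite _)).1
      (show 0 < {x : E | x ∈ (P : Subgroup E) ∧ x ≠ 1}.ncard by
        rw [ncard_punctured h E hE hnab hd hS P]; omega)
    exact ⟨t, ht.1, ht.2⟩
  have ht2 := orderOf_of_mem h E hE P.2 htP ht1
  have hfixE : ∀ g : G, Commute g (t : G) → ∃ hg : g ∈ E, (⟨g, hg⟩ : E) ∈ (P : Subgroup E) := by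
    intro g hg
    have hgE : g ∈ E := by
      rcases eq_or_ne g 1 with rfl | hg1
      · exact one_mem _
      · exact invol_mem h E hE hnab hd hS hC hm (orderOf_eq_prime
          (by rw [pow_two]; exact sq_of_commute_invol h E hE hnab hd hS hC hm ht2 hg) hg1)
    exact ⟨hgE, (centralizer_sylow h E hE hnab hd hS P htP ht1 _).2
      (Subtype.ext hg.eq.symm)⟩
  -- `N ⊓ E` already realises the whole action on the involutions of `P`
  intro g hg
  have hmem : ∀ {g : G}, g ∈ N → ∀ x : E, x ∈ (P : Subgroup E) → φ E g x ∈ (P : Subgroup E) := by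
    intro g hg x hx
    obtain ⟨y, hy, hye⟩ := (Subgroup.mem_normalizer_iff.1 hg (x : G)).1 ⟨x, hx, rfl⟩
    rwa [show φ E g x = y from Subtype.ext (by rw [φ, MulAut.conjNormal_apply]; exact hye.symm)]
  have hgt := hmem hg t htP
  have hgt1 : φ E g t ≠ 1 := fun e => ht1 (by rwa [map_eq_one_iff _ (φ E g).injective] at e)
  obtain ⟨d, hdD, hdt⟩ := hd.trans t htP (φ E g t) hgt ht2
    (orderOf_of_mem h E hE P.2 hgt hgt1)
  have hc : Commute ((d : G)⁻¹ * g) (t : G) := by
    have h1 := congrArg (fun z : E => (z : G)) hdt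
    simp only [φ, MulAut.conjNormal_apply, Subgroup.coe_mul, Subgroup.coe_inv] at h1
    calc (d : G)⁻¹ * g * t = (d : G)⁻¹ * (g * t * g⁻¹) * g := by group
      _ = (d : G)⁻¹ * ((d : G) * t * (d : G)⁻¹) * g := by rw [h1]
      _ = t * ((d : G)⁻¹ * g) := by group
  obtain ⟨hgE, -⟩ := hfixE _ hc
  simpa using E.mul_mem d.2 hgE

end Data

end CfsgLib.Recog.TwoR.CitNormal

namespace CfsgLib.Recog.TwoR

universe u

/-- A normal simple subgroup with trivial centraliser and without elements of order `2r` is the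
whole group. -/
theorem eq_top_of_no_ord {G : Type u} [Group G] [Finite G] {r : ℕ} (h : Ord2r G r) (E : Subgroup G)
    [E.Normal] [IsSimpleGroup E] (hnab : ∃ a b : E, a * b ≠ b * a)
    (hC : Subgroup.centralizer (E : Set G) = ⊥) (hE : ∀ x ∈ E, orderOf x ≠ 2 * r) : E = ⊤ := by
  obtain ⟨S, D, q, hd, hS, hm⟩ := CitNormal.exists_data h E hE hnab
  exact CitNormal.eq_top_of_data h E hE hnab hd hS hC hm

end CfsgLib.Recog.TwoR
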