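import Mathlib

/-!
Finite groups in which the only element orders divisible by two are `2` and `2r`, for one odd
prime `r`, and the only orders divisible by `r` are `r` and `2r`.

Interface (target theorem, proved in `TwoR/Main.lean`):

* `CfsgLib.Recog.TwoR.isPSL`: a nonsolvable such group with an element of order `2r` is
  isomorphic to `PSL(2, q)` for some `q > 5` with `q ≡ 3, 5 (mod 8)`.
-/

set_option autoImplicit false
set_option linter.dupNamespace false

namespace CfsgLib.Recog.TwoR

/-- The element-order hypothesis. -/
structure Ord2r (G : Type*) [Group G] (r : ℕ) : Prop where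
  prime : r.Prime
  odd : Odd r
  two : ∀ g : G, 2 ∣ orderOf g → orderOf g = 2 ∨ orderOf g = 2 * r
  rdvd : ∀ g : G, r ∣ orderOf g → orderOf g = r ∨ orderOf g = 2 * r

end CfsgLib.Recog.TwoR
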