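import Cfsg.Agent.Lib.Recog.TwoR.KeyPrimary

/-!
An `r`-group not centralised by a Sylow `2`-subgroup that normalises it singles out an index-two
subgroup of the Sylow subgroup invariant under the common normaliser.
-/

set_option autoImplicit false
set_option linter.dupNamespace false
set_option linter.style.haveILetI false
set_option linter.unusedSectionVars false

namespace CfsgLib.Recog.TwoR

universe u

variable {G : Type u} [Group G] [Finite G] {r : ℕ}

/-- A Sylow `2`-subgroup acting nontrivially on an `r`-group has a subgroup of index two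
invariant under every element normalising both. -/
theorem key (h : Ord2r G r) (S : Sylow 2 G) {Q : Subgroup G} (hQ : IsPGroup r Q)
    (hn : (S : Subgroup G) ≤ Subgroup.normalizer (Q : Set G))
    (hne : ∃ s ∈ (S : Subgroup G), ∃ q ∈ Q, s * q * s⁻¹ ≠ q) :
    ∃ H : Subgroup G, H ≤ (S : Subgroup G) ∧ H.relIndex (S : Subgroup G) = 2 ∧
      ∀ g, g ∈ Subgroup.normalizer ((S : Subgroup G) : Set G) → g ∈ Subgroup.normalizer (Q : Set G) →
        ∀ x ∈ H, g * x * g⁻¹ ∈ H := by
  classical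
  haveI : Fact r.Prime := ⟨h.prime⟩
  haveI : Fact (Nat.Prime 2) := ⟨Nat.prime_two⟩
  have h2S : ∀ x ∈ (S : Subgroup G), x * x = 1 := fun x hx => h.mul_self_of_mem S.2 hx
  have hcS : ∀ x ∈ (S : Subgroup G), ∀ y ∈ (S : Subgroup G), x * y = y * x :=
    fun x hx y hy => h.comm_of_mem S.2 hx hy
  let N : Subgroup G :=
    Subgroup.normalizer ((S : Subgroup G) : Set G) ⊓ Subgroup.normalizer (Q : Set G)
  have hSN : (S : Subgroup G) ≤ N := le_inf Subgroup.le_normalizer hn
  let V := ↥Q ⧸ frattini ↥Q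
  letI : CommGroup V :=
    { (inferInstance : Group V) with mul_comm := mk_comm_of_isPGroup hQ }
  let π : ↥Q →* V := QuotientGroup.mk' (frattini ↥Q)
  have hπ : Function.Surjective π := QuotientGroup.mk'_surjective _
  -- the action on the Frattini quotient
  let conjQ : N → (↥Q ≃* ↥Q) := fun n => Q.normalizerMonoidHom ⟨(n : G), n.2.2⟩
  have conjQ_val : ∀ (n : N) (q : Q), ((conjQ n q : Q) : G) = (n : G) * q * (n : G)⁻¹ :=
    fun n q => rfl
  let σ : N →* MulAut V :=
    { toFun := fun n => QuotientGroup.congr (frattini ↥Q) (frattini ↥Q) (conjQ n)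
        (Base.map_frattini_mulEquiv (conjQ n))
      map_one' := by
        ext v
        obtain ⟨q, rfl⟩ := QuotientGroup.mk_surjective v
        refine (QuotientGroup.congr_mk _ _ _ _ q).trans (congrArg _ (Subtype.ext ?_))
        simp [conjQ_val]
      map_mul' := fun m n => by
        ext v
        obtain ⟨q, rfl⟩ := QuotientGroup.mk_surjective v
        show (QuotientGroup.mk (conjQ (m * n) q) : V) = QuotientGroup.mk (conjQ m (conjQ n q))
        refine congrArg _ (Subtype.ext ?_)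
        simp [conjQ_val, mul_assoc] }
  have hσ : ∀ (n : N) (q : Q) (hm : (n : G) * q * (n : G)⁻¹ ∈ Q),
      σ n (π q) = π ⟨(n : G) * q * (n : G)⁻¹, hm⟩ :=
    fun n q hm => rfl
  have hVr : ∀ v : V, v ^ r = 1 := fun v => by
    obtain ⟨q, rfl⟩ := hπ v
    rw [← map_pow, show q ^ r = 1 from Subtype.ext (h.pow_r_of_mem hQ q.2), map_one]
  have hsq : ∀ v : V, v ≠ 1 → ∀ n : ℕ, v ^ 2 ^ n ≠ 1 := fun v hv n e => hv (by
    have := pow_gcd_eq_one.2 ⟨e, hVr v⟩
    rwa [Nat.Coprime.pow_left n h.coprime_two, pow_one] at this)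
  -- a vector moved by some element of the Sylow subgroup
  obtain ⟨n₀, hn₀, v₀, hmove⟩ :
      ∃ n : N, (n : G) ∈ (S : Subgroup G) ∧ ∃ v : V, σ n v ≠ v := by
    by_contra hno
    simp only [not_exists, not_and, not_not] at hno
    have hcop : (Nat.card (S : Subgroup G)).Coprime (Nat.card (frattini ↥Q)) := by
      obtain ⟨a, ha⟩ := IsPGroup.iff_card.1 S.2
      obtain ⟨b, hb⟩ := IsPGroup.iff_card.1 (hQ.to_subgroup (frattini ↥Q))
      rw [ha, hb]
      exact Nat.Coprime.pow a b h.coprime_two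
    have hle := Coprime.le_centralizer_of_trivial_mod_frattini hn hcop fun s hs k hk => by
      have hm : s * k * s⁻¹ ∈ Q := (Subgroup.mem_normalizer_iff.1 (hn hs) _).1 hk
      have h1 := hno ⟨s, hSN hs⟩ hs (π ⟨k, hk⟩)
      rw [hσ _ _ hm] at h1
      refine ⟨⟨_, hm⟩ * ⟨k, hk⟩⁻¹, ?_, rfl⟩
      refine (QuotientGroup.eq_one_iff _).1 ?_
      show π _ = 1
      rw [map_mul, map_inv, mul_inv_eq_one]
      exact h1
    obtain ⟨s, hs, q, hq, hsq'⟩ := hne
    exact hsq' (by rw [← Subgroup.mem_centralizer_iff.1 (hle hs) q hq, mul_inv_cancel_right])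
  haveI : Fintype N := Fintype.ofFinite _
  obtain ⟨w, hw1, hw0, hwS⟩ := exists_eigen σ hmove (Subtype.ext (h2S _ hn₀))
    (Finset.univ.filter fun s : N => (s : G) ∈ (S : Subgroup G))
    (fun s hs => Subtype.ext (h2S _ (Finset.mem_filter.1 hs).2))
    (fun s hs t ht => Subtype.ext (hcS _ (Finset.mem_filter.1 hs).2 _ (Finset.mem_filter.1 ht).2))
    (fun s hs => Subtype.ext (hcS _ hn₀ _ (Finset.mem_filter.1 hs).2))
  have hpm : ∀ s : N, (s : G) ∈ (S : Subgroup G) → σ s w = w ∨ σ s w = w⁻¹ :=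
    fun s hs => hwS _ (Finset.mem_filter.2 ⟨Finset.mem_univ _, hs⟩)
  have hwinv : w⁻¹ ≠ w := fun e => hsq w hw1 1 (by
    rw [pow_one, pow_two]; exact mul_eq_one_iff_inv_eq.2 e)
  -- the stabiliser
  let St : Subgroup N :=
    { carrier := {s | σ s w = w}
      one_mem' := by show σ 1 w = w; rw [map_one, MulAut.one_apply]
      mul_mem' := fun {a b} (ha : σ a w = w) (hb : σ b w = w) => by
        show σ (a * b) w = w
        rw [map_mul, MulAut.mul_apply, hb, ha]
      inv_mem' := fun {a} (ha : σ a w = w) => by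
        show σ a⁻¹ w = w
        rw [map_inv]
        exact (σ a).symm_apply_eq.2 ha.symm }
  let H : Subgroup G := (S : Subgroup G) ⊓ St.map N.subtype
  have hHS : H ≤ (S : Subgroup G) := inf_le_left
  have hH : ∀ s : N, (s : G) ∈ (S : Subgroup G) → ((s : G) ∈ H ↔ σ s w = w) := fun s hs =>
    ⟨fun e => by
      obtain ⟨t, ht, hts⟩ := e.2
      rwa [show t = s from Subtype.ext hts] at ht,
    fun e => ⟨hs, s, e, rfl⟩⟩
  have hnotH : ∀ s : N, (s : G) ∈ (S : Subgroup G) → (s : G) ∉ H → σ s w = w⁻¹ := fun s hs hsH =>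
    (hpm s hs).resolve_left fun e => hsH ((hH s hs).2 e)
  have hn₀H : (n₀ : G) ∉ H := fun hh => hwinv (hw0.symm.trans ((hH n₀ hn₀).1 hh))
  have hidx : H.relIndex (S : Subgroup G) = 2 := by
    rw [Subgroup.relIndex, Subgroup.index_eq_two_iff]
    refine ⟨⟨n₀, hn₀⟩, fun b => ?_⟩
    simp only [Subgroup.mem_subgroupOf, Subgroup.coe_mul]
    by_cases hb : (b : G) ∈ H
    · exact Or.inr ⟨hb, fun hh => hn₀H (by simpa using mul_mem (inv_mem hb) hh)⟩
    · refine Or.inl ⟨(hH (⟨b, hSN b.2⟩ * n₀) (mul_mem b.2 hn₀)).2 ?_, hb⟩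
      rw [map_mul, MulAut.mul_apply, hw0, map_inv, hnotH ⟨b, hSN b.2⟩ b.2 hb, inv_inv]
  refine ⟨H, hHS, hidx, fun g hgS hgQ => ?_⟩
  have hg : g ∈ Subgroup.normalizer (H : Set G) := by
    refine mem_of_primary _ _ g rfl fun p i j hp hpo => ?_
    have hN' : g ^ i ∈ N := pow_mem (⟨hgS, hgQ⟩ : g ∈ N) i
    by_cases hp2 : p = 2
    · have hz : IsPGroup 2 (Subgroup.zpowers (g ^ i)) :=
        IsPGroup.of_card ((Nat.card_zpowers _).trans (hp2 ▸ hpo))
      have hz' := hz.to_sup_of_normal_right' S.2 (Subgroup.zpowers_le.2 hN'.1)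
      have hgiS : g ^ i ∈ (S : Subgroup G) := S.3 hz' le_sup_right ▸
        Subgroup.mem_sup_left (Subgroup.mem_zpowers _)
      refine Subgroup.mem_normalizer_fintype fun x hx => ?_
      show g ^ i * x * (g ^ i)⁻¹ ∈ H
      rw [hcS _ hgiS x (hHS hx), mul_inv_cancel_right]
      exact hx
    · exact primary_invariant h S hQ inf_le_left inf_le_right hSN hπ σ hσ (hsq w hw1) hpm hHS hH
        hidx hN' hp hp2 hpo
  exact fun x hx => (Subgroup.mem_normalizer_iff.1 hg x).1 hx

end CfsgLib.Recog.TwoR
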