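import Cfsg.Agent.Lib.Recog.TwoR.Basic
import Cfsg.Agent.Lib.Recog.TwoR.Key
import Cfsg.Agent.Lib.Coprime.Action2
import Cfsg.Agent.Lib.Transfer.NormalPComplement
import Cfsg.Agent.Lib.Involutions.ElemAbCent
import Cfsg.Agent.Lib.CharsMore.BSWRecog.Dihedral
import Cfsg.Agent.Lib.Small.KleinNormalCentralizer

/-!
# Groups with element-order hypothesis `Ord2r`: a Sylow `2`-subgroup of order four

The Sylow `2`-subgroup `S` is a four-group, some element normalising it moves it, and an
`r`-subgroup on which `S` acts nontrivially is never normalised by an element moving `S`.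
Then either the odd part of every involution centraliser centralises a Sylow `2`-subgroup, or the
hypotheses of the Brauer-Suzuki-Wall theorem hold.
-/

set_option autoImplicit false
set_option linter.dupNamespace false
set_option linter.style.haveILetI false
set_option linter.unusedSectionVars false

namespace CfsgLib.Recog.TwoR

open Subgroup
open scoped Pointwise

universe u

variable {G : Type u} [Group G]

/-- No `r`-subgroup on which `S` acts nontrivially is normalised by an element of `N(S)` which does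
not centralise `S`. -/
def NoMove (r : ℕ) (S : Subgroup G) : Prop :=
  ∀ Q : Subgroup G, IsPGroup r Q → S ≤ normalizer (Q : Set G) →
    (∃ s ∈ S, ∃ q ∈ Q, s * q * s⁻¹ ≠ q) →
    ∀ g ∈ normalizer (S : Set G), g ∈ normalizer (Q : Set G) → ∀ s ∈ S, Commute g s

section Four

variable [Finite G] (S : Sylow 2 G)

theorem four_elems (h4 : Nat.card (S : Subgroup G) = 4) {t w : G} (ht : t ∈ (S : Subgroup G))
    (hw : w ∈ (S : Subgroup G)) (ht1 : t ≠ 1) (hw1 : w ≠ 1) (htw : w ≠ t) (hsq : t * t = 1)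
    {x : G} (hx : x ∈ (S : Subgroup G)) : x = 1 ∨ x = t ∨ x = w ∨ x = t * w := by
  classical
  haveI := Fintype.ofFinite (S : Subgroup G)
  let e : Fin 4 → (S : Subgroup G) := ![1, ⟨t, ht⟩, ⟨w, hw⟩, ⟨t, ht⟩ * ⟨w, hw⟩]
  have h5 : t * w ≠ 1 := fun e => htw (mul_left_cancel (e.trans hsq.symm))
  have he : Function.Injective e := by
    intro i j hij
    have h : ((e i : (S : Subgroup G)) : G) = e j := congrArg Subtype.val hij
    fin_cases i <;> fin_cases j <;> simp [e, eq_comm] at h ⊢ <;>
      first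
        | exact absurd h ht1
        | exact absurd h hw1
        | exact absurd h htw
        | exact absurd h h5
        | exact absurd h.symm h5
        | exact absurd h.symm htw
  have hb : Function.Bijective e := (Fintype.bijective_iff_injective_and_card e).2
    ⟨he, by rw [Fintype.card_fin, ← Nat.card_eq_fintype_card, h4]⟩
  obtain ⟨i, hi⟩ := hb.2 ⟨x, hx⟩
  have h : ((e i : (S : Subgroup G)) : G) = x := congrArg Subtype.val hi
  fin_cases i <;> simp [e] at h <;> simp [← h]

/-- An element normalising a four-group Sylow `2`-subgroup and fixing one of its involutions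
centralises it. -/
theorem fix_one (h4 : Nat.card (S : Subgroup G) = 4) (hsq : ∀ s ∈ (S : Subgroup G), s * s = 1)
    {g : G} (hg : g ∈ normalizer ((S : Subgroup G) : Set G)) {t : G} (ht : t ∈ (S : Subgroup G))
    (ht1 : t ≠ 1) (hc : Commute g t) : ∀ s ∈ (S : Subgroup G), Commute g s := by
  haveI : Fact (Nat.Prime 2) := ⟨Nat.prime_two⟩
  have hcomm : ∀ a ∈ (S : Subgroup G), ∀ b ∈ (S : Subgroup G), a * b = b * a := by
    intro a ha b hb
    have h1 := hsq _ (mul_mem ha hb)
    calc a * b = (a * b)⁻¹ := eq_inv_of_mul_eq_one_left h1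
      _ = b⁻¹ * a⁻¹ := mul_inv_rev a b
      _ = b * a := by
        rw [inv_eq_of_mul_eq_one_left (hsq _ ha), inv_eq_of_mul_eq_one_left (hsq _ hb)]
  intro s hs
  by_cases hs1 : s = 1
  · rw [hs1]; exact Commute.one_right g
  by_cases hst : s = t
  · rw [hst]; exact hc
  -- the square of `g` fixes `s`
  have hgs : g * s * g⁻¹ ∈ (S : Subgroup G) := (mem_normalizer_iff.1 hg s).1 hs
  have hgt : g * t * g⁻¹ = t := by rw [hc.eq, mul_inv_cancel_right]
  have h2 : Commute (g ^ 2) s := by
    rcases four_elems S h4 ht hs ht1 hs1 hst (hsq t ht) hgs with h | h | h | h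
    · exact absurd (conj_eq_one_iff.1 h) hs1
    · refine absurd ?_ hst
      exact mul_left_cancel (mul_right_cancel (h.trans hgt.symm))
    · have hg1 : Commute g s := mul_inv_eq_iff_eq_mul.1 h
      exact hg1.pow_left 2
    · have h' : g ^ 2 * s * (g ^ 2)⁻¹ = s := by
        calc g ^ 2 * s * (g ^ 2)⁻¹ = g * (g * s * g⁻¹) * g⁻¹ := by rw [pow_two]; group
          _ = g * (t * s) * g⁻¹ := by rw [h]
          _ = (g * t * g⁻¹) * (g * s * g⁻¹) := by group
          _ = t * (t * s) := by rw [hgt, h]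
          _ = s := by rw [← mul_assoc, hsq t ht, one_mul]
      exact mul_inv_eq_iff_eq_mul.1 h'
  -- the two-part of `g` lies in `S`
  obtain ⟨k, m, hm, hgm⟩ : ∃ k m : ℕ, Odd m ∧ orderOf g = 2 ^ k * m := by
    obtain ⟨k, m, hm, he⟩ := Nat.exists_eq_two_pow_mul_odd (orderOf_pos g).ne'
    exact ⟨k, m, hm, he⟩
  have hgp : IsPGroup 2 (zpowers (g ^ m)) := by
    intro x
    obtain ⟨j, hj⟩ := mem_zpowers_iff.1 x.2
    refine ⟨k, Subtype.ext ?_⟩
    show (x : G) ^ 2 ^ k = 1
    have h1 : (g ^ m) ^ 2 ^ k = 1 := by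
      rw [← pow_mul, mul_comm, ← hgm, pow_orderOf_eq_one]
    rw [← hj, ← zpow_natCast ((g ^ m) ^ j), ← zpow_mul, mul_comm, zpow_mul, zpow_natCast, h1,
      one_zpow]
  have hgS : g ^ m ∈ (S : Subgroup G) := by
    have hn : zpowers (g ^ m) ≤ normalizer ((S : Subgroup G) : Set G) :=
      zpowers_le.2 (pow_mem hg m)
    have heq := S.3 (IsPGroup.to_sup_of_normal_right' hgp S.2 hn) le_sup_right
    exact heq ▸ (le_sup_left : zpowers (g ^ m) ≤ _) (mem_zpowers _)
  have h3 : Commute (g ^ m) s := hcomm _ hgS _ hs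
  obtain ⟨j, rfl⟩ := hm
  have h4' : g = ((g ^ 2) ^ j)⁻¹ * g ^ (2 * j + 1) := by
    rw [← pow_mul, pow_succ, inv_mul_cancel_left]
  rw [h4']
  exact ((h2.pow_left j).inv_left).mul_left h3

end Four

variable [Finite G] {r : ℕ}

theorem Ord2r.sq_of_mem_sylow (h : Ord2r G r) (S : Sylow 2 G) :
    ∀ s ∈ (S : Subgroup G), s * s = 1 :=
  fun _ hs => h.mul_self_of_mem S.2 hs

theorem Ord2r.orderOf_two_of_mem (h : Ord2r G r) (S : Sylow 2 G) {s : G}
    (hs : s ∈ (S : Subgroup G)) (hs1 : s ≠ 1) : orderOf s = 2 :=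
  orderOf_eq_prime (by rw [pow_two]; exact h.sq_of_mem_sylow S s hs) hs1

/-- In a subgroup of exponent dividing `2r` containing `S`, an element of odd order commuting with
an involution of `S` lies in the odd core. -/
theorem Ord2r.mem_core (h : Ord2r G r) (S : Sylow 2 G) (h4 : Nat.card (S : Subgroup G) = 4)
    (M : Subgroup G) (hM : ∀ g ∈ M, g ^ (2 * r) = 1) (hSM : (S : Subgroup G) ≤ M)
    {t : G} (ht : t ∈ (S : Subgroup G)) (ht1 : t ≠ 1)
    {y : G} (hy : y ∈ M) (hodd : Odd (orderOf y)) (hc : Commute y t) :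
    y ∈ (Cfsg.pPrimeCore 2 M).map M.subtype := by
  haveI : Fact (Nat.Prime 2) := ⟨Nat.prime_two⟩
  haveI : Group.IsSolvable M :=
    isSolvable_of_exp h.prime fun g => Subtype.ext (by simpa using hM g g.2)
  refine ⟨⟨y, hy⟩, ?_, rfl⟩
  let T : Sylow 2 M := S.subtype hSM
  have hTS : ∀ a : M, a ∈ (T : Subgroup M) ↔ (a : G) ∈ (S : Subgroup G) := fun a => by
    rw [Sylow.coe_subtype, mem_subgroupOf]
  have hab : ∀ a ∈ (T : Subgroup M), ∀ b ∈ (T : Subgroup M), a * b = b * a := fun a ha b hb =>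
    Subtype.ext (h.comm_of_mem S.2 ((hTS a).1 ha) ((hTS b).1 hb))
  haveI hN : (Cfsg.pPrimeCore 2 M ⊔ (T : Subgroup M)).Normal := sylow_sup_core_normal T hab
  refine mem_core_of_centralizes T (by rwa [← orderOf_coe]) fun a ha => ?_
  set O := Cfsg.pPrimeCore 2 M with hO
  let π := QuotientGroup.mk' O
  have hsurj : Function.Surjective π := QuotientGroup.mk'_surjective O
  let T' : Sylow 2 (M ⧸ O) := T.mapSurjective hsurj
  have hT'eq : (T' : Subgroup (M ⧸ O)) = (O ⊔ (T : Subgroup M)).map π := by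
    rw [Sylow.coe_mapSurjective, Subgroup.map_sup, QuotientGroup.map_mk'_self, bot_sup_eq]
  have hinj : ∀ b ∈ (T : Subgroup M), π b = 1 → b = 1 := by
    intro b hb hb1
    have hbO : b ∈ O := (QuotientGroup.eq_one_iff b).1 hb1
    have hd := Base.inf_eq_bot_of_isPGroup_of_coprime T.2 (Base.pPrimeCore_coprime 2 M)
    exact mem_bot.1 (hd ▸ mem_inf.2 ⟨hb, hbO⟩)
  have hcard : Nat.card (T' : Subgroup (M ⧸ O)) = 4 := by
    rw [Sylow.coe_mapSurjective]
    have e1 : Nat.card (T : Subgroup M) = 4 := by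
      rw [Sylow.coe_subtype, Nat.card_congr (subgroupOfEquivOfLe hSM).toEquiv, h4]
    rw [← e1]
    refine (Nat.card_congr (Equiv.ofBijective
      (fun b : (T : Subgroup M) => (⟨π b, mem_map_of_mem π b.2⟩ : (T : Subgroup M).map π))
      ⟨fun b c hbc => ?_, ?_⟩)).symm
    · have hbc' : π b = π c := congrArg Subtype.val hbc
      have h1 := hinj _ (mul_mem b.2 (inv_mem c.2)) (by rw [map_mul, map_inv, hbc', mul_inv_cancel])
      exact Subtype.ext (mul_inv_eq_one.1 h1)
    · rintro ⟨q, b, hb, rfl⟩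
      exact ⟨⟨b, hb⟩, rfl⟩
  have hsq' : ∀ q ∈ (T' : Subgroup (M ⧸ O)), q * q = 1 := by
    intro q hq
    rw [Sylow.coe_mapSurjective] at hq
    obtain ⟨b, hb, rfl⟩ := hq
    rw [← map_mul, show b * b = 1 from Subtype.ext (h.sq_of_mem_sylow S _ ((hTS b).1 hb)), map_one]
  have hnorm : π ⟨y, hy⟩ ∈ normalizer ((T' : Subgroup (M ⧸ O)) : Set (M ⧸ O)) := by
    haveI : (T' : Subgroup (M ⧸ O)).Normal := hT'eq ▸ hN.map π hsurj
    rw [normalizer_eq_top]
    exact mem_top _
  have htT : (⟨t, hSM ht⟩ : M) ∈ (T : Subgroup M) := (hTS _).2 ht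
  have ht' : π ⟨t, hSM ht⟩ ∈ (T' : Subgroup (M ⧸ O)) := by
    rw [Sylow.coe_mapSurjective]; exact mem_map_of_mem π htT
  have ht1' : π ⟨t, hSM ht⟩ ≠ 1 := fun e => ht1 (congrArg Subtype.val (hinj _ htT e))
  have hcm : Commute (⟨y, hy⟩ : M) ⟨t, hSM ht⟩ := Subtype.ext hc.eq
  have hfix := fix_one T' hcard hsq' hnorm ht' ht1' (hcm.map π) (π a)
    (by rw [Sylow.coe_mapSurjective]; exact mem_map_of_mem π ha)
  refine (QuotientGroup.eq_one_iff _).1 ?_
  change π (a⁻¹ * ⟨y, hy⟩⁻¹ * a * ⟨y, hy⟩) = 1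
  rw [map_mul, map_mul, map_mul, map_inv, map_inv, mul_assoc ((π a)⁻¹ * (π ⟨y, hy⟩)⁻¹),
    ← hfix.eq, ← mul_assoc, inv_mul_cancel_right, inv_mul_cancel]

/-- The odd core of the centraliser of `t`, inside `G`. -/
abbrev coreC (t : G) : Subgroup G :=
  (Cfsg.oddCore (centralizer ({t} : Set G))).map (centralizer ({t} : Set G)).subtype

theorem coreC_le (t : G) : coreC t ≤ centralizer ({t} : Set G) := map_subtype_le _

theorem commute_of_mem_coreC {t y : G} (hy : y ∈ coreC t) : Commute y t :=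
  mem_centralizer_singleton_iff.1 (coreC_le t hy)

theorem odd_of_mem_core {M : Subgroup G} {y : G}
    (hy : y ∈ (Cfsg.pPrimeCore 2 M).map M.subtype) : Odd (orderOf y) :=
  orderOf_odd_of_card (Nat.coprime_two_right.1 (Base.coprime_card_map_pPrimeCore M)) hy

theorem Ord2r.isPGroup_core (h : Ord2r G r) {M : Subgroup G} (hM : ∀ g ∈ M, g ^ (2 * r) = 1) :
    IsPGroup r ((Cfsg.pPrimeCore 2 M).map M.subtype : Subgroup G) :=
  h.isPGroup_of_exp (Nat.coprime_two_right.1 (Base.coprime_card_map_pPrimeCore M))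
    fun a ha => hM a (map_subtype_le _ ha)

theorem Ord2r.isPGroup_coreC (h : Ord2r G r) {t : G} (ht : orderOf t = 2) :
    IsPGroup r (coreC t) :=
  h.isPGroup_core fun _ hg => h.pow_two_r' ht (mem_centralizer_singleton_iff.1 hg).symm

section Setting

variable (h : Ord2r G r) (S : Sylow 2 G) (h4 : Nat.card (S : Subgroup G) = 4)
include h h4

theorem sylow_le_centralizer {t : G} (ht : t ∈ (S : Subgroup G)) :
    (S : Subgroup G) ≤ centralizer ({t} : Set G) :=
  fun _ hs => mem_centralizer_singleton_iff.2 (h.comm_of_mem S.2 hs ht)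

theorem mem_coreC {t : G} (ht : t ∈ (S : Subgroup G)) (ht1 : t ≠ 1)
    {y : G} (hodd : Odd (orderOf y)) (hc : Commute y t) : y ∈ coreC t :=
  h.mem_core S h4 _
    (fun _ hg => h.pow_two_r' (h.orderOf_two_of_mem S ht ht1) (mem_centralizer_singleton_iff.1 hg).symm)
    (sylow_le_centralizer h S h4 ht) ht ht1 (mem_centralizer_singleton_iff.2 hc.eq) hodd hc

theorem le_normalizer_coreC {t : G} (ht : t ∈ (S : Subgroup G)) :
    (S : Subgroup G) ≤ normalizer ((coreC t : Subgroup G) : Set G) :=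
  (sylow_le_centralizer h S h4 ht).trans (Base.le_normalizer_map_pPrimeCore _)

theorem exists_other {t : G} (ht : t ∈ (S : Subgroup G)) :
    ∃ w ∈ (S : Subgroup G), w ≠ 1 ∧ w ≠ t := by
  classical
  by_contra hno
  push Not at hno
  haveI := Fintype.ofFinite (S : Subgroup G)
  have hle : Nat.card (S : Subgroup G) ≤ 2 := by
    rw [Nat.card_eq_fintype_card, ← Finset.card_univ]
    refine (Finset.card_le_card (t := {1, ⟨t, ht⟩}) fun x _ => ?_).trans Finset.card_le_two
    by_cases hx : (x : G) = 1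
    · simp [Subtype.ext_iff, hx]
    · simp [Subtype.ext_iff, hno x x.2 hx]
  omega

theorem not_isCyclic_four : ¬ IsCyclic (S : Subgroup G) := by
  intro hc
  obtain ⟨g, hg⟩ := isCyclic_iff_exists_zpowers_eq_top.1 hc
  have h1 : orderOf g = 4 := by rw [← Nat.card_zpowers, hg, card_top, h4]
  have h2 : orderOf g ∣ 2 := orderOf_dvd_of_pow_eq_one
    (by rw [pow_two]; exact Subtype.ext (h.sq_of_mem_sylow S _ g.2))
  have := Nat.le_of_dvd (by norm_num) h2
  omega

theorem coprime_of_odd {K : Subgroup G} (hK : Odd (Nat.card K)) :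
    (Nat.card (S : Subgroup G)).Coprime (Nat.card K) := by
  rw [h4, show 4 = 2 ^ 2 from rfl]
  exact Nat.Coprime.pow_left 2 (Nat.coprime_two_left.2 hK)

/-- Elements of odd order centralising `S` normalise every involution core. -/
theorem mem_coreC_of_centralizes {t : G} (ht : t ∈ (S : Subgroup G)) (ht1 : t ≠ 1) {x : G}
    (hodd : Odd (orderOf x)) (hx : ∀ s ∈ (S : Subgroup G), Commute x s) : x ∈ coreC t :=
  mem_coreC h S h4 ht ht1 hodd (hx t ht)

/-- An element commuting with two of the three involutions centralises `S`. -/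
theorem centralizes_of_two {t w y : G} (ht : t ∈ (S : Subgroup G)) (ht1 : t ≠ 1)
    (hw : w ∈ (S : Subgroup G)) (hw1 : w ≠ 1) (hwt : w ≠ t) (h1 : Commute y t) (h2 : Commute y w) :
    ∀ s ∈ (S : Subgroup G), Commute y s := by
  intro s hs
  rcases four_elems S h4 ht hw ht1 hw1 hwt (h.sq_of_mem_sylow S t ht) hs with e | e | e | e <;>
    subst e
  · exact Commute.one_right y
  · exact h1
  · exact h2
  · exact h1.mul_right h2

/-- The maximal `S`-invariant `r`-subgroups. -/
def Big (P : Subgroup G) : Prop :=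
  Maximal (fun V : Subgroup G => IsPGroup r V ∧ (S : Subgroup G) ≤ normalizer (V : Set G)) P

variable (hk : NoMove r (S : Subgroup G))
include hk

/-- Two maximal invariant `r`-subgroups whose intersection is moved by `S` are conjugate under an
element of odd order centralising `S`. -/
theorem big_conj (n : ℕ) : ∀ P Q : Subgroup G, Big (r := r) S P → Big (r := r) S Q →
    Nat.card G ≤ Nat.card ↥(P ⊓ Q) + n →
    (∃ s ∈ (S : Subgroup G), ∃ q ∈ P ⊓ Q, s * q * s⁻¹ ≠ q) →
    ∃ x : G, (∀ s ∈ (S : Subgroup G), Commute x s) ∧ Odd (orderOf x) ∧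
      MulAut.conj x • P = Q := by
  haveI : Fact (Nat.Prime 2) := ⟨Nat.prime_two⟩
  haveI : Fact r.Prime := ⟨h.prime⟩
  have step : ∀ P Q : Subgroup G, Big (r := r) S P → Big (r := r) S Q → P ≠ Q →
      ¬ P ≤ Q ∧ ¬ Q ≤ P := fun P Q hP hQ hne =>
    ⟨fun hle => hne (le_antisymm hle (hP.2 hQ.1 hle)),
      fun hle => hne (le_antisymm (hQ.2 hP.1 hle) hle)⟩
  induction n with
  | zero =>
    intro P Q hP hQ hn hmv
    have heq : P ⊓ Q = ⊤ := Subgroup.eq_of_le_of_card_ge le_top (by rw [card_top]; omega)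
    rw [inf_eq_top_iff] at heq
    exact ⟨1, fun s _ => Commute.one_left s, by rw [orderOf_one]; exact odd_one,
      by rw [map_one, one_smul, heq.1, heq.2]⟩
  | succ n ih =>
    intro P Q hP hQ hn hmv
    by_cases hPQ : P = Q
    · exact ⟨1, fun s _ => Commute.one_left s, by rw [orderOf_one]; exact odd_one,
        by rw [map_one, one_smul, hPQ]⟩
    set D := P ⊓ Q with hD
    have hDr : IsPGroup r D := hP.1.1.to_le inf_le_left
    have hSD : (S : Subgroup G) ≤ normalizer (D : Set G) :=
      Coprime.le_normalizer_inf_inf hP.1.2 hQ.1.2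
    set L := normalizer (D : Set G) with hL
    let T : Sylow 2 L := S.subtype hSD
    have hTc : normalizer ((T : Subgroup L) : Set L) ≤ centralizer ((T : Subgroup L) : Set L) := by
      intro g hg
      rw [Sylow.coe_subtype, ← subgroupOf_normalizer_eq hSD, mem_subgroupOf] at hg
      refine mem_centralizer_iff.2 fun a ha => ?_
      rw [Sylow.coe_subtype, SetLike.mem_coe, mem_subgroupOf] at ha
      exact Subtype.ext (hk D hDr hSD hmv (g : G) hg g.2 a ha).eq.symm
    obtain ⟨N, hNn, hN2, hNi⟩ := Transfer.hasNormalPComplement_iff_exists.1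
      (Transfer.hasNormalPComplement_of_normalizer_le_centralizer T hTc)
    set K := N.map L.subtype with hK
    have hKcard : Odd (Nat.card K) := by
      rw [hK, card_map_of_injective L.subtype_injective, Nat.odd_iff]
      omega
    have hLK : L ≤ normalizer (K : Set G) := by
      have : (K.subgroupOf L).Normal := by
        rw [hK, ← comap_subtype, comap_map_eq_self_of_injective L.subtype_injective]
        exact hNn
      exact (normal_subgroupOf_iff_le_normalizer (map_subtype_le N)).1 this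
    have hSK : (S : Subgroup G) ≤ normalizer (K : Set G) := hSD.trans hLK
    have hmem : ∀ y ∈ L, Odd (orderOf y) → y ∈ K := by
      intro y hy ho
      refine ⟨⟨y, hy⟩, ?_, rfl⟩
      show (⟨y, hy⟩ : L) ∈ N
      obtain ⟨k, hk2⟩ := hNi
      have h1 : orderOf (QuotientGroup.mk' N ⟨y, hy⟩) ∣ 2 ^ k := by
        rw [← hk2, index_eq_card]; exact orderOf_dvd_natCard _
      have h2 : orderOf (QuotientGroup.mk' N ⟨y, hy⟩) ∣ orderOf y :=
        (orderOf_map_dvd _ _).trans (by rw [← orderOf_coe])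
      exact (QuotientGroup.eq_one_iff _).1 (orderOf_eq_one_iff.1 (Nat.eq_one_of_dvd_coprimes
        (Nat.Coprime.pow_left k (Nat.coprime_two_left.2 ho)) h1 h2))
    have hsolv : Group.IsSolvable (S : Subgroup G) ∨ Group.IsSolvable K :=
      Or.inl (Group.isSolvable_of_comm fun a b =>
        Subtype.ext (h.comm_of_mem S.2 a.2 b.2))
    have hcop := coprime_of_odd h S h4 hKcard
    -- both normalisers of `D` in `P`, `Q` grow
    have grow : ∀ V : Subgroup G, IsPGroup r V → D ≤ V → ¬ V ≤ D → ¬ V ⊓ L ≤ D := by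
      intro V hV hDV hVD hle
      haveI : Group.IsNilpotent V := hV.isNilpotent
      have hlt : D.subgroupOf V < ⊤ := lt_top_iff_ne_top.2 fun e => hVD (subgroupOf_eq_top.1 e)
      obtain ⟨a, ha, haD⟩ := SetLike.exists_of_lt (Group.normalizerCondition_of_isNilpotent _ hlt)
      rw [← subgroupOf_normalizer_eq hDV, mem_subgroupOf] at ha
      exact haD (mem_subgroupOf.2 (hle ⟨a.2, ha⟩))
    obtain ⟨hPQ', hQP'⟩ := step P Q hP hQ hPQ
    have hgP := grow P hP.1.1 inf_le_left fun hle => hPQ' (hle.trans inf_le_right)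
    have hgQ := grow Q hQ.1.1 inf_le_right fun hle => hQP' (hle.trans inf_le_left)
    have hinK : ∀ V : Subgroup G, IsPGroup r V → V ⊓ L ≤ K := fun V hV y hy =>
      hmem y hy.2 (orderOf_odd_of_card (h.odd_card_of_isPGroup (hV.to_le inf_le_left)) hy)
    obtain ⟨A, hPA, hSA⟩ := Coprime.exists_invariant_sylow_ge (p := r) hSK hcop hsolv
      (hinK P hP.1.1) (hP.1.1.to_le inf_le_left)
      (Coprime.le_normalizer_inf_inf hP.1.2 (hSD.trans le_normalizer))
    obtain ⟨B, hQB, hSB⟩ := Coprime.exists_invariant_sylow_ge (p := r) hSK hcop hsolv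
      (hinK Q hQ.1.1) (hQ.1.1.to_le inf_le_left)
      (Coprime.le_normalizer_inf_inf hQ.1.2 (hSD.trans le_normalizer))
    obtain ⟨c, hcS, hc⟩ := Coprime.invariant_sylow_conj hSK hcop hsolv B A hSB hSA
    have hcS' : ∀ s ∈ (S : Subgroup G), Commute (c : G) s := fun s hs =>
      (mem_centralizer_iff.1 hcS s hs).symm
    have hcodd : Odd (orderOf (c : G)) := orderOf_odd_of_card hKcard c.2
    have hcD : (c : G) ∈ normalizer (D : Set G) := map_subtype_le N c.2
    set A' := (A : Subgroup K).map K.subtype with hA'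
    have hBA : MulAut.conj (c : G) • ((B : Subgroup K).map K.subtype) = A' := by
      have h1 := Coprime.conj_smul_map K.subtype c (B : Subgroup K)
      have h2 : MulAut.conj c • (B : Subgroup K) = A := by rw [← hc]; rfl
      rw [h2] at h1
      exact h1
    obtain ⟨M, hAM, hM⟩ := Set.Finite.exists_le_maximal
      (Set.toFinite {V : Subgroup G | IsPGroup r V ∧ (S : Subgroup G) ≤ normalizer (V : Set G)})
      (a := A') ⟨A.2.map _, hSA⟩
    have hsmall : ∀ V : Subgroup G, D ≤ V → ¬ V ≤ D → Nat.card G ≤ Nat.card V + n := by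
      intro V hDV hVD
      have : Nat.card D < Nat.card V := lt_of_not_ge fun hge =>
        hVD (Subgroup.eq_of_le_of_card_ge hDV hge).ge
      omega
    have hDPL : D ≤ P ⊓ L := le_inf inf_le_left le_normalizer
    have h1 : P ⊓ L ≤ P ⊓ M := le_inf inf_le_left (hPA.trans hAM)
    obtain ⟨s, hs, q, hq, hsq⟩ := hmv
    obtain ⟨x, hxS, hxo, hx⟩ := ih P M hP hM
      (hsmall _ (hDPL.trans h1) fun hle => hgP (h1.trans hle))
      ⟨s, hs, q, h1 (hDPL hq), hsq⟩
    set Q' := MulAut.conj (c : G) • Q with hQ'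
    have hQ'big : Big (r := r) S Q' := by
      have hcN : ∀ V : Subgroup G, (S : Subgroup G) ≤ normalizer (V : Set G) →
          ∀ g : G, (∀ s ∈ (S : Subgroup G), Commute g s) →
          (S : Subgroup G) ≤ normalizer ((MulAut.conj g • V : Subgroup G) : Set G) := by
        intro V hV g hg s hs
        rw [mem_normalizer_iff]
        intro a
        rw [Coprime.mem_conj_smul, Coprime.mem_conj_smul]
        rw [show g⁻¹ * (s * a * s⁻¹) * g = s * (g⁻¹ * a * g) * s⁻¹ by
          have e1 := (hg s hs).inv_left.eq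
          calc g⁻¹ * (s * a * s⁻¹) * g = g⁻¹ * s * a * (s⁻¹ * g) := by group
            _ = s * g⁻¹ * a * (g * s⁻¹) := by rw [e1, ← ((hg s hs).inv_right).eq]
            _ = _ := by group]
        exact mem_normalizer_iff.1 (hV hs) _
      refine ⟨⟨hQ.1.1.map _, hcN Q hQ.1.2 c hcS'⟩, fun V hV hle => ?_⟩
      have hle' : Q ≤ MulAut.conj (c : G)⁻¹ • V := by
        rw [map_inv, ← Subgroup.pointwise_smul_le_pointwise_smul_iff (a := MulAut.conj (c : G)),
          smul_inv_smul]
        exact hle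
      have := hQ.2 ⟨hV.1.map _, hcN V hV.2 _ fun s hs => (hcS' s hs).inv_left⟩ hle'
      rw [hQ', ← Subgroup.pointwise_smul_le_pointwise_smul_iff (a := MulAut.conj (c : G)⁻¹),
        map_inv, inv_smul_smul, ← map_inv]
      exact this
    have hcQL : MulAut.conj (c : G) • (Q ⊓ L) ≤ M ⊓ Q' := by
      refine le_inf ?_ (Subgroup.pointwise_smul_le_pointwise_smul_iff.2 inf_le_left)
      exact ((Subgroup.pointwise_smul_le_pointwise_smul_iff.2 hQB).trans hBA.le).trans hAM
    have hcDD : MulAut.conj (c : G) • D = D := Coprime.conj_smul_eq_self_of_mem_normalizer hcD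
    have hDQ' : D ≤ MulAut.conj (c : G) • (Q ⊓ L) :=
      hcDD.ge.trans (Subgroup.pointwise_smul_le_pointwise_smul_iff.2 (le_inf inf_le_right le_normalizer))
    obtain ⟨x', hxS', hxo', hx'⟩ := ih M Q' hM hQ'big
      (hsmall _ (hDQ'.trans hcQL) fun hle => hgQ (by
        rw [← Subgroup.pointwise_smul_le_pointwise_smul_iff (a := MulAut.conj (c : G)), hcDD]
        exact hcQL.trans hle))
      ⟨s, hs, q, hcQL (hDQ' hq), hsq⟩
    refine ⟨(c : G)⁻¹ * x' * x, fun a ha => (((hcS' a ha).inv_left).mul_left (hxS' a ha)).mul_left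
      (hxS a ha), ?_, by rw [map_mul, map_mul, mul_smul, mul_smul, hx, hx', map_inv, inv_smul_smul]⟩
    -- odd elements of the centraliser of `S` form a group
    obtain ⟨t, ht, ht1⟩ : ∃ t ∈ (S : Subgroup G), t ≠ 1 := by
      obtain ⟨w, hw, hw1, -⟩ := exists_other h S h4 (one_mem _)
      exact ⟨w, hw, hw1⟩
    have hin : ∀ y : G, Odd (orderOf y) → (∀ a ∈ (S : Subgroup G), Commute y a) → y ∈ coreC t :=
      fun y => mem_coreC_of_centralizes h S h4 ht ht1
    exact odd_of_mem_core (mul_mem (mul_mem (inv_mem (hin _ hcodd hcS')) (hin _ hxo' hxS'))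
      (hin _ hxo hxS))

variable (hd : ∃ d ∈ normalizer ((S : Subgroup G) : Set G), ∃ s ∈ (S : Subgroup G), d * s * d⁻¹ ≠ s)
include hd

/-- All involutions of `S` are conjugate under `N(S)`. -/
theorem exists_map {t w : G} (ht : t ∈ (S : Subgroup G)) (ht1 : t ≠ 1)
    (hw : w ∈ (S : Subgroup G)) (hw1 : w ≠ 1) :
    ∃ g ∈ normalizer ((S : Subgroup G) : Set G), g * t * g⁻¹ = w := by
  obtain ⟨d, hdN, s, hs, hne⟩ := hd
  have hsq := h.sq_of_mem_sylow S
  have nofix : ∀ a ∈ (S : Subgroup G), a ≠ 1 → ¬ Commute d a := fun a ha ha1 hc =>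
    hne (by rw [(fix_one S h4 hsq hdN ha ha1 hc s hs).eq, mul_inv_cancel_right])
  have himg : ∀ a ∈ (S : Subgroup G), a ≠ 1 →
      d * a * d⁻¹ ∈ (S : Subgroup G) ∧ d * a * d⁻¹ ≠ 1 ∧ d * a * d⁻¹ ≠ a :=
    fun a ha ha1 => ⟨(mem_normalizer_iff.1 hdN a).1 ha, fun e => ha1 (conj_eq_one_iff.1 e),
      fun e => nofix a ha ha1 (mul_inv_eq_iff_eq_mul.1 e)⟩
  by_cases hwt : w = t
  · exact ⟨1, one_mem _, by rw [hwt]; group⟩
  obtain ⟨h1, h11, h1t⟩ := himg t ht ht1
  obtain ⟨h2, h21, h21'⟩ := himg _ h1 h11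
  by_cases e1 : d * t * d⁻¹ = w
  · exact ⟨d, hdN, e1⟩
  refine ⟨d * d, mul_mem hdN hdN, ?_⟩
  have h2t : d * (d * t * d⁻¹) * d⁻¹ ≠ t := by
    intro e
    have h' : Commute (d * d) t := mul_inv_eq_iff_eq_mul.1 (by
      rw [show d * d * t * (d * d)⁻¹ = d * (d * t * d⁻¹) * d⁻¹ by group, e])
    have h'' : Commute (d * d) s := fix_one S h4 hsq (mul_mem hdN hdN) ht ht1 h' s hs
    -- the third involution is then fixed
    rcases four_elems S h4 ht h1 ht1 h11 h1t (hsq t ht) hw with e' | e' | e' | e'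
    · exact hw1 e'
    · exact hwt e'
    · exact e1 e'.symm
    · refine nofix w hw hw1 (mul_inv_eq_iff_eq_mul.1 ?_)
      rw [e', show d * (t * (d * t * d⁻¹)) * d⁻¹ = (d * t * d⁻¹) * (d * (d * t * d⁻¹) * d⁻¹) by group,
        e, h.comm_of_mem S.2 h1 ht]
  rcases four_elems S h4 ht h1 ht1 h11 h1t (hsq t ht) hw with e' | e' | e' | e'
  · exact absurd e' hw1
  · exact absurd e' hwt
  · exact absurd e'.symm e1
  · rcases four_elems S h4 ht h1 ht1 h11 h1t (hsq t ht) h2 with e'' | e'' | e'' | e''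
    · exact absurd e'' h21
    · exact absurd e'' h2t
    · exact absurd e'' h21'
    · rw [e', ← e'']; group

/-- If the core of `C(t)` is moved by `S` it is the only maximal invariant `r`-subgroup containing
it, and meets the other centralisers inside `C(S)`. -/
theorem core_big {t : G} (ht : t ∈ (S : Subgroup G)) (ht1 : t ≠ 1)
    (hR : ∃ s ∈ (S : Subgroup G), ∃ q ∈ coreC t, s * q * s⁻¹ ≠ q) :
    Big (r := r) S (coreC t) ∧
      ∀ w ∈ (S : Subgroup G), w ≠ 1 → w ≠ t → ∀ y ∈ coreC t, Commute y w →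
        ∀ s ∈ (S : Subgroup G), Commute y s := by
  have ht2 := h.orderOf_two_of_mem S ht ht1
  have hRp := h.isPGroup_coreC ht2
  obtain ⟨P, hRP, hP⟩ := Set.Finite.exists_le_maximal
    (Set.toFinite {V : Subgroup G | IsPGroup r V ∧ (S : Subgroup G) ≤ normalizer (V : Set G)})
    (a := coreC t) ⟨hRp, le_normalizer_coreC h S h4 ht⟩
  have key : ∀ w ∈ (S : Subgroup G), w ≠ 1 → w ≠ t → ∀ y ∈ P, Commute y w →
      ∀ s ∈ (S : Subgroup G), Commute y s := by
    intro w hw hw1 hwt y hy hyw
    by_contra hne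
    push Not at hne
    obtain ⟨s, hs, hys⟩ := hne
    obtain ⟨g, hg, hgw⟩ := exists_map h S h4 hk hd ht ht1 hw hw1
    have hyo : Odd (orderOf y) := orderOf_odd_of_card (h.odd_card_of_isPGroup hP.1.1) hy
    have hyg : y ∈ MulAut.conj g • P := by
      rw [Coprime.mem_conj_smul]
      refine hRP (mem_coreC h S h4 ht ht1 ?_ ?_)
      · have : orderOf (g⁻¹ * y * g) = orderOf y := by
          simpa using orderOf_injective (MulAut.conj g⁻¹ : G ≃* G).toMonoidHom
            (MulAut.conj g⁻¹).injective y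
        rwa [this]
      · have hh : Commute (g⁻¹ * y * g) (g⁻¹ * w * g) := by
          have := hyw.map (MulAut.conj g⁻¹ : G ≃* G).toMonoidHom
          simpa using this
        rwa [show g⁻¹ * w * g = t by rw [← hgw]; group] at hh
    have hSg : MulAut.conj g • (S : Subgroup G) = S := Coprime.conj_smul_eq_self_of_mem_normalizer hg
    have hconjN : ∀ V : Subgroup G, (S : Subgroup G) ≤ normalizer (V : Set G) →
        ∀ f : G, MulAut.conj f • (S : Subgroup G) = S →
        (S : Subgroup G) ≤ normalizer ((MulAut.conj f • V : Subgroup G) : Set G) := fun V hV f hf =>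
      hf ▸ Coprime.le_normalizer_conj_smul hV
    have hPg : Big (r := r) S (MulAut.conj g • P) := by
      refine ⟨⟨hP.1.1.map _, hconjN P hP.1.2 g hSg⟩, fun V hV hle => ?_⟩
      have hSg' : MulAut.conj g⁻¹ • (S : Subgroup G) = S :=
        Coprime.conj_smul_eq_self_of_mem_normalizer (inv_mem hg)
      have hVp : IsPGroup r ↥(MulAut.conj g⁻¹ • V) := hV.1.map _
      have := hP.2 (y := MulAut.conj g⁻¹ • V) ⟨hVp, hconjN V hV.2 g⁻¹ hSg'⟩ (by
        rw [← Subgroup.pointwise_smul_le_pointwise_smul_iff (a := MulAut.conj g), map_inv,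
          smul_inv_smul]
        exact hle)
      rw [← Subgroup.pointwise_smul_le_pointwise_smul_iff (a := MulAut.conj g⁻¹), map_inv,
        inv_smul_smul, ← map_inv]
      exact this
    have hmv : ∃ s ∈ (S : Subgroup G), ∃ q ∈ P ⊓ MulAut.conj g • P, s * q * s⁻¹ ≠ q :=
      ⟨s, hs, y, ⟨hy, hyg⟩, fun e => hys (mul_inv_eq_iff_eq_mul.1 e).symm⟩
    obtain ⟨x, hxS, hxo, hx⟩ := big_conj h S h4 hk (Nat.card G) P _ hP hPg (Nat.le_add_left _ _) hmv
    have hxP : x ∈ P := hRP (mem_coreC_of_centralizes h S h4 ht ht1 hxo hxS)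
    rw [Coprime.conj_smul_eq_self_of_mem_normalizer (le_normalizer hxP)] at hx
    obtain ⟨s', hs', q, hq, hqs⟩ := hmv
    have hgP : g ∈ normalizer (P : Set G) := by
      rw [mem_normalizer_iff]
      intro a
      conv_rhs => rw [hx]
      rw [Coprime.mem_conj_smul]
      rw [show g⁻¹ * (g * a * g⁻¹) * g = a by group]
    have := hk P hP.1.1 hP.1.2 ⟨s', hs', q, hq.1, hqs⟩ g hg hgP t ht
    exact hwt (by rw [← hgw, this.eq, mul_inv_cancel_right])
  have hPR : P ≤ coreC t := by
    haveI := h.isMulCommutative S.2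
    refine Coprime.le_of_centralizer_le_of_not_isCyclic (not_isCyclic_four h S h4) hP.1.2
      (coprime_of_odd h S h4 (h.odd_card_of_isPGroup hP.1.1)) fun a ha ha1 y hy => ?_
    have hya : Commute y a := mem_centralizer_singleton_iff.1 hy.2
    have hyo : Odd (orderOf y) := orderOf_odd_of_card (h.odd_card_of_isPGroup hP.1.1) hy.1
    refine mem_coreC h S h4 ht ht1 hyo ?_
    by_cases hat : a = t
    · exact hat ▸ hya
    · exact key a ha ha1 hat y hy.1 hya t ht
  rw [le_antisymm hPR hRP] at hP key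
  exact ⟨hP, key⟩

/-- If some nontrivial element of odd order centralises `S`, then every element of odd order
commuting with an involution of `S` centralises `S`. -/
theorem commute_of_commute_one_aux
    (hX : ∃ x : G, x ≠ 1 ∧ Odd (orderOf x) ∧ ∀ s ∈ (S : Subgroup G), Commute x s) :
    ∀ t ∈ (S : Subgroup G), t ≠ 1 → ∀ y : G, Odd (orderOf y) → Commute y t →
      ∀ s ∈ (S : Subgroup G), Commute y s := by
  classical
  intro t ht ht1 y₀ hy₀ hy₀t s₀ hs₀
  by_contra hne
  haveI : Fact r.Prime := ⟨h.prime⟩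
  set R := coreC t with hRdef
  have hR : ∃ s ∈ (S : Subgroup G), ∃ q ∈ R, s * q * s⁻¹ ≠ q :=
    ⟨s₀, hs₀, y₀, mem_coreC h S h4 ht ht1 hy₀ hy₀t,
      fun e => hne (mul_inv_eq_iff_eq_mul.1 e).symm⟩
  obtain ⟨hbig, hkey⟩ := core_big h S h4 hk hd ht ht1 hR
  have ht2 := h.orderOf_two_of_mem S ht ht1
  have hRp : IsPGroup r R := h.isPGroup_coreC ht2
  set X := R ⊓ centralizer ((S : Subgroup G) : Set G) with hXdef
  have hXmem : ∀ y : G, y ∈ X ↔ Odd (orderOf y) ∧ ∀ s ∈ (S : Subgroup G), Commute y s := by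
    intro y
    constructor
    · exact fun hy => ⟨odd_of_mem_core hy.1, fun s hs => (mem_centralizer_iff.1 hy.2 s hs).symm⟩
    · exact fun hy => ⟨mem_coreC_of_centralizes h S h4 ht ht1 hy.1 hy.2,
        mem_centralizer_iff.2 fun s hs => (hy.2 s hs).eq.symm⟩
  obtain ⟨x₀, hx₀1, hx₀o, hx₀S⟩ := hX
  have hx₀X : x₀ ∈ X := (hXmem x₀).2 ⟨hx₀o, hx₀S⟩
  have hXp : IsPGroup r X := hRp.to_le inf_le_left
  -- `X` grows inside `R`
  obtain ⟨w, hw, hw1, hwt⟩ := exists_other h S h4 ht
  have hw2 := h.orderOf_two_of_mem S hw hw1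
  have hXR : X ≤ R := inf_le_left
  haveI : Group.IsNilpotent R := hRp.isNilpotent
  have hlt : X.subgroupOf R < ⊤ := lt_top_iff_ne_top.2 fun e => by
    obtain ⟨s, hs, q, hq, hsq⟩ := hR
    have hqX : q ∈ X := subgroupOf_eq_top.1 e hq
    exact hsq (by rw [← (((hXmem q).1 hqX).2 s hs).eq, mul_inv_cancel_right])
  obtain ⟨⟨a, haR⟩, ha, haX⟩ :=
    SetLike.exists_of_lt (Group.normalizerCondition_of_isNilpotent _ hlt)
  rw [← subgroupOf_normalizer_eq hXR, mem_subgroupOf] at ha
  rw [mem_subgroupOf] at haX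
  have hww := h.sq_of_mem_sylow S w hw
  have hwinv : w⁻¹ = w := inv_eq_of_mul_eq_one_left hww
  have hwR : w * a * w ∈ R := by
    have := (mem_normalizer_iff.1 (le_normalizer_coreC h S h4 ht hw) a).1 haR
    rwa [hwinv] at this
  set y := a⁻¹ * (w * a * w) with hydef
  have hyR : y ∈ R := mul_mem (inv_mem haR) hwR
  have hyinv : w * y * w = y⁻¹ := by
    rw [hydef, mul_inv_rev, inv_inv]
    calc w * (a⁻¹ * (w * a * w)) * w = w * a⁻¹ * w * a * (w * w) := by group
      _ = (w * a * w)⁻¹ * a := by rw [hww, mul_one, mul_inv_rev, mul_inv_rev, hwinv, ← mul_assoc]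
  have hy1 : y ≠ 1 := by
    intro e
    have e' : a = w * a * w := by rwa [hydef, inv_mul_eq_one] at e
    refine haX ((hXmem a).2 ⟨odd_of_mem_core haR, hkey w hw hw1 hwt a haR ?_⟩)
    calc a * w = w * a * w * w := by rw [← e']
      _ = w * a := by rw [mul_assoc, hww, mul_one]
  have hyX : ∀ x ∈ X, Commute y x := by
    intro x hx
    have hxw : Commute x w := ((hXmem x).1 hx).2 w hw
    have hx' : a * x * a⁻¹ ∈ X := (mem_normalizer_iff.1 ha x).1 hx
    have hx'w : Commute (a * x * a⁻¹) w := ((hXmem _).1 hx').2 w hw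
    have hwx : w * x * w = x := by rw [← hxw.eq, mul_assoc, hww, mul_one]
    show y * x = x * y
    calc y * x = a⁻¹ * w * a * (w * x * w) * w⁻¹ := by rw [hydef]; group
      _ = a⁻¹ * (w * (a * x * a⁻¹)) * a * w := by rw [hwx, hwinv]; group
      _ = a⁻¹ * ((a * x * a⁻¹) * w) * a * w := by rw [hx'w.eq]
      _ = x * y := by rw [hydef]; group
  -- the centraliser of `X`
  set M := centralizer (X : Set G) with hMdef
  have hSM : (S : Subgroup G) ≤ M := fun s hs => mem_centralizer_iff.2 fun x hx =>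
    (((hXmem x).1 hx).2 s hs).eq
  have hMe : ∀ g ∈ M, g ^ (2 * r) = 1 := fun g hg =>
    h.pow_two_r (h.orderOf_eq_r hXp hx₀X hx₀1) (mem_centralizer_iff.1 hg x₀ hx₀X)
  set K := (Cfsg.pPrimeCore 2 M).map M.subtype with hKdef
  have hKy : y ∈ K := h.mem_core S h4 M hMe hSM ht ht1
    (mem_centralizer_iff.2 fun x hx => (hyX x hx).eq.symm) (odd_of_mem_core hyR)
    (commute_of_mem_coreC hyR)
  obtain ⟨g, hg, hgw⟩ := exists_map h S h4 hk hd ht ht1 hw hw1
  have hgX : g ∈ normalizer (X : Set G) := by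
    have hpres : ∀ f ∈ normalizer ((S : Subgroup G) : Set G), ∀ x ∈ X, f * x * f⁻¹ ∈ X := by
      intro f hf x hx
      obtain ⟨hxo, hxS⟩ := (hXmem x).1 hx
      refine (hXmem _).2 ⟨?_, fun s hs => ?_⟩
      · rwa [show orderOf (f * x * f⁻¹) = orderOf x by
          simpa using orderOf_injective (MulAut.conj f : G ≃* G).toMonoidHom
            (MulAut.conj f).injective x]
      · have hs' : f⁻¹ * s * f ∈ (S : Subgroup G) := (mem_normalizer_iff''.1 hf s).1 hs
        have := (hxS _ hs').map (MulAut.conj f : G ≃* G).toMonoidHom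
        simpa [mul_assoc] using this
    refine mem_normalizer_iff.2 fun x => ⟨hpres g hg x, fun hx => ?_⟩
    have := hpres g⁻¹ (inv_mem hg) _ hx
    rwa [show g⁻¹ * (g * x * g⁻¹) * g⁻¹⁻¹ = x by group] at this
  have hgK : g ∈ normalizer (K : Set G) := by
    have hgM : g ∈ normalizer (M : Set G) :=
      Coprime.le_normalizer_centralizer (zpowers_le.2 hgX) (mem_zpowers g)
    exact Base.normalizer_le_normalizer_map_subtype M _ hgM
  have hcm := hk K (h.isPGroup_core hMe) (hSM.trans (Base.le_normalizer_map_pPrimeCore M))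
    ⟨w, hw, y, hKy, fun e => hy1 ?_⟩ g hg hgK t ht
  · exact hwt (by rw [← hgw, hcm.eq, mul_inv_cancel_right])
  · refine Involutions.eq_one_of_eq_inv_of_odd ?_ (odd_of_mem_core hyR)
    rw [← hyinv]
    rw [hwinv] at e
    exact e.symm

/-- If no nontrivial element of odd order centralises `S`, the hypotheses of the theorem of
Brauer, Suzuki and Wall hold. -/
theorem core_facts_aux
    (hX : ¬ ∃ x : G, x ≠ 1 ∧ Odd (orderOf x) ∧ ∀ s ∈ (S : Subgroup G), Commute x s)
    {t : G} (ht : t ∈ (S : Subgroup G)) (ht1 : t ≠ 1) :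
    (coreC t ≠ ⊥ → IsCyclic ((S : Subgroup G) ⊓ centralizer (coreC t : Set G) : Subgroup G) ∧
      ((S : Subgroup G) ⊓ centralizer (coreC t : Set G)).relIndex (S : Subgroup G) = 2) ∧
    (∀ s ∈ (S : Subgroup G), s ∉ centralizer (coreC t : Set G) →
      ∀ y ∈ coreC t, s * y * s⁻¹ = y⁻¹) ∧
    (∀ Y : Subgroup G, Y ≤ coreC t → Y ≠ ⊥ →
      normalizer (Y : Set G) ≤ centralizer ({t} : Set G)) := by
  push Not at hX
  have free : ∀ x : G, Odd (orderOf x) → (∀ s ∈ (S : Subgroup G), Commute x s) → x = 1 := by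
    intro x hxo hx
    by_contra hx1
    obtain ⟨s, hs, hns⟩ := hX x hx1 hxo
    exact hns (hx s hs)
  haveI : Fact (Nat.Prime 2) := ⟨Nat.prime_two⟩
  set R := coreC t with hRdef
  have ht2 := h.orderOf_two_of_mem S ht ht1
  have hRp : IsPGroup r R := h.isPGroup_coreC ht2
  have hinv : ∀ w ∈ (S : Subgroup G), w ≠ 1 → w ≠ t → ∀ y ∈ R, w * y * w = y⁻¹ := by
    intro w hw hw1 hwt
    have hww := h.sq_of_mem_sylow S w hw
    refine Involutions.inverts_of_fpf R (h.orderOf_two_of_mem S hw hw1) (fun d hdm => ?_)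
      fun d hdm hdw => ?_
    · have := (mem_normalizer_iff.1 (le_normalizer_coreC h S h4 ht hw) d).1 hdm
      rwa [inv_eq_of_mul_eq_one_left hww] at this
    · refine free d (odd_of_mem_core hdm) (centralizes_of_two h S h4 ht ht1 hw hw1 hwt
        (commute_of_mem_coreC hdm) ?_)
      calc d * w = w * d * w * w := by rw [hdw]
        _ = w * d := by rw [mul_assoc, hww, mul_one]
  have hnot : ∀ w ∈ (S : Subgroup G), w ≠ 1 → w ≠ t → ∀ y ∈ R, Commute w y → y = 1 := by
    intro w hw hw1 hwt y hy hc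
    refine Involutions.eq_one_of_eq_inv_of_odd ?_ (odd_of_mem_core hy)
    rw [← hinv w hw hw1 hwt y hy, hc.eq, mul_assoc, h.sq_of_mem_sylow S w hw, mul_one]
  refine ⟨fun hne => ?_, fun s hs hsC y hy => ?_, fun Y hY hne => ?_⟩
  · obtain ⟨⟨y, hy⟩, hy1⟩ := (ne_bot_iff_exists_ne_one).1 hne
    have hy1' : y ≠ 1 := fun e => hy1 (Subtype.ext e)
    have heq : (S : Subgroup G) ⊓ centralizer (R : Set G) = zpowers t := by
      refine le_antisymm (fun s hs => ?_) (zpowers_le.2 ⟨ht, mem_centralizer_iff.2 fun a ha =>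
        (commute_of_mem_coreC ha).eq⟩)
      by_cases hs1 : s = 1
      · rw [hs1]; exact one_mem _
      by_cases hst : s = t
      · rw [hst]; exact mem_zpowers t
      exact absurd (hnot s hs.1 hs1 hst y hy (mem_centralizer_iff.1 hs.2 y hy).symm) hy1'
    refine ⟨heq ▸ isCyclic_zpowers t, ?_⟩
    rw [heq, relIndex]
    have h1 := Subgroup.card_mul_index ((zpowers t).subgroupOf (S : Subgroup G))
    rw [Nat.card_congr (subgroupOfEquivOfLe (zpowers_le.2 ht)).toEquiv, Nat.card_zpowers, ht2,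
      h4] at h1
    omega
  · have hs1 : s ≠ 1 := fun e => hsC (e ▸ one_mem _)
    have hst : s ≠ t := fun e => hsC (e ▸ mem_centralizer_iff.2 fun a ha =>
      (commute_of_mem_coreC ha).eq)
    rw [inv_eq_of_mul_eq_one_left (h.sq_of_mem_sylow S s hs)]
    exact hinv s hs hs1 hst y hy
  · obtain ⟨⟨y, hyY⟩, hy1⟩ := (ne_bot_iff_exists_ne_one).1 hne
    have hy1' : y ≠ 1 := fun e => hy1 (Subtype.ext e)
    have hyr : orderOf y = r := h.orderOf_eq_r hRp (hY hyY) hy1'
    set M := centralizer (Y : Set G) with hMdef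
    have hMe : ∀ g ∈ M, g ^ (2 * r) = 1 := fun g hg =>
      h.pow_two_r hyr (mem_centralizer_iff.1 hg y hyY)
    have htM : t ∈ M := mem_centralizer_iff.2 fun a ha => (commute_of_mem_coreC (hY ha)).eq
    have hRab : ∀ a ∈ R, ∀ b ∈ R, a * b = b * a := by
      intro a ha b hb
      obtain ⟨w, hw, hw1, hwt⟩ := exists_other h S h4 ht
      have hww := h.sq_of_mem_sylow S w hw
      have e := hinv w hw hw1 hwt _ (mul_mem ha hb)
      rw [mul_inv_rev, ← hinv w hw hw1 hwt a ha, ← hinv w hw hw1 hwt b hb] at e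
      have e' : w * (a * b) * w = w * (b * a) * w := by
        rw [e]
        calc w * b * w * (w * a * w) = w * b * (w * w) * a * w := by group
          _ = w * (b * a) * w := by rw [hww]; group
      exact mul_left_cancel (mul_right_cancel e')
    -- the only involution of `C(Y)` commuting with `t` is `t`
    have huniq : ∀ i : G, orderOf i = 2 → i ∈ M → Commute i t → i = t := by
      intro i hi hiM hit
      by_contra hne'
      have hii := Involutions.invol_mul_self hi
      have htt := h.sq_of_mem_sylow S t ht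
      have hV : IsPGroup 2 (zpowers i ⊔ zpowers t : Subgroup G) := by
        refine IsPGroup.to_sup_of_normal_right' ?_ ?_ ?_
        · exact IsPGroup.of_card (n := 1) (by rw [Nat.card_zpowers, hi, pow_one])
        · exact IsPGroup.of_card (n := 1) (by rw [Nat.card_zpowers, ht2, pow_one])
        · refine zpowers_le.2 (mem_normalizer_iff.2 fun a => ?_)
          constructor <;> intro ha
          · obtain ⟨k, rfl⟩ := mem_zpowers_iff.1 ha
            rw [(hit.zpow_right k).eq, mul_inv_cancel_right]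
            exact zpow_mem (mem_zpowers t) k
          · obtain ⟨k, hk'⟩ := mem_zpowers_iff.1 ha
            have : a = t ^ k := by
              calc a = i⁻¹ * (i * a * i⁻¹) * i := by group
                _ = t ^ k := by rw [← hk', mul_assoc, ← (hit.zpow_right k).eq, inv_mul_cancel_left]
            rw [this]; exact zpow_mem (mem_zpowers t) k
      obtain ⟨T, hT⟩ := hV.exists_le_sylow
      obtain ⟨g, hg⟩ := MulAction.exists_smul_eq G S T
      have h4T : ∀ a ∈ (T : Subgroup G), g⁻¹ * a * g ∈ (S : Subgroup G) := by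
        intro a ha
        rw [← hg] at ha
        exact Coprime.mem_conj_smul.1 ha
      have hi' := h4T i (hT (mem_sup_left (mem_zpowers i)))
      have ht' := h4T t (hT (mem_sup_right (mem_zpowers t)))
      have hc1 : Commute (g⁻¹ * y * g) (g⁻¹ * i * g) := by
        simpa using (Commute.map (show Commute y i from mem_centralizer_iff.1 hiM y hyY)
          (MulAut.conj g⁻¹ : G ≃* G).toMonoidHom)
      have hc2 : Commute (g⁻¹ * y * g) (g⁻¹ * t * g) := by
        simpa using ((commute_of_mem_coreC (hY hyY)).map (MulAut.conj g⁻¹ : G ≃* G).toMonoidHom)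
      have hord : orderOf (g⁻¹ * y * g) = orderOf y := by
        simpa using orderOf_injective (MulAut.conj g⁻¹ : G ≃* G).toMonoidHom
          (MulAut.conj g⁻¹).injective y
      have hi1 : g⁻¹ * i * g ≠ 1 := fun e => Involutions.invol_ne_one hi (by
        calc i = g * (g⁻¹ * i * g) * g⁻¹ := by group
          _ = 1 := by rw [e]; group)
      have ht1' : g⁻¹ * t * g ≠ 1 := fun e => ht1 (by
        calc t = g * (g⁻¹ * t * g) * g⁻¹ := by group
          _ = 1 := by rw [e]; group)
      have hti : g⁻¹ * t * g ≠ g⁻¹ * i * g := fun e => hne' (by simpa using e.symm)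
      have := free _ (by rw [hord, hyr]; exact h.odd)
        (centralizes_of_two h S h4 hi' hi1 ht' ht1' hti hc1 hc2)
      exact hy1' (by
        calc y = g * (g⁻¹ * y * g) * g⁻¹ := by group
          _ = 1 := by rw [this]; group)
    -- `C(Y) ≤ C(t)`
    set K := (Cfsg.pPrimeCore 2 M).map M.subtype with hKdef
    have hSY : (S : Subgroup G) ≤ normalizer (Y : Set G) := by
      have himg : ∀ s ∈ (S : Subgroup G), ∀ a ∈ Y, s * a * s⁻¹ ∈ Y := by
        intro s hs a ha
        rw [inv_eq_of_mul_eq_one_left (h.sq_of_mem_sylow S s hs)]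
        by_cases hs1 : s = 1
        · rw [hs1, one_mul, mul_one]; exact ha
        by_cases hst : s = t
        · rw [hst, ← (commute_of_mem_coreC (hY ha)).eq, mul_assoc, h.sq_of_mem_sylow S t ht,
            mul_one]
          exact ha
        · rw [hinv s hs hs1 hst a (hY ha)]; exact inv_mem ha
      refine fun s hs => mem_normalizer_iff.2 fun a => ⟨himg s hs a, fun ha => ?_⟩
      have := himg s⁻¹ (inv_mem hs) _ ha
      rwa [show s⁻¹ * (s * a * s⁻¹) * s⁻¹⁻¹ = a by group] at this
    have hSK : (S : Subgroup G) ≤ normalizer (K : Set G) :=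
      ((hSY.trans (Coprime.le_normalizer_centralizer le_rfl))).trans
        (Base.normalizer_le_normalizer_map_subtype M _)
    haveI : Group.IsSolvable M :=
      isSolvable_of_exp h.prime fun g => Subtype.ext (by simpa using hMe g g.2)
    -- the Sylow subgroup of `C(Y)` is generated by `t`
    let tM : M := ⟨t, htM⟩
    have htM2 : orderOf tM = 2 := by rw [← orderOf_coe]; exact ht2
    obtain ⟨T, hT⟩ := (IsPGroup.of_card (p := 2) (n := 1)
      (by rw [Nat.card_zpowers, htM2, pow_one]) : IsPGroup 2 (zpowers tM)).exists_le_sylow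
    have htT : tM ∈ (T : Subgroup M) := hT (mem_zpowers _)
    have hTel : ∀ a ∈ (T : Subgroup M), a = 1 ∨ a = tM := by
      intro a ha
      by_cases ha1 : a = 1
      · exact Or.inl ha1
      refine Or.inr (Subtype.ext (huniq a ?_ a.2 ?_))
      · rw [orderOf_coe]
        refine orderOf_eq_prime ?_ ha1
        have := h.subgroup M
        rw [pow_two]
        exact this.mul_self_of_mem T.2 ha
      · exact congrArg Subtype.val ((h.subgroup M).comm_of_mem T.2 ha htT)
    have hab : ∀ a ∈ (T : Subgroup M), ∀ b ∈ (T : Subgroup M), a * b = b * a :=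
      fun a ha b hb => (h.subgroup M).comm_of_mem T.2 ha hb
    have hoddK : ∀ g : M, Odd (orderOf g) → g ∈ Cfsg.pPrimeCore 2 M := by
      intro g hg
      refine mem_core_of_centralizes T hg fun a ha => ?_
      have hN := sylow_sup_core_normal T hab
      rcases hTel a ha with rfl | rfl
      · simp
      have h1 : g⁻¹ * tM * g ∈ Cfsg.pPrimeCore 2 M ⊔ (T : Subgroup M) := by
        have := hN.conj_mem tM (mem_sup_right htT) g⁻¹
        rwa [inv_inv] at this
      obtain ⟨k, hk', b, hb, hkb⟩ := Subgroup.mem_sup_of_normal_left.1 h1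
      rcases hTel b hb with rfl | rfl
      · exfalso
        rw [mul_one] at hkb
        have h2 : Odd (orderOf (g⁻¹ * tM * g)) := by
          rw [← hkb]
          exact orderOf_odd_of_card (Nat.coprime_two_right.1 (Base.pPrimeCore_coprime 2 M)) hk'
        have h3 : orderOf (g⁻¹ * tM * g) = 2 := by
          rw [← htM2]
          simpa using orderOf_injective (MulAut.conj g⁻¹ : M ≃* M).toMonoidHom
            (MulAut.conj g⁻¹).injective tM
        rw [h3] at h2
        exact absurd h2 (by decide)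
      · have h2 : tM⁻¹ * g⁻¹ * tM * g = tM⁻¹ * k * tM := by
          rw [mul_assoc tM⁻¹ k, hkb]; group
        rw [h2]
        simpa using (inferInstance : (Cfsg.pPrimeCore 2 M).Normal).conj_mem k hk' tM⁻¹
    have hKR : K ≤ R := by
      by_cases hbot : K = ⊥
      · rw [hbot]; exact bot_le
      have hR1 : ∃ s ∈ (S : Subgroup G), ∃ q ∈ R, s * q * s⁻¹ ≠ q := by
        obtain ⟨w, hw, hw1, hwt⟩ := exists_other h S h4 ht
        exact ⟨w, hw, y, hY hyY, fun e => hy1' (hnot w hw hw1 hwt y (hY hyY)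
          (mul_inv_eq_iff_eq_mul.1 e))⟩
      have hbig := (core_big h S h4 hk hd ht ht1 hR1).1
      have hRM : R ≤ M := fun a ha => mem_centralizer_iff.2 fun b hb => hRab b (hY hb) a ha
      have hRK : R ≤ K := fun a ha => ⟨⟨a, hRM ha⟩, hoddK _ (by
        rw [← orderOf_coe]; exact odd_of_mem_core ha), rfl⟩
      exact hbig.2 ⟨h.isPGroup_core hMe, hSK⟩ hRK
    have hMC : M ≤ centralizer ({t} : Set G) := by
      intro g hg
      have hcent : ∀ k : M, k ∈ Cfsg.pPrimeCore 2 M → Commute k tM := fun k hk' =>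
        Subtype.ext (commute_of_mem_coreC (hKR ⟨k, hk', rfl⟩)).eq
      have hN := sylow_sup_core_normal T hab
      have h1 : (⟨g, hg⟩ : M) * tM * (⟨g, hg⟩ : M)⁻¹ ∈ Cfsg.pPrimeCore 2 M ⊔ (T : Subgroup M) :=
        hN.conj_mem tM (mem_sup_right htT) _
      obtain ⟨k, hk', b, hb, hkb⟩ := Subgroup.mem_sup_of_normal_left.1 h1
      have hbt : Commute k b := by
        rcases hTel b hb with rfl | rfl
        · exact Commute.one_right k
        · exact hcent k hk'
      have hcmt : Commute (k * b) tM := (hcent k hk').mul_left (by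
        rcases hTel b hb with rfl | rfl
        · exact Commute.one_left _
        · exact Commute.refl _)
      rw [hkb] at hcmt
      have hi := huniq (g * t * g⁻¹) (by
          simpa [ht2] using orderOf_injective (MulAut.conj g : G ≃* G).toMonoidHom
            (MulAut.conj g).injective t)
        (mul_mem (mul_mem hg htM) (inv_mem hg)) (congrArg Subtype.val hcmt.eq)
      exact mem_centralizer_singleton_iff.2 (mul_inv_eq_iff_eq_mul.1 hi)
    intro n hn
    have hnM : n ∈ normalizer (M : Set G) :=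
      Coprime.le_normalizer_centralizer (zpowers_le.2 hn) (mem_zpowers n)
    have hconj : n * t * n⁻¹ ∈ M := (mem_normalizer_iff.1 hnM t).1 htM
    have hi := huniq (n * t * n⁻¹) (by
        simpa [ht2] using orderOf_injective (MulAut.conj n : G ≃* G).toMonoidHom
          (MulAut.conj n).injective t)
      hconj (mem_centralizer_singleton_iff.1 (hMC hconj))
    exact mem_centralizer_singleton_iff.2 (mul_inv_eq_iff_eq_mul.1 hi)

/-- A simple group of this kind with an element of order `2r` is some `PSL(2, q)`, `q` odd. -/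
theorem exists_psl_of_four_aux [IsSimpleGroup G] (hg : ∃ g : G, orderOf g = 2 * r) :
    ∃ (F : Type) (_ : Field F) (_ : Fintype F), Odd (Fintype.card F) ∧
      Nonempty (G ≃* Matrix.ProjectiveSpecialLinearGroup (Fin 2) F) := by
  haveI : Fact (Nat.Prime 2) := ⟨Nat.prime_two⟩
  obtain ⟨g, hg⟩ := hg
  obtain ⟨t, ht, ht1⟩ : ∃ t ∈ (S : Subgroup G), t ≠ 1 := by
    obtain ⟨w, hw, hw1, -⟩ := exists_other h S h4 (one_mem _)
    exact ⟨w, hw, hw1⟩
  have hklein : IsKleinFour (S : Subgroup G) := by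
    refine ⟨h4, ?_⟩
    refine Nat.dvd_antisymm
      (Monoid.exponent_dvd_of_forall_pow_eq_one fun s => Subtype.ext
        (by simpa [pow_two] using h.sq_of_mem_sylow S s s.2)) ?_
    have e : orderOf (⟨t, ht⟩ : (S : Subgroup G)) = 2 := by
      rw [← orderOf_coe]; exact h.orderOf_two_of_mem S ht ht1
    have h' := Monoid.order_dvd_exponent (⟨t, ht⟩ : (S : Subgroup G))
    rwa [e] at h'
  by_cases hX : ∃ x : G, x ≠ 1 ∧ Odd (orderOf x) ∧ ∀ s ∈ (S : Subgroup G), Commute x s
  · exfalso
    have hA := commute_of_commute_one_aux h S h4 hk hd hX t ht ht1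
    have ht2 := h.orderOf_two_of_mem S ht ht1
    set C := centralizer ({t} : Set G) with hC
    have hSC : (S : Subgroup G) ≤ C := sylow_le_centralizer h S h4 ht
    have hn : ((S : Subgroup G).subgroupOf C).Normal := by
      let T : Sylow 2 C := S.subtype hSC
      have hab : ∀ a ∈ (T : Subgroup C), ∀ b ∈ (T : Subgroup C), a * b = b * a := by
        intro a ha b hb
        rw [Sylow.coe_subtype, mem_subgroupOf] at ha hb
        exact Subtype.ext (h.comm_of_mem S.2 ha hb)
      haveI : Group.IsSolvable C := isSolvable_of_exp h.prime fun x => Subtype.ext (by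
        simpa using h.pow_two_r' ht2 (mem_centralizer_singleton_iff.1 x.2).symm)
      have hN := sylow_sup_core_normal T hab
      refine ⟨fun a ha x => ?_⟩
      rw [mem_subgroupOf] at ha ⊢
      have haT : a ∈ (T : Subgroup C) := by rw [Sylow.coe_subtype, mem_subgroupOf]; exact ha
      obtain ⟨k, hk', b, hb, hkb⟩ :=
        Subgroup.mem_sup_of_normal_left.1 (hN.conj_mem a (mem_sup_right haT) x)
      rw [Sylow.coe_subtype, mem_subgroupOf] at hb
      have hkm : (k : G) ∈ coreC t := ⟨k, hk', rfl⟩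
      have hkS := hA k (odd_of_mem_core hkm) (commute_of_mem_coreC hkm) b hb
      have h1 : ((k : G) * b) ^ 2 = 1 := by
        have e : ((k : G) * b) = (x * a * x⁻¹ : C) := congrArg Subtype.val hkb
        rw [e, ← Subgroup.coe_pow]
        have : a * a = 1 := Subtype.ext (h.sq_of_mem_sylow S _ ha)
        rw [conj_pow, pow_two, this, mul_one, mul_inv_cancel, Subgroup.coe_one]
      rw [hkS.mul_pow, pow_two (b : G), h.sq_of_mem_sylow S _ hb, mul_one] at h1
      have hk1 : (k : G) = 1 := Involutions.sq_odd_eq_one h1 (odd_of_mem_core hkm)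
      have e : ((x * a * x⁻¹ : C) : G) = (k : G) * b := (congrArg Subtype.val hkb).symm
      rw [e, hk1, one_mul]
      exact hb
    have hodd : ¬ 2 ∣ (S : Subgroup G).relIndex C := fun hd' =>
      S.not_dvd_index (hd'.trans (relIndex_dvd_index_of_le hSC))
    obtain ⟨e⟩ := Small.KleinNormal.equiv_alternating t ht2 (S : Subgroup G) hSC hklein hodd hn
    have hall : ∀ a : alternatingGroup (Fin 5), a ^ 2 = 1 ∨ a ^ 3 = 1 ∨ a ^ 5 = 1 := by
      decide +kernel
    have h2r : 6 ≤ 2 * r := by have := h.two_lt; omega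
    have ho : orderOf (e g) = 2 * r := by rw [MulEquiv.orderOf_eq, hg]
    rcases hall (e g) with h' | h' | h' <;>
      have h'' := Nat.le_of_dvd (by norm_num) (orderOf_dvd_of_pow_eq_one h') <;> omega
  · obtain ⟨ha, hb, hc⟩ := core_facts_aux h S h4 hk hd hX ht ht1
    haveI := hklein
    obtain ⟨eS⟩ := IsKleinFour.nonempty_mulEquiv (G₁ := (S : Subgroup G)) (G₂ := DihedralGroup 2)
    exact CharsMore.BSWRecog.exists_psl S le_rfl eS (h.orderOf_two_of_mem S ht ht1) ht
      (fun s hs => h.comm_of_mem S.2 hs ht) _ rfl ha hb hc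

end Setting

end CfsgLib.Recog.TwoR

namespace CfsgLib.Recog.TwoR

open Subgroup

/-- An element normalising a four-group Sylow `2`-subgroup and one of its subgroups of index two
centralises it. -/
theorem commute_of_keeps_half {G : Type*} [Group G] [Finite G] (S : Sylow 2 G)
    (h4 : Nat.card (S : Subgroup G) = 4) (hsq : ∀ s ∈ (S : Subgroup G), s * s = 1)
    {H : Subgroup G} (hH : H ≤ S) (h2 : H.relIndex (S : Subgroup G) = 2) {g : G}
    (hg : g ∈ normalizer ((S : Subgroup G) : Set G)) (hk : ∀ x ∈ H, g * x * g⁻¹ ∈ H) :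
    ∀ s ∈ (S : Subgroup G), Commute g s := by
  classical
  have hc : Nat.card H = 2 := by
    have := (H.subgroupOf (S : Subgroup G)).card_mul_index
    rw [Nat.card_congr (Subgroup.subgroupOfEquivOfLe hH).toEquiv, h4] at this
    change Nat.card H * H.relIndex (S : Subgroup G) = 4 at this
    rw [h2] at this; omega
  haveI := Fintype.ofFinite H
  obtain ⟨a, ha1⟩ : ∃ a : H, a ≠ 1 := by
    by_contra! hall
    haveI : Subsingleton H := ⟨fun x y => (hall x).trans (hall y).symm⟩
    rw [Nat.card_of_subsingleton (1 : H)] at hc; omega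
  have ha1' : (a : G) ≠ 1 := fun e => ha1 (Subtype.ext e)
  have hga : g * (a : G) * g⁻¹ = a := by
    have hmem := hk _ a.2
    by_contra hne
    have hinj : Function.Injective (![1, a, ⟨_, hmem⟩] : Fin 3 → H) := by
      intro i j hij
      have h : ((![1, a, ⟨_, hmem⟩] : Fin 3 → H) i : G) = (![1, a, ⟨_, hmem⟩] : Fin 3 → H) j :=
        congrArg Subtype.val hij
      have hne1 : g * (a : G) * g⁻¹ ≠ 1 := fun e => ha1' (conj_eq_one_iff.1 e)
      fin_cases i <;> fin_cases j <;>
        simp [hne, Ne.symm hne, hne1, Ne.symm hne1, ha1', Ne.symm ha1'] at h ⊢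
    have := Fintype.card_le_of_injective _ hinj
    rw [Fintype.card_fin, ← Nat.card_eq_fintype_card, hc] at this
    omega
  exact fix_one S h4 hsq hg (hH a.2) ha1' (mul_inv_eq_iff_eq_mul.1 hga)

end CfsgLib.Recog.TwoR

namespace CfsgLib.Recog.TwoR

open Subgroup

universe v

variable {G : Type v} [Group G] [Finite G] {r : ℕ} (h : Ord2r G r) (S : Sylow 2 G)
  (h4 : Nat.card (S : Subgroup G) = 4)
  (hd : ∃ d ∈ normalizer ((S : Subgroup G) : Set G), ∃ s ∈ (S : Subgroup G), d * s * d⁻¹ ≠ s)
include h h4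

/-- The hypothesis on moved `r`-subgroups, from the key lemma. -/
theorem noMove : NoMove r (S : Subgroup G) := fun _ hQ hn hne _ hgS hgQ =>
  let ⟨_, hH, h2, hk⟩ := key h S hQ hn hne
  commute_of_keeps_half S h4 (h.sq_of_mem_sylow S) hH h2 hgS (hk _ hgS hgQ)

include hd

/-- If some element of odd order centralises `S`, all those centralising an involution of `S` do. -/
theorem commute_of_commute_one
    (hX : ∃ x : G, x ≠ 1 ∧ Odd (orderOf x) ∧ ∀ s ∈ (S : Subgroup G), Commute x s) :
    ∀ t ∈ (S : Subgroup G), t ≠ 1 → ∀ y : G, Odd (orderOf y) → Commute y t →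
      ∀ s ∈ (S : Subgroup G), Commute y s :=
  commute_of_commute_one_aux h S h4 (noMove h S h4) hd hX

/-- Otherwise the cores of the centralisers satisfy the hypotheses of Brauer, Suzuki and Wall. -/
theorem core_facts
    (hX : ¬ ∃ x : G, x ≠ 1 ∧ Odd (orderOf x) ∧ ∀ s ∈ (S : Subgroup G), Commute x s)
    {t : G} (ht : t ∈ (S : Subgroup G)) (ht1 : t ≠ 1) :
    (coreC t ≠ ⊥ →
        IsCyclic ↥((S : Subgroup G) ⊓ centralizer (coreC t : Set G)) ∧
          ((S : Subgroup G) ⊓ centralizer (coreC t : Set G)).relIndex (S : Subgroup G) = 2) ∧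
      (∀ s ∈ (S : Subgroup G), s ∉ centralizer (coreC t : Set G) →
        ∀ y ∈ coreC t, s * y * s⁻¹ = y⁻¹) ∧
      ∀ Y ≤ coreC t, Y ≠ ⊥ → normalizer (Y : Set G) ≤ centralizer ({t} : Set G) :=
  core_facts_aux h S h4 (noMove h S h4) hd hX ht ht1

/-- A simple group of this kind with an element of order `2r` is some `PSL(2, q)`, `q` odd. -/
theorem exists_psl_of_four [IsSimpleGroup G] (hg : ∃ g : G, orderOf g = 2 * r) :
    ∃ (F : Type) (_ : Field F) (_ : Fintype F), Odd (Fintype.card F) ∧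
      Nonempty (G ≃* Matrix.ProjectiveSpecialLinearGroup (Fin 2) F) :=
  exists_psl_of_four_aux h S h4 (noMove h S h4) hd hg

end CfsgLib.Recog.TwoR
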