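import Cfsg.Agent.Lib.Transfer.Fusion

/-!
In a nonabelian simple group no index-two subgroup of an abelian Sylow `2`-subgroup is invariant
under the normaliser of that subgroup.
-/

set_option autoImplicit false
set_option linter.dupNamespace false
set_option linter.style.haveILetI false

namespace CfsgLib.Recog.TwoR

universe u

variable {G : Type u} [Group G] [Finite G]

theorem false_of_invariant_half [IsSimpleGroup G] (hnab : ∃ a b : G, a * b ≠ b * a)
    (S : Sylow 2 G) (hab : IsMulCommutative (S : Subgroup G)) {H : Subgroup G}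
    (hHS : H ≤ (S : Subgroup G)) (hidx : H.relIndex (S : Subgroup G) = 2)
    (hinv : ∀ g ∈ Subgroup.normalizer ((S : Subgroup G) : Set G), ∀ x ∈ H, g * x * g⁻¹ ∈ H) :
    False := by
  haveI : Fact (Nat.Prime 2) := ⟨Nat.prime_two⟩
  have htop : commutator G = ⊤ := by
    refine (IsSimpleGroup.eq_bot_or_eq_top_of_normal _ inferInstance).resolve_left fun e => ?_
    obtain ⟨a, b, hne⟩ := hnab
    have h1 := Subgroup.commutator_mem_commutator (Subgroup.mem_top a) (Subgroup.mem_top b)
    rw [show (⁅(⊤ : Subgroup G), ⊤⁆ : Subgroup G) = ⊥ from e, Subgroup.mem_bot] at h1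
    exact hne (commutatorElement_eq_one_iff_mul_comm.1 h1)
  have hle : Subgroup.focalSubgroup (S : Subgroup G) ≤ H := by
    rw [Transfer.focalSubgroup_eq_of_isMulCommutative S hab, Subgroup.commutator_le]
    intro x hx n hn
    have hx' : n * x⁻¹ * n⁻¹ ∈ (S : Subgroup G) :=
      (Subgroup.mem_normalizer_iff.1 hn _).1 (inv_mem hx)
    have hiff : x ∈ H ↔ n * x⁻¹ * n⁻¹ ∈ H := by
      refine ⟨fun h => hinv n hn _ (inv_mem h), fun h => ?_⟩
      have := hinv n⁻¹ (inv_mem hn) _ h
      rw [show n⁻¹ * (n * x⁻¹ * n⁻¹) * n⁻¹⁻¹ = x⁻¹ by group] at this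
      exact inv_mem_iff.1 this
    have h2 := Subgroup.mul_mem_iff_of_index_two (H := H.subgroupOf (S : Subgroup G)) hidx
      (a := ⟨x, hx⟩) (b := ⟨_, hx'⟩)
    simp only [Subgroup.mem_subgroupOf, Subgroup.coe_mul] at h2
    rw [commutatorElement_def, mul_assoc (x * n), mul_assoc x, ← mul_assoc n]
    exact h2.2 hiff
  have hS : (S : Subgroup G) ≤ H := by
    intro x hx
    refine hle ?_
    rw [← Subgroup.commutator_inf_eq_focalSubgroup]
    exact ⟨htop ▸ Subgroup.mem_top x, hx⟩
  rw [Subgroup.relIndex_eq_one.2 hS] at hidx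
  exact absurd hidx (by norm_num)

end CfsgLib.Recog.TwoR
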