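import Cfsg.Agent.Lib.Recog.TwoR.Key
import Cfsg.Agent.Lib.Recog.TwoR.FourCase
import Cfsg.Agent.Lib.Recog.TwoR.Transfer

/-!
Facts about a simple group of this kind with a four-group as Sylow `2`-subgroup.
-/

set_option autoImplicit false
set_option linter.dupNamespace false
set_option linter.style.haveILetI false
set_option linter.unusedSectionVars false

namespace CfsgLib.Recog.TwoR

open Subgroup

universe u

variable {G : Type u} [Group G] [Finite G] {r : ℕ} (h : Ord2r G r) (S : Sylow 2 G)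
  (h4 : Nat.card (S : Subgroup G) = 4)
include h h4

theorem noMove_of_four : NoMove r (S : Subgroup G) := by
  intro Q hQ hn hne g hgS hgQ
  obtain ⟨H, hH, h2, hinv⟩ := key h S hQ hn hne
  exact commute_of_keeps_half S h4 (h.sq_of_mem_sylow S) hH h2 hgS (hinv g hgS hgQ)

theorem isKleinFour_of_four : IsKleinFour (S : Subgroup G) := by
  obtain ⟨t, ht, ht1, -⟩ := exists_other h S h4 (one_mem _)
  refine ⟨h4, Nat.dvd_antisymm
    (Monoid.exponent_dvd_of_forall_pow_eq_one fun s => Subtype.ext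
      (by simpa [pow_two] using h.sq_of_mem_sylow S s s.2)) ?_⟩
  have e : orderOf (⟨t, ht⟩ : (S : Subgroup G)) = 2 := by
    rw [← orderOf_coe]; exact h.orderOf_two_of_mem S ht ht1
  have h' := Monoid.order_dvd_exponent (⟨t, ht⟩ : (S : Subgroup G))
  rwa [e] at h'

theorem exists_move [IsSimpleGroup G] (hnab : ∃ a b : G, a * b ≠ b * a) :
    ∃ d ∈ normalizer ((S : Subgroup G) : Set G), ∃ s ∈ (S : Subgroup G), d * s * d⁻¹ ≠ s := by
  by_contra hno
  push Not at hno
  obtain ⟨t, ht, ht1, -⟩ := exists_other h S h4 (one_mem _)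
  have hidx : (zpowers t).relIndex (S : Subgroup G) = 2 := by
    have hle : zpowers t ≤ (S : Subgroup G) := zpowers_le.2 ht
    have := ((zpowers t).subgroupOf (S : Subgroup G)).card_mul_index
    rw [Nat.card_congr (subgroupOfEquivOfLe hle).toEquiv, Nat.card_zpowers,
      h.orderOf_two_of_mem S ht ht1, h4] at this
    change 2 * (zpowers t).relIndex (S : Subgroup G) = 4 at this
    omega
  refine false_of_invariant_half hnab S (h.isMulCommutative S.2) (zpowers_le.2 ht) hidx
    fun g hg x hx => ?_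
  rw [hno g hg x (zpowers_le.2 ht hx)]
  exact hx

/-- No nontrivial element of odd order centralises the Sylow subgroup. -/
theorem free_of_four [IsSimpleGroup G] (hnab : ∃ a b : G, a * b ≠ b * a)
    (hg : ∃ g : G, orderOf g = 2 * r) {x : G} (hxo : Odd (orderOf x))
    (hx : ∀ s ∈ (S : Subgroup G), Commute x s) : x = 1 := by
  haveI : Fact (Nat.Prime 2) := ⟨Nat.prime_two⟩
  have hk := noMove_of_four h S h4
  have hd := exists_move h S h4 hnab
  have hklein := isKleinFour_of_four h S h4
  obtain ⟨g, hg⟩ := hg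
  obtain ⟨t, ht, ht1, -⟩ := exists_other h S h4 (one_mem _)
  by_contra hx1
  have hX : ∃ x : G, x ≠ 1 ∧ Odd (orderOf x) ∧ ∀ s ∈ (S : Subgroup G), Commute x s :=
    ⟨x, hx1, hxo, hx⟩
  have hA := commute_of_commute_one_aux h S h4 hk hd hX t ht ht1
  have ht2 := h.orderOf_two_of_mem S ht ht1
  set C := centralizer ({t} : Set G) with hC
  have hSC : (S : Subgroup G) ≤ C := sylow_le_centralizer h S h4 ht
  have hn : ((S : Subgroup G).subgroupOf C).Normal := by
    let T : Sylow 2 C := S.subtype hSC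
    have hab : ∀ a ∈ (T : Subgroup C), ∀ b ∈ (T : Subgroup C), a * b = b * a := by
      intro a ha b hb
      rw [Sylow.coe_subtype, mem_subgroupOf] at ha hb
      exact Subtype.ext (h.comm_of_mem S.2 ha hb)
    haveI : Group.IsSolvable C := isSolvable_of_exp h.prime fun x => Subtype.ext (by
      simpa using h.pow_two_r' ht2 (mem_centralizer_singleton_iff.1 x.2).symm)
    have hN := sylow_sup_core_normal T hab
    refine ⟨fun a ha x => ?_⟩
    rw [mem_subgroupOf] at ha ⊢
    have haT : a ∈ (T : Subgroup C) := by rw [Sylow.coe_subtype, mem_subgroupOf]; exact ha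
    obtain ⟨k, hk', b, hb, hkb⟩ :=
      Subgroup.mem_sup_of_normal_left.1 (hN.conj_mem a (mem_sup_right haT) x)
    rw [Sylow.coe_subtype, mem_subgroupOf] at hb
    have hkm : (k : G) ∈ coreC t := ⟨k, hk', rfl⟩
    have hkS := hA k (odd_of_mem_core hkm) (commute_of_mem_coreC hkm) b hb
    have h1 : ((k : G) * b) ^ 2 = 1 := by
      have e : ((k : G) * b) = (x * a * x⁻¹ : C) := congrArg Subtype.val hkb
      rw [e, ← Subgroup.coe_pow]
      have : a * a = 1 := Subtype.ext (h.sq_of_mem_sylow S _ ha)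
      rw [conj_pow, pow_two, this, mul_one, mul_inv_cancel, Subgroup.coe_one]
    rw [hkS.mul_pow, pow_two (b : G), h.sq_of_mem_sylow S _ hb, mul_one] at h1
    have hk1 : (k : G) = 1 := Involutions.sq_odd_eq_one h1 (odd_of_mem_core hkm)
    have e : ((x * a * x⁻¹ : C) : G) = (k : G) * b := (congrArg Subtype.val hkb).symm
    rw [e, hk1, one_mul]
    exact hb
  have hodd : ¬ 2 ∣ (S : Subgroup G).relIndex C := fun hd' =>
    S.not_dvd_index (hd'.trans (relIndex_dvd_index_of_le hSC))
  obtain ⟨e⟩ := Small.KleinNormal.equiv_alternating t ht2 (S : Subgroup G) hSC hklein hodd hn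
  have hall : ∀ a : alternatingGroup (Fin 5), a ^ 2 = 1 ∨ a ^ 3 = 1 ∨ a ^ 5 = 1 := by
    decide +kernel
  have h2r : 6 ≤ 2 * r := by have := h.two_lt; omega
  have ho : orderOf (e g) = 2 * r := by rw [MulEquiv.orderOf_eq, hg]
  rcases hall (e g) with h' | h' | h' <;>
    have h'' := Nat.le_of_dvd (by norm_num) (orderOf_dvd_of_pow_eq_one h') <;> omega

theorem exists_psl_of_simple_four [IsSimpleGroup G] (hnab : ∃ a b : G, a * b ≠ b * a)
    (hg : ∃ g : G, orderOf g = 2 * r) :
    ∃ (F : Type) (_ : Field F) (_ : Fintype F), Odd (Fintype.card F) ∧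
      Nonempty (G ≃* Matrix.ProjectiveSpecialLinearGroup (Fin 2) F) :=
  exists_psl_of_four_aux h S h4 (noMove_of_four h S h4) (exists_move h S h4 hnab) hg

/-- Every involution of the Sylow subgroup commutes with an element of order `r`. -/
theorem exists_order_r_of_four [IsSimpleGroup G] (hnab : ∃ a b : G, a * b ≠ b * a)
    (hg : ∃ g : G, orderOf g = 2 * r) {t : G} (ht : t ∈ (S : Subgroup G)) (ht1 : t ≠ 1) :
    ∃ y : G, orderOf y = r ∧ Commute y t := by
  haveI : Fact (Nat.Prime 2) := ⟨Nat.prime_two⟩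
  obtain ⟨g, hg⟩ := hg
  have hr := h.prime.pos
  have ho2 : orderOf (g ^ r) = 2 := by
    rw [orderOf_pow' g hr.ne', hg, Nat.gcd_eq_right (dvd_mul_left r 2), Nat.mul_div_cancel _ hr]
  have hor : orderOf (g ^ 2) = r := by
    rw [orderOf_pow' g two_ne_zero, hg, Nat.gcd_eq_right (dvd_mul_right 2 r),
      Nat.mul_div_cancel_left _ two_pos]
  have hz : IsPGroup 2 (zpowers (g ^ r)) :=
    IsPGroup.of_card (n := 1) (by rw [Nat.card_zpowers, ho2, pow_one])
  obtain ⟨T, hT⟩ := hz.exists_le_sylow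
  obtain ⟨a, rfl⟩ := MulAction.exists_smul_eq G S T
  obtain ⟨s, hs, hsa⟩ : ∃ s ∈ (S : Subgroup G), a * s * a⁻¹ = g ^ r := by
    have h1 := hT (mem_zpowers _)
    rw [Sylow.coe_subgroup_smul, Subgroup.mem_pointwise_smul_iff_inv_smul_mem] at h1
    exact ⟨a⁻¹ * g ^ r * a, h1, by group⟩
  have hs1 : s ≠ 1 := by
    rintro rfl
    rw [mul_one, mul_inv_cancel] at hsa
    rw [← hsa, orderOf_one] at ho2
    exact absurd ho2 (by norm_num)
  obtain ⟨n, -, hn⟩ :=
    exists_map h S h4 (noMove_of_four h S h4) (exists_move h S h4 hnab) hs hs1 ht ht1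
  refine ⟨(n * a⁻¹) * g ^ 2 * (n * a⁻¹)⁻¹, ?_, ?_⟩
  · exact (MulEquiv.orderOf_eq (MulAut.conj (n * a⁻¹)) (g ^ 2)).trans hor
  · have h1 : Commute (g ^ 2) (g ^ r) := (Commute.refl g).pow_pow 2 r
    have h2 := h1.map (MulAut.conj (n * a⁻¹) : G ≃* G).toMonoidHom
    have h3 : (n * a⁻¹) * g ^ r * (n * a⁻¹)⁻¹ = t := by rw [← hsa, ← hn]; group
    simpa only [MulEquiv.coe_toMonoidHom, MulAut.conj_apply, h3] using h2

omit h4 in
/-- An element centralising the Sylow subgroup lies in it, provided none of odd order does. -/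
theorem mem_sylow_of_centralizes
    (hfree : ∀ x : G, Odd (orderOf x) → (∀ s ∈ (S : Subgroup G), Commute x s) → x = 1) {x : G}
    (hx : ∀ s ∈ (S : Subgroup G), Commute x s) : x ∈ (S : Subgroup G) := by
  haveI : Fact (Nat.Prime 2) := ⟨Nat.prime_two⟩
  rcases Nat.even_or_odd (orderOf x) with he | ho
  · rcases h.two x (even_iff_two_dvd.1 he) with e | e
    · have hz : IsPGroup 2 (zpowers x) :=
        IsPGroup.of_card (n := 1) (by rw [Nat.card_zpowers, e, pow_one])
      have hle : zpowers x ≤ normalizer ((S : Subgroup G) : Set G) := zpowers_le.2 (by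
        refine mem_normalizer_fintype fun s hs => ?_
        show x * s * x⁻¹ ∈ (S : Subgroup G)
        rwa [(hx s hs).eq, mul_inv_cancel_right])
      exact S.3 (hz.to_sup_of_normal_right' S.2 hle) le_sup_right ▸
        mem_sup_left (mem_zpowers x)
    · exfalso
      have ho2 : orderOf (x ^ 2) = r := by
        rw [orderOf_pow' x two_ne_zero, e, Nat.gcd_eq_right (dvd_mul_right 2 r),
          Nat.mul_div_cancel_left _ two_pos]
      have h1 := hfree (x ^ 2) (by rw [ho2]; exact h.odd) fun s hs => (hx s hs).pow_left 2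
      rw [h1, orderOf_one] at ho2
      exact h.prime.one_lt.ne ho2
  · rw [hfree x ho hx]; exact one_mem _

end CfsgLib.Recog.TwoR
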