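import Cfsg.Agent.Lib.Recog.TwoR.EvenBase

/-!
A group of this kind with a self-centralising simple normal subgroup having a four-group as Sylow
`2`-subgroup and an element of order `2r` coincides with that subgroup.
-/

set_option autoImplicit false
set_option linter.dupNamespace false
set_option linter.style.haveILetI false
set_option linter.unusedSectionVars false

namespace CfsgLib.Recog.TwoR

open Subgroup

universe u

variable {G : Type u} [Group G] [Finite G] {r : ℕ}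

/-- No involution outside such a normal subgroup centralises its four-group. -/
theorem mem_of_invol_centralizes (h : Ord2r G r) (E : Subgroup G) [E.Normal] [IsSimpleGroup E]
    (hnab : ∃ a b : E, a * b ≠ b * a) (hE : ∃ x : E, orderOf x = 2 * r) (T : Sylow 2 E)
    (h4 : Nat.card (T : Subgroup E) = 4) {c : G} (hc : c * c = 1)
    (hcT : ∀ s ∈ (T : Subgroup E), Commute c (s : G)) : c ∈ E := by
  classical
  haveI : Fact (Nat.Prime 2) := ⟨Nat.prime_two⟩
  haveI : Fact r.Prime := ⟨h.prime⟩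
  by_contra hcE
  have hE' := h.subgroup E
  have hk := noMove_of_four hE' T h4
  have hd := exists_move hE' T h4 hnab
  have hfree : ∀ x : E, Odd (orderOf x) → (∀ s ∈ (T : Subgroup E), Commute x s) → x = 1 :=
    fun x => free_of_four hE' T h4 hnab hE
  have hsq := hE'.sq_of_mem_sylow T
  obtain ⟨d, hdN, s₁, hs₁, hdmv⟩ := hd
  have hd' : ∃ d ∈ normalizer ((T : Subgroup E) : Set E), ∃ s ∈ (T : Subgroup E), d * s * d⁻¹ ≠ s :=
    ⟨d, hdN, s₁, hs₁, hdmv⟩
  have nofix : ∀ a ∈ (T : Subgroup E), a ≠ 1 → ¬ Commute d a := fun a ha ha1 hca =>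
    hdmv (by rw [(fix_one T h4 hsq hdN ha ha1 hca s₁ hs₁).eq, mul_inv_cancel_right])
  -- correct `c` so that it commutes with `d`
  obtain ⟨c', hc'E, hc'T, hc'd, hc'2⟩ : ∃ c' : G, c' ∉ E ∧
      (∀ s ∈ (T : Subgroup E), Commute c' (s : G)) ∧ Commute c' (d : G) ∧ c' * c' = 1 := by
    have hmem : c * (d : G) * c⁻¹ * (d : G)⁻¹ ∈ E :=
      mul_mem ((inferInstance : E.Normal).conj_mem _ d.2 c) (inv_mem d.2)
    have haT : (⟨_, hmem⟩ : E) ∈ (T : Subgroup E) := by
      refine mem_sylow_of_centralizes hE' T hfree fun s hs => Subtype.ext ?_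
      have hs' : d⁻¹ * s * d ∈ (T : Subgroup E) := (mem_normalizer_iff''.1 hdN s).1 hs
      have e1 := hcT s hs
      have e2 : c * ((d : G)⁻¹ * s * d) = ((d : G)⁻¹ * s * d) * c := (hcT _ hs').eq
      show c * (d : G) * c⁻¹ * (d : G)⁻¹ * s = s * (c * (d : G) * c⁻¹ * (d : G)⁻¹)
      calc c * (d : G) * c⁻¹ * (d : G)⁻¹ * s
          = c * (d : G) * c⁻¹ * (((d : G)⁻¹ * s * d) * c) * c⁻¹ * (d : G)⁻¹ := by group
        _ = c * (d : G) * c⁻¹ * (c * ((d : G)⁻¹ * s * d)) * c⁻¹ * (d : G)⁻¹ := by rw [e2]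
        _ = c * s * (d : G) * c⁻¹ * (d : G)⁻¹ := by group
        _ = s * c * (d : G) * c⁻¹ * (d : G)⁻¹ := by rw [e1.eq]
        _ = _ := by group
    -- `s ↦ s * d s d⁻¹` is onto
    let f : ↥(T : Subgroup E) → ↥(T : Subgroup E) := fun s =>
      ⟨s * (d * s * d⁻¹), mul_mem s.2 ((mem_normalizer_iff.1 hdN _).1 s.2)⟩
    have hf : Function.Injective f := by
      intro a b hab
      have e : (a : E) * (d * a * d⁻¹) = b * (d * b * d⁻¹) := congrArg Subtype.val hab
      have hz : ((b : E)⁻¹ * a) = d * ((b : E) * (a : E)⁻¹) * d⁻¹ := by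
        calc (b : E)⁻¹ * a = (b : E)⁻¹ * (a * (d * a * d⁻¹)) * (d * a * d⁻¹)⁻¹ := by group
          _ = (b : E)⁻¹ * (b * (d * b * d⁻¹)) * (d * a * d⁻¹)⁻¹ := by rw [e]
          _ = _ := by group
      have hb' : (b : E)⁻¹ = b := inv_eq_of_mul_eq_one_left (hsq _ b.2)
      have ha' : (a : E)⁻¹ = a := inv_eq_of_mul_eq_one_left (hsq _ a.2)
      rw [hb', ha'] at hz
      by_contra hne
      refine nofix _ (mul_mem b.2 a.2) (fun e1 => hne (Subtype.ext ?_))
        (mul_inv_eq_iff_eq_mul.1 hz.symm)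
      rw [← ha', mul_inv_eq_one] at e1
      exact e1.symm
    obtain ⟨s₀, hs₀⟩ := (Finite.injective_iff_surjective.1 hf) ⟨_, haT⟩
    have hs₀' : ((s₀ : E) : G) * ((d : G) * s₀ * (d : G)⁻¹) = c * (d : G) * c⁻¹ * (d : G)⁻¹ :=
      congrArg (fun x : (T : Subgroup E) => ((x : E) : G)) hs₀
    have hcs₀ := hcT s₀ s₀.2
    have hs₀2 : ((s₀ : E) : G) * s₀ = 1 := congrArg Subtype.val (hsq _ s₀.2)
    have hc'2 : (c * (s₀ : E)) * (c * (s₀ : E)) = (1 : G) := by
      rw [hcs₀.symm.mul_mul_mul_comm, hc, hs₀2, one_mul]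
    refine ⟨c * (s₀ : E), fun hh => hcE (by simpa using mul_mem hh (inv_mem (s₀ : E).2)),
      fun s hs => (hcT s hs).mul_left (congrArg Subtype.val (hE'.comm_of_mem T.2 s₀.2 hs)), ?_, hc'2⟩
    -- commutation with `d`
    set u : G := ((s₀ : E) : G)
    have hu : u⁻¹ = u := inv_eq_of_mul_eq_one_left hs₀2
    have hdu : (d : G) * u * (d : G)⁻¹ ∈ ((T : Subgroup E).map E.subtype) :=
      ⟨d * s₀ * d⁻¹, (mem_normalizer_iff.1 hdN _).1 s₀.2, rfl⟩
    have hcdu : Commute c ((d : G) * u * (d : G)⁻¹) := by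
      obtain ⟨v, hv, hv'⟩ := hdu
      rw [← hv']
      exact hcT v hv
    refine (mul_inv_eq_iff_eq_mul.1 ?_ : c * u * (d : G) = (d : G) * (c * u))
    rw [mul_inv_rev, hu]
    calc c * u * (d : G) * (u * c⁻¹)
        = c * (u * ((d : G) * u * (d : G)⁻¹)) * (d : G) * c⁻¹ := by group
      _ = c * (c * (d : G) * c⁻¹ * (d : G)⁻¹) * (d : G) * c⁻¹ := by rw [hs₀']
      _ = (c * c) * (d : G) * (c * c)⁻¹ := by group
      _ = _ := by rw [hc, inv_one, one_mul, mul_one]
  have hc'o : orderOf c' = 2 :=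
    orderOf_eq_prime (by rw [pow_two]; exact hc'2) fun e => hc'E (e ▸ one_mem E)
  have hc'inv : c'⁻¹ = c' := inv_eq_of_mul_eq_one_left hc'2
  -- elements of `E` of odd order commuting with `c'` and an involution of the four-group
  have hNo : ∀ y : E, Odd (orderOf y) → Commute c' (y : G) → ∀ t ∈ (T : Subgroup E), t ≠ 1 →
      Commute y t → y = 1 := by
    intro y hyo hyc t ht ht1 hyt
    set M : Subgroup E := (centralizer ({c'} : Set G)).subgroupOf E with hM
    have hMmem : ∀ x : E, x ∈ M ↔ Commute c' (x : G) := fun x =>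
      ⟨fun e => (mem_centralizer_singleton_iff.1 (mem_subgroupOf.1 e)).symm,
        fun e => mem_subgroupOf.2 (mem_centralizer_singleton_iff.2 e.symm.eq)⟩
    have hMe : ∀ x ∈ M, x ^ (2 * r) = 1 := fun x hx => Subtype.ext (by
      rw [SubmonoidClass.coe_pow]; exact h.pow_two_r' hc'o ((hMmem x).1 hx))
    have hTM : (T : Subgroup E) ≤ M := fun s hs => (hMmem s).2 (hc'T s hs)
    have hdM : d ∈ M := (hMmem d).2 hc'd
    set O : Subgroup E := (Cfsg.pPrimeCore 2 M).map M.subtype with hO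
    have hOc : ∀ k ∈ O, ∀ s ∈ (T : Subgroup E), Commute k s := by
      intro k hkO s hs
      by_contra hne
      have h1 := hk O (hE'.isPGroup_core hMe) (hTM.trans (Base.le_normalizer_map_pPrimeCore M))
        ⟨s, hs, k, hkO, fun e => hne (mul_inv_eq_iff_eq_mul.1 e).symm⟩ d hdN
        (Base.le_normalizer_map_pPrimeCore M hdM) s₁ hs₁
      exact hdmv (by rw [h1.eq, mul_inv_cancel_right])
    have hO1 : ∀ k ∈ O, k = 1 := fun k hk' => hfree k (odd_of_mem_core hk') (hOc k hk')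
    have hyO : y ∈ O := hE'.mem_core T h4 M hMe hTM ht ht1 ((hMmem y).2 hyc) hyo hyt
    exact hO1 y hyO
  obtain ⟨t, ht, ht1, -⟩ := exists_other hE' T h4 (one_mem _)
  obtain ⟨w, hw, hw1, hwt⟩ := exists_other hE' T h4 ht
  have htw1 : t * w ≠ 1 := fun e => hwt (mul_left_cancel (e.trans (hsq t ht).symm))
  -- `c'` and every other involution invert the core of the centraliser of an involution
  have hinv : ∀ t ∈ (T : Subgroup E), t ≠ 1 → ∀ w ∈ (T : Subgroup E), w ≠ 1 → w ≠ t →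
      ∀ y ∈ coreC t, Commute (c' * (w : G)) (y : G) := by
    intro t ht ht1 w hw hw1 hwt y hy
    obtain ⟨y₀, hy₀r, hy₀t⟩ := exists_order_r_of_four hE' T h4 hnab hE ht ht1
    have hy₀o : Odd (orderOf y₀) := hy₀r ▸ h.odd
    have hy₀1 : y₀ ≠ 1 := fun e => by rw [e, orderOf_one] at hy₀r; exact h.prime.one_lt.ne hy₀r
    obtain ⟨s, hs, hsmv⟩ : ∃ s ∈ (T : Subgroup E), ¬ Commute y₀ s := by
      by_contra hno; push Not at hno; exact hy₀1 (hfree y₀ hy₀o hno)
    have hR : ∃ s ∈ (T : Subgroup E), ∃ q ∈ coreC t, s * q * s⁻¹ ≠ q :=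
      ⟨s, hs, y₀, mem_coreC hE' T h4 ht ht1 hy₀o hy₀t,
        fun e => hsmv (mul_inv_eq_iff_eq_mul.1 e).symm⟩
    obtain ⟨-, hkey⟩ := core_big hE' T h4 hk hd' ht ht1 hR
    have hwinv : ∀ z ∈ coreC t, w * z * w = z⁻¹ := by
      have hwi : w⁻¹ = w := inv_eq_of_mul_eq_one_left (hsq w hw)
      refine Involutions.inverts_of_fpf (coreC t) (hE'.orderOf_two_of_mem T hw hw1)
        (fun z hz => ?_) fun z hz hzw => ?_
      · have := (mem_normalizer_iff.1 (le_normalizer_coreC hE' T h4 ht hw) z).1 hz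
        rwa [hwi] at this
      · refine hfree z (odd_of_mem_core hz) (hkey w hw hw1 hwt z hz ?_)
        calc z * w = w * z * w * w := by rw [hzw]
          _ = w * z := by rw [mul_assoc, hsq w hw, mul_one]
    have hcinv : ∀ z ∈ (coreC t).map E.subtype, c' * z * c' = z⁻¹ := by
      refine Involutions.inverts_of_fpf _ hc'o ?_ ?_
      · rintro _ ⟨z, hz, rfl⟩
        have hm : c' * (z : G) * c' ∈ E := by
          have := (inferInstance : E.Normal).conj_mem _ z.2 c'
          rwa [hc'inv] at this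
        refine ⟨⟨_, hm⟩, ?_, rfl⟩
        refine mem_coreC hE' T h4 ht ht1 ?_ (Subtype.ext ?_)
        · rw [← orderOf_coe]
          have e := MulEquiv.orderOf_eq (MulAut.conj c') (z : G)
          rw [MulAut.conj_apply, hc'inv] at e
          rw [e, orderOf_coe]
          exact odd_of_mem_core hz
        · have hzt : (z : G) * t = t * z := congrArg Subtype.val (commute_of_mem_coreC hz).eq
          have e' := (hc'T t ht).eq
          show c' * (z : G) * c' * t = t * (c' * (z : G) * c')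
          rw [mul_assoc, e', ← mul_assoc, mul_assoc c', hzt, ← mul_assoc, e', mul_assoc, mul_assoc,
            mul_assoc]
      · rintro _ ⟨z, hz, rfl⟩ hzc
        have hzc' : Commute c' (z : G) := by
          show c' * (z : G) = (z : G) * c'
          calc c' * (z : G) = c' * (z : G) * c' * c' := by rw [mul_assoc _ c' c', hc'2, mul_one]
            _ = (z : G) * c' := by rw [show c' * (z : G) * c' = z from hzc]
        rw [hNo z (odd_of_mem_core hz) hzc' t ht ht1 (commute_of_mem_coreC hz)]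
        rfl
    have e1 : ((w : G)) * y * w = (y : G)⁻¹ := congrArg Subtype.val (hwinv y hy)
    have e2 : c' * (y : G) * c' = (y : G)⁻¹ := hcinv _ ⟨y, hy, rfl⟩
    have hww : (w : G) * w = 1 := congrArg Subtype.val (hsq w hw)
    show c' * (w : G) * y = y * (c' * w)
    calc c' * (w : G) * y = c' * ((w : G) * y * w) * w := by
          rw [mul_assoc c', mul_assoc c', mul_assoc _ (w : G) w, hww, mul_one]
      _ = c' * (y : G)⁻¹ * w := by rw [e1]
      _ = c' * (c' * (y : G) * c') * w := by rw [e2]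
      _ = (c' * c') * y * (c' * w) := by simp only [mul_assoc]
      _ = y * (c' * w) := by rw [hc'2, one_mul]
  -- the odd core of `C(c' w)` in `E` contains two of them
  set c'' : G := c' * (w : G) with hc''
  have hc''2 : c'' * c'' = 1 := by
    rw [hc'', (hc'T w hw).symm.mul_mul_mul_comm, hc'2, show (w : G) * w = 1 from
      congrArg Subtype.val (hsq w hw), one_mul]
  have hc''o : orderOf c'' = 2 := orderOf_eq_prime (by rw [pow_two]; exact hc''2) fun e =>
    hc'E (by rw [eq_inv_of_mul_eq_one_left e]; exact inv_mem w.2)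
  set M : Subgroup E := (centralizer ({c''} : Set G)).subgroupOf E with hM
  have hMmem : ∀ x : E, x ∈ M ↔ Commute c'' (x : G) := fun x =>
    ⟨fun e => (mem_centralizer_singleton_iff.1 (mem_subgroupOf.1 e)).symm,
      fun e => mem_subgroupOf.2 (mem_centralizer_singleton_iff.2 e.symm.eq)⟩
  have hMe : ∀ x ∈ M, x ^ (2 * r) = 1 := fun x hx => Subtype.ext (by
    rw [SubmonoidClass.coe_pow]; exact h.pow_two_r' hc''o ((hMmem x).1 hx))
  have hTM : (T : Subgroup E) ≤ M := fun s hs => (hMmem s).2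
    ((hc'T s hs).mul_left (congrArg Subtype.val (hE'.comm_of_mem T.2 hw hs)))
  set K : Subgroup E := (Cfsg.pPrimeCore 2 M).map M.subtype with hK
  have hin : ∀ a ∈ (T : Subgroup E), a ≠ 1 → w ≠ a → ∀ y ∈ coreC a, y ∈ K :=
    fun a ha ha1 hwa y hy => hE'.mem_core T h4 M hMe hTM ha ha1
      ((hMmem y).2 (hinv a ha ha1 w hw hw1 hwa y hy)) (odd_of_mem_core hy)
      (commute_of_mem_coreC hy)
  have htw : t * w ∈ (T : Subgroup E) := mul_mem ht hw
  have hwtw : w ≠ t * w := fun e => ht1 (mul_eq_right.1 e.symm)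
  obtain ⟨y₁, hy₁r, hy₁t⟩ := exists_order_r_of_four hE' T h4 hnab hE htw htw1
  have hy₁o : Odd (orderOf y₁) := hy₁r ▸ h.odd
  have hy₁ : y₁ ∈ K := hin _ htw htw1 hwtw y₁ (mem_coreC hE' T h4 htw htw1 hy₁o hy₁t)
  obtain ⟨y₀, hy₀r, hy₀t⟩ := exists_order_r_of_four hE' T h4 hnab hE ht ht1
  have hy₀o : Odd (orderOf y₀) := hy₀r ▸ h.odd
  have hy₀1 : y₀ ≠ 1 := fun e => by rw [e, orderOf_one] at hy₀r; exact h.prime.one_lt.ne hy₀r
  obtain ⟨s, hs, hsmv⟩ : ∃ s ∈ (T : Subgroup E), ¬ Commute y₀ s := by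
    by_contra hno; push Not at hno; exact hy₀1 (hfree y₀ hy₀o hno)
  obtain ⟨hbig, hkey⟩ := core_big hE' T h4 hk hd' ht ht1
    ⟨s, hs, y₀, mem_coreC hE' T h4 ht ht1 hy₀o hy₀t,
      fun e => hsmv (mul_inv_eq_iff_eq_mul.1 e).symm⟩
  have hKle : K ≤ coreC t := hbig.2 ⟨hE'.isPGroup_core hMe,
    hTM.trans (Base.le_normalizer_map_pPrimeCore M)⟩ fun y hy => hin t ht ht1 hwt y hy
  have h1 := hfree y₁ hy₁o (hkey (t * w) htw htw1
    (fun e => hw1 (mul_eq_left.1 e)) y₁ (hKle hy₁) hy₁t)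
  rw [h1, orderOf_one] at hy₁r
  exact h.prime.one_lt.ne hy₁r

/-- Such a normal subgroup is the whole group. -/
theorem eq_top_of_four (h : Ord2r G r) (E : Subgroup G) [E.Normal] [IsSimpleGroup E]
    (hnab : ∃ a b : E, a * b ≠ b * a) (hE : ∃ x : E, orderOf x = 2 * r) (T : Sylow 2 E)
    (h4 : Nat.card (T : Subgroup E) = 4) : E = ⊤ := by
  classical
  haveI : Fact (Nat.Prime 2) := ⟨Nat.prime_two⟩
  have hE' := h.subgroup E
  have hfree : ∀ x : E, Odd (orderOf x) → (∀ s ∈ (T : Subgroup E), Commute x s) → x = 1 :=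
    fun x => free_of_four hE' T h4 hnab hE
  set TG : Subgroup G := (T : Subgroup E).map E.subtype with hTG
  obtain ⟨S, hS⟩ := (T.2.map E.subtype : IsPGroup 2 TG).exists_le_sylow
  have hSE : (S : Subgroup G) ≤ E := by
    intro c hc
    exact mem_of_invol_centralizes h E hnab hE T h4 (h.mul_self_of_mem S.2 hc) fun s hs =>
      h.comm_of_mem S.2 hc (hS ⟨s, hs, rfl⟩)
  have hST : (S : Subgroup G) = TG := by
    refine le_antisymm (fun c hc => ⟨⟨c, hSE hc⟩, ?_, rfl⟩) hS
    have hP : IsPGroup 2 ((S : Subgroup G).subgroupOf E) :=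
      S.2.comap_of_injective E.subtype E.subtype_injective
    exact T.3 hP (fun s hs => mem_subgroupOf.2 (hS ⟨s, hs, rfl⟩)) ▸ mem_subgroupOf.2 hc
  have hS4 : Nat.card (S : Subgroup G) = 4 := by
    rw [hST, Subgroup.card_map_of_injective E.subtype_injective, h4]
  have hk := noMove_of_four h S hS4
  obtain ⟨d, hdN, s₁, hs₁, hdmv⟩ := exists_move hE' T h4 hnab
  have hdG : ∀ n ∈ normalizer ((T : Subgroup E) : Set E),
      (n : G) ∈ normalizer ((S : Subgroup G) : Set G) := fun n hn => by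
    refine mem_normalizer_fintype fun x hx => ?_
    rw [SetLike.mem_coe, hST] at hx
    obtain ⟨v, hv, rfl⟩ := hx
    rw [SetLike.mem_coe, hST]
    exact ⟨n * v * n⁻¹, (mem_normalizer_iff.1 hn v).1 hv, rfl⟩
  have hd : ∃ d ∈ normalizer ((S : Subgroup G) : Set G), ∃ s ∈ (S : Subgroup G), d * s * d⁻¹ ≠ s :=
    ⟨d, hdG d hdN, s₁, hS ⟨s₁, hs₁, rfl⟩, fun e => hdmv (Subtype.ext e)⟩
  -- no element of odd order centralises `S`
  have hfreeG : ∀ x : G, Odd (orderOf x) → (∀ s ∈ (S : Subgroup G), Commute x s) → x = 1 := by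
    intro x hxo hx
    by_contra hx1
    obtain ⟨t, ht, ht1, -⟩ := exists_other hE' T h4 (one_mem _)
    obtain ⟨y, hyr, hyt⟩ := exists_order_r_of_four hE' T h4 hnab hE ht ht1
    have hA := commute_of_commute_one_aux h S hS4 hk hd ⟨x, hx1, hxo, hx⟩ (t : G)
      (hS ⟨t, ht, rfl⟩) (fun e => ht1 (Subtype.ext e)) (y : G)
      (by rw [orderOf_coe, hyr]; exact h.odd) (congrArg Subtype.val hyt)
    have := hfree y (hyr ▸ h.odd) fun s hs => Subtype.ext (hA s (hS ⟨s, hs, rfl⟩))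
    rw [this, orderOf_one] at hyr
    exact h.prime.one_lt.ne hyr
  -- Frattini
  have hfrat : normalizer (TG : Set G) ⊔ E = ⊤ := Sylow.normalizer_sup_eq_top T
  have hle : normalizer (TG : Set G) ≤ E := by
    intro g hg
    rw [← hST] at hg
    obtain ⟨t, ht, ht1, -⟩ := exists_other h S hS4 (one_mem _)
    have hgt : g * t * g⁻¹ ∈ (S : Subgroup G) := (mem_normalizer_iff.1 hg t).1 ht
    rw [hST] at ht hgt
    obtain ⟨a, ha, rfl⟩ := ht
    obtain ⟨b, hb, hb'⟩ := hgt
    have ha1 : a ≠ 1 := fun e => ht1 (by rw [e]; rfl)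
    have hb1 : b ≠ 1 := fun e => ht1 (conj_eq_one_iff.1 (by rw [← hb', e]; rfl))
    obtain ⟨n, hn, hnab'⟩ := exists_map hE' T h4 (noMove_of_four hE' T h4)
      ⟨d, hdN, s₁, hs₁, hdmv⟩ ha ha1 hb hb1
    have hc : Commute ((n : G)⁻¹ * g) (a : G) := by
      refine mul_inv_eq_iff_eq_mul.1 ?_
      have e1 : (n : G) * a * (n : G)⁻¹ = (b : G) := congrArg Subtype.val hnab'
      have e2 : g * (a : G) * g⁻¹ = (b : G) := hb'.symm
      calc (n : G)⁻¹ * g * a * ((n : G)⁻¹ * g)⁻¹ = (n : G)⁻¹ * (g * a * g⁻¹) * n := by group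
        _ = (n : G)⁻¹ * ((n : G) * a * (n : G)⁻¹) * n := by rw [e2, e1]
        _ = a := by group
    have hcen := fix_one S hS4 (h.sq_of_mem_sylow S) (mul_mem (inv_mem (hdG n hn)) hg)
      (hS ⟨a, ha, rfl⟩) (fun e => ha1 (Subtype.ext e)) hc
    have h1 := hSE (mem_sylow_of_centralizes h S hfreeG hcen)
    simpa using mul_mem n.2 h1
  rwa [sup_eq_right.2 hle] at hfrat

end CfsgLib.Recog.TwoR
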