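import Cfsg.Agent.Lib.Recog.TwoR.Key
import Cfsg.Agent.Lib.Recog.TwoR.Transfer
import Cfsg.Agent.Lib.Components.Signalizer
import Cfsg.Agent.Lib.Involutions.ElemAbCent
import Cfsg.Agent.S1279

/-!
In a simple group of this kind with Sylow `2`-subgroup of rank at least three the odd cores of the
involution centralisers generate an `r`-group, hence are centralised by the Sylow subgroup, so
every involution centraliser normalises it.
-/

set_option autoImplicit false
set_option linter.dupNamespace false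
set_option linter.style.haveILetI false
set_option linter.unusedSectionVars false

namespace CfsgLib.Recog.TwoR

open Subgroup Cfsg CfsgLib.Signalizer

universe u

variable {G : Type u} [Group G] [Finite G]

/-- The values of a signalizer functor with `q`-group values lie in one `q`-group. -/
theorem exists_pgroup_ge_values {p : ℕ} [Fact p.Prime] {A : Subgroup G}
    (hA : IsElementaryAbelian p A) (hA3 : p ^ 3 ≤ Nat.card A) {θ : G → Subgroup G}
    (hθ : IsSolvableSignalizerFunctor p A θ) {q : ℕ} [Fact q.Prime]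
    (hq : ∀ a ∈ A, a ≠ 1 → IsPGroup q (θ a)) :
    ∃ Q : Subgroup G, IsPGroup q Q ∧ ∀ a ∈ A, a ≠ 1 → θ a ≤ Q := by
  have hAne : A ≠ ⊥ := ne_bot_of_pow_le (k := 3) (by norm_num) hA3
  obtain ⟨b, hb, hb1⟩ := (bot_or_exists_ne_one A).resolve_left hAne
  set K := signalizerInf A θ with hK
  have hKW := signalizerInf_mem_family hθ le_rfl hAne
  obtain ⟨Q, hQ, hQq, -, hQm⟩ :=
    exists_maximal_ge hKW ((hq b hb hb1).to_le (signalizerInf_le hb hb1))
  have hKQ : K ≤ Q := by
    obtain ⟨S, hS⟩ := exists_sylow_signalizerInf hA hA3 hθ hQ hQq hQm le_rfl hAne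
    have hKq : IsPGroup q (⊤ : Subgroup K) :=
      ((hq b hb hb1).to_le (signalizerInf_le hb hb1)).to_subgroup ⊤
    have : (S : Subgroup K) = ⊤ := (S.is_maximal' hKq le_top).symm
    rw [this, ← MonoidHom.range_eq_map, range_subtype] at hS
    exact hS.le.trans inf_le_left
  refine ⟨Q, hQq, fun a ha ha1 => ?_⟩
  obtain ⟨c, hc, S, hS⟩ := exists_sylow_inf hA hA3 hθ hQ hQq hQm
    (mem_family_of_le_value hθ ha ha1 le_rfl (le_normalizer_value hθ ha ha1))
  have : (S : Subgroup (θ a)) = ⊤ :=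
    (S.is_maximal' ((hq a ha ha1).to_subgroup ⊤) le_top).symm
  rw [this, ← MonoidHom.range_eq_map, range_subtype,
    Base.map_conj_eq_self_iff.mpr (le_normalizer (hKQ hc))] at hS
  exact hS.le.trans inf_le_left

theorem conj_mem_centralizerPPrimeCore {g b x : G} (hx : x ∈ centralizerPPrimeCore 2 b) :
    g * x * g⁻¹ ∈ centralizerPPrimeCore 2 (g * b * g⁻¹) := by
  set e : G ≃* G := MulAut.conj g
  refine Base.le_map_pPrimeCore (M := (centralizerPPrimeCore 2 b).map e.toMonoidHom) ?_ ?_ ?_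
    ⟨x, hx, rfl⟩
  · rintro _ ⟨y, hy, rfl⟩
    exact mem_centralizer_singleton_iff.2 (by
      show e y * e b = e b * e y
      rw [← map_mul, ← map_mul, mem_centralizer_singleton_iff.1 (map_subtype_le _ hy)])
  · intro q hq
    obtain ⟨y, rfl⟩ := e.surjective q
    refine Subgroup.le_normalizer_map e.toMonoidHom ⟨y, Base.le_normalizer_map_pPrimeCore _ ?_, rfl⟩
    refine mem_centralizer_singleton_iff.2 (e.injective ?_)
    rw [map_mul, map_mul]
    exact mem_centralizer_singleton_iff.1 hq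
  · rw [Subgroup.card_map_of_injective e.injective]
    haveI : Fact (Nat.Prime 2) := ⟨Nat.prime_two⟩
    exact Base.coprime_card_map_pPrimeCore _

variable {r : ℕ}

theorem centralizer_le_normalizer [IsSimpleGroup G] (h : Ord2r G r)
    (hnab : ∃ a b : G, a * b ≠ b * a) (S : Sylow 2 G) (h8 : 8 ≤ Nat.card (S : Subgroup G)) :
    ∀ t ∈ (S : Subgroup G), t ≠ 1 →
      centralizer ({t} : Set G) ≤ normalizer ((S : Subgroup G) : Set G) := by
  haveI : Fact (Nat.Prime 2) := ⟨Nat.prime_two⟩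
  haveI : Fact r.Prime := ⟨h.prime⟩
  set A : Subgroup G := (S : Subgroup G) with hAdef
  have h2S : ∀ a ∈ A, a * a = 1 := fun a ha => h.mul_self_of_mem S.2 ha
  have hA : IsElementaryAbelian 2 A :=
    ⟨h.isMulCommutative S.2, fun a ha => by rw [pow_two]; exact h2S a ha⟩
  have ho : ∀ a ∈ A, a ≠ 1 → orderOf a = 2 := fun a ha ha1 =>
    orderOf_eq_prime (by rw [pow_two]; exact h2S a ha) ha1
  have hexp : ∀ a ∈ A, a ≠ 1 → ∀ y ∈ centralizer ({a} : Set G), y ^ (2 * r) = 1 :=
    fun a ha ha1 y hy => h.pow_two_r' (ho a ha ha1) (mem_centralizer_singleton_iff.1 hy).symm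
  have hsolv : ∀ a ∈ A, a ≠ 1 → Group.IsSolvable (centralizer ({a} : Set G)) := fun a ha ha1 =>
    isSolvable_of_exp h.prime fun x => Subtype.ext (by
      rw [SubmonoidClass.coe_pow]; exact hexp a ha ha1 x x.2)
  have hθ := Cfsg.Agent.S1279.result 2 A hA (le_trans (by norm_num) h8) hsolv
  have hodd : ∀ a : G, Odd (Nat.card (centralizerPPrimeCore 2 a)) := fun a =>
    Nat.coprime_two_right.1 (Base.coprime_card_map_pPrimeCore _)
  have hq : ∀ a ∈ A, a ≠ 1 → IsPGroup r (centralizerPPrimeCore 2 a) := fun a ha ha1 =>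
    h.isPGroup_of_exp (hodd a) fun x hx => hexp a ha ha1 x (map_subtype_le _ hx)
  obtain ⟨Q, hQq, hQ⟩ := exists_pgroup_ge_values hA (by norm_num; exact h8) hθ hq
  set X : Subgroup G := signalizerClosure A fun a => centralizerPPrimeCore 2 a with hX
  have hXQ : X ≤ Q := iSup_le fun a => hQ a a.2.1 a.2.2
  have hNX : normalizer (A : Set G) ≤ normalizer (X : Set G) := by
    have hmap : ∀ g ∈ normalizer (A : Set G), X.map (MulAut.conj g).toMonoidHom ≤ X := by
      intro g hg
      rw [hX, signalizerClosure, Subgroup.map_iSup]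
      refine iSup_le fun a => ?_
      rintro _ ⟨x, hx, rfl⟩
      refine mem_iSup_of_mem (⟨g * (a : G) * g⁻¹, (mem_normalizer_iff.1 hg _).1 a.2.1,
        fun e => a.2.2 (conj_eq_one_iff.1 e)⟩ : {a : G // a ∈ A ∧ a ≠ 1}) ?_
      exact conj_mem_centralizerPPrimeCore hx
    intro g hg
    refine mem_normalizer_fintype fun x hx => ?_
    exact hmap g hg ⟨x, hx, rfl⟩
  have hcent : ∀ a ∈ A, a ≠ 1 → ∀ k ∈ centralizerPPrimeCore 2 a, ∀ s ∈ A, k * s = s * k := by
    intro a ha ha1 k hk s hs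
    by_contra hne
    have hkX : k ∈ X := mem_iSup_of_mem (⟨a, ha, ha1⟩ : {a : G // a ∈ A ∧ a ≠ 1}) hk
    obtain ⟨H, hHS, hidx, hinv⟩ := key h S (hQq.to_le hXQ) (le_normalizer.trans hNX)
      ⟨s, hs, k, hkX, fun e => hne (mul_inv_eq_iff_eq_mul.1 e).symm⟩
    exact false_of_invariant_half hnab S (h.isMulCommutative S.2) hHS hidx
      fun g hg => hinv g hg (hNX hg)
  intro t ht ht1 g hg
  set C := centralizer ({t} : Set G) with hC
  haveI := hsolv t ht ht1
  have hSC : A ≤ C := fun s hs => mem_centralizer_singleton_iff.2 (h.comm_of_mem S.2 hs ht)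
  let T : Sylow 2 C := S.subtype hSC
  have hab : ∀ a ∈ (T : Subgroup C), ∀ b ∈ (T : Subgroup C), a * b = b * a := by
    intro a ha b hb
    rw [Sylow.coe_subtype, mem_subgroupOf] at ha hb
    exact Subtype.ext (h.comm_of_mem S.2 ha hb)
  have hN := sylow_sup_core_normal T hab
  refine mem_normalizer_fintype fun s hs => ?_
  have hsT : (⟨s, hSC hs⟩ : C) ∈ (T : Subgroup C) := by rwa [Sylow.coe_subtype, mem_subgroupOf]
  obtain ⟨k, hk, b, hb, hkb⟩ :=
    Subgroup.mem_sup_of_normal_left.1 (hN.conj_mem _ (mem_sup_right hsT) ⟨g, hg⟩)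
  rw [Sylow.coe_subtype, mem_subgroupOf] at hb
  have hkm : (k : G) ∈ centralizerPPrimeCore 2 t := ⟨k, hk, rfl⟩
  have e : g * s * g⁻¹ = (k : G) * b := (congrArg Subtype.val hkb).symm
  have hkb' : Commute (k : G) b := hcent t ht ht1 _ hkm _ hb
  have h1 : ((k : G) * b) ^ 2 = 1 := by
    rw [← e, conj_pow, pow_two, h2S s hs, mul_one, mul_inv_cancel]
  rw [hkb'.mul_pow, pow_two (b : G), h2S _ hb, mul_one] at h1
  have hk1 : (k : G) = 1 := Involutions.sq_odd_eq_one h1 (orderOf_odd_of_card (hodd t) hkm)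
  show g * s * g⁻¹ ∈ A
  rw [e, hk1, one_mul]
  exact hb

end CfsgLib.Recog.TwoR
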