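import Cfsg.Agent.Lib.Recog.TwoR.Basic
import Cfsg.Agent.Lib.Coprime.Action2
import Cfsg.Agent.Lib.Base.Frattini
import Cfsg.Agent.Lib.PGroups.Basic

/-!
General lemmas for the weight argument: primary parts, Frattini quotients, common eigenvectors of
commuting involutory automorphisms, orbit products, and fixed points outside a hyperplane.
-/

set_option autoImplicit false
set_option linter.dupNamespace false
set_option linter.style.haveILetI false
set_option linter.unusedSectionVars false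

open scoped commutatorElement

namespace CfsgLib.Recog.TwoR

universe u

variable {G : Type u} [Group G] [Finite G]

/-- An element lies in a subgroup as soon as its parts of prime-power order do. -/
theorem mem_of_primary (K : Subgroup G) :
    ∀ (n : ℕ) (g : G), orderOf g = n →
      (∀ (p i j : ℕ), p.Prime → orderOf (g ^ i) = p ^ j → g ^ i ∈ K) → g ∈ K := by
  intro n
  induction n using Nat.strong_induction_on with
  | _ n ih =>
    intro g hg hK
    rcases eq_or_ne n 1 with rfl | hn1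
    · rw [orderOf_eq_one_iff.1 hg]; exact one_mem K
    obtain ⟨p, hp, hpn⟩ := Nat.exists_prime_and_dvd hn1
    have hn0 : n ≠ 0 := hg ▸ (orderOf_pos g).ne'
    set a := ordProj[p] n with ha
    set b := ordCompl[p] n with hb
    have hab : a * b = n := Nat.ordProj_mul_ordCompl_eq_self n p
    rcases eq_or_ne b 1 with hb1 | hb1
    · have := hK p 1 _ hp (by rw [pow_one, hg, ← hab, hb1, mul_one, ha])
      rwa [pow_one] at this
    have hb0 : b ≠ 0 := fun e => hn0 (by rw [← hab, e, mul_zero])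
    have ha0 : a ≠ 0 := pow_ne_zero _ hp.ne_zero
    have ha1 : 1 < a := by
      rw [ha]; exact Nat.one_lt_pow (hp.factorization_pos_of_dvd hn0 hpn).ne' hp.one_lt
    have hga : orderOf (g ^ a) = b := by
      rw [orderOf_pow' g ha0, hg, Nat.gcd_eq_right ⟨b, hab.symm⟩, ← hab,
        Nat.mul_div_cancel_left _ (Nat.pos_of_ne_zero ha0)]
    have hgb : orderOf (g ^ b) = a := by
      rw [orderOf_pow' g hb0, hg, Nat.gcd_eq_right ⟨a, by rw [mul_comm]; exact hab.symm⟩, ← hab,
        Nat.mul_div_cancel _ (Nat.pos_of_ne_zero hb0)]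
    have h1 : g ^ a ∈ K := ih b
      (by rw [← hab]; exact lt_mul_left (Nat.pos_of_ne_zero hb0) ha1) _ hga
      fun q i j hq e => by rw [← pow_mul] at e ⊢; exact hK q _ j hq e
    have h2 : g ^ b ∈ K := hK p b _ hp hgb
    have hco : a.gcd b = 1 := Nat.Coprime.pow_left _ (Nat.coprime_ordCompl hp hn0)
    have := congrArg (fun z : ℤ => g ^ z) (Nat.gcd_eq_gcd_ab a b)
    simp only [hco, Nat.cast_one, zpow_one, zpow_add, zpow_mul, zpow_natCast] at this
    rw [this]
    exact mul_mem (zpow_mem h1 _) (zpow_mem h2 _)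

theorem mk_comm_of_isPGroup {Q : Subgroup G} {p : ℕ} [Fact p.Prime] (hQ : IsPGroup p Q)
    (a b : ↥Q ⧸ frattini ↥Q) : a * b = b * a := by
  haveI : Group.IsNilpotent Q := hQ.isNilpotent
  obtain ⟨x, rfl⟩ := QuotientGroup.mk_surjective a
  obtain ⟨y, rfl⟩ := QuotientGroup.mk_surjective b
  rw [← QuotientGroup.mk_mul, ← QuotientGroup.mk_mul, QuotientGroup.eq]
  refine PGroups.commutator_le_frattini hQ ?_
  have h1 : ⁅y⁻¹, x⁻¹⁆ ∈ commutator ↥Q :=
    Subgroup.commutator_mem_commutator (Subgroup.mem_top _) (Subgroup.mem_top _)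
  rw [commutatorElement_def, inv_inv, inv_inv] at h1
  rwa [mul_inv_rev, ← mul_assoc]

/-- Commuting involutory automorphisms of an abelian group have a common eigenvector, inverted by
a given one of them that is nontrivial. -/
theorem exists_eigen {A V : Type*} [Group A] [CommGroup V] (σ : A →* MulAut V) {a₀ : A} {v₀ : V}
    (h₀ : σ a₀ v₀ ≠ v₀) (inv₀ : a₀ * a₀ = 1) (l : Finset A)
    (hinv : ∀ a ∈ l, a * a = 1) (hcomm : ∀ a ∈ l, ∀ b ∈ l, a * b = b * a)
    (hcomm₀ : ∀ a ∈ l, a₀ * a = a * a₀) :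
    ∃ w : V, w ≠ 1 ∧ σ a₀ w = w⁻¹ ∧ ∀ s ∈ l, σ s w = w ∨ σ s w = w⁻¹ := by
  classical
  have hap : ∀ (a b : A) (v : V), σ (a * b) v = σ a (σ b v) := fun a b v => by
    rw [map_mul, MulAut.mul_apply]
  induction l using Finset.induction_on with
  | empty =>
    refine ⟨v₀ * (σ a₀ v₀)⁻¹, fun e => h₀ (mul_inv_eq_one.1 e).symm, ?_,
      fun s hs => absurd hs (Finset.notMem_empty s)⟩
    rw [map_mul, map_inv, ← hap, inv₀, map_one, MulAut.one_apply, mul_inv_rev, inv_inv]
  | insert a l _ ih =>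
    have ha := Finset.mem_insert_self a l
    obtain ⟨w, hw1, hw0, hwl⟩ := ih (fun s hs => hinv s (Finset.mem_insert_of_mem hs))
      (fun s hs t ht => hcomm s (Finset.mem_insert_of_mem hs) t (Finset.mem_insert_of_mem ht))
      fun s hs => hcomm₀ s (Finset.mem_insert_of_mem hs)
    by_cases hw : σ a w = w⁻¹
    · refine ⟨w, hw1, hw0, fun s hs => ?_⟩
      rcases Finset.mem_insert.1 hs with rfl | hs
      · exact Or.inr hw
      · exact hwl s hs
    · refine ⟨w * σ a w, fun e => hw (eq_inv_of_mul_eq_one_right e), ?_, fun s hs => ?_⟩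
      · rw [map_mul, ← hap, hcomm₀ a ha, hap, hw0, map_inv, mul_inv]
      · rcases Finset.mem_insert.1 hs with rfl | hs
        · left
          rw [map_mul, ← hap, hinv s ha, map_one, MulAut.one_apply, mul_comm]
        · have he : σ s (σ a w) = σ a (σ s w) := by
            rw [← hap, hcomm s (Finset.mem_insert_of_mem hs) a ha, hap]
          rcases hwl s hs with e | e
          · exact Or.inl (by rw [map_mul, he, e])
          · exact Or.inr (by rw [map_mul, he, e, map_inv, mul_inv])

/-- The product over an orbit of a vector separated from its translates by involutions is a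
nontrivial fixed vector. -/
theorem prod_orbit {V : Type*} [CommGroup V] (g : MulAut V) {L : ℕ} (hL : 0 < L) (hgL : g ^ L = 1)
    {w : V} (hw : ∀ n : ℕ, w ^ 2 ^ n ≠ 1)
    (hsep : ∀ i, 0 < i → i < L → ∃ τ : MulAut V, τ w = w ∧ τ ((g ^ i) w) = ((g ^ i) w)⁻¹ ∧
      ∀ j, τ ((g ^ j) w) = (g ^ j) w ∨ τ ((g ^ j) w) = ((g ^ j) w)⁻¹) :
    g (∏ i ∈ Finset.range L, (g ^ i) w) = ∏ i ∈ Finset.range L, (g ^ i) w ∧
      (∏ i ∈ Finset.range L, (g ^ i) w) ≠ 1 := by
  classical
  constructor
  · have e1 : g (∏ i ∈ Finset.range L, (g ^ i) w) = ∏ i ∈ Finset.range L, (g ^ (i + 1)) w := by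
      rw [map_prod]
      exact Finset.prod_congr rfl fun i _ => by rw [pow_succ', MulAut.mul_apply]
    have e3 := Finset.prod_range_succ' (fun i => (g ^ i) w) L
    rw [Finset.prod_range_succ] at e3
    simp only [hgL, pow_zero, MulAut.one_apply] at e3
    rw [e1]
    exact mul_right_cancel e3.symm
  · have hkill : ∀ I : Finset ℕ, (∀ i ∈ I, 0 < i ∧ i < L) → ∃ (T : V →* V) (n : ℕ),
        T w = w ^ 2 ^ n ∧ ∀ i ∈ I, T ((g ^ i) w) = 1 := by
      intro I
      induction I using Finset.induction_on with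
      | empty =>
        exact fun _ => ⟨MonoidHom.id V, 0, by simp, fun i hi => absurd hi (Finset.notMem_empty i)⟩
      | insert a I _ ih =>
        intro hI
        obtain ⟨T, n, hTw, hTI⟩ := ih fun i hi => hI i (Finset.mem_insert_of_mem hi)
        obtain ⟨ha0, haL⟩ := hI a (Finset.mem_insert_self a I)
        obtain ⟨τ, hτw, hτa, hτ⟩ := hsep a ha0 haL
        refine ⟨T.comp (MonoidHom.mk' (fun v => v * τ v) fun x y => by
          rw [map_mul, mul_mul_mul_comm]), n + 1, ?_, fun i hi => ?_⟩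
        · show T (w * τ w) = _
          rw [hτw, map_mul, hTw, ← pow_two, ← pow_mul, ← pow_succ]
        · show T ((g ^ i) w * τ ((g ^ i) w)) = 1
          rcases Finset.mem_insert.1 hi with rfl | hi
          · rw [hτa, mul_inv_cancel, map_one]
          · rcases hτ i with e | e <;> simp [e, hTI i hi]
    obtain ⟨T, n, hTw, hTI⟩ := hkill ((Finset.range L).erase 0) fun i hi => by
      obtain ⟨h1, h2⟩ := Finset.mem_erase.1 hi
      exact ⟨Nat.pos_of_ne_zero h1, Finset.mem_range.1 h2⟩
    intro e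
    have h1 : T (∏ i ∈ Finset.range L, (g ^ i) w) = w ^ 2 ^ n := by
      rw [map_prod, ← Finset.mul_prod_erase _ _ (Finset.mem_range.2 hL),
        Finset.prod_eq_one hTI, mul_one, pow_zero, MulAut.one_apply, hTw]
    exact hw n (by rw [← h1, e, map_one])

/-- An element of odd prime-power order normalising an elementary abelian `2`-group and an
index-two subgroup centralises an involution outside that subgroup. -/
theorem exists_fixed_outside {S H : Subgroup G} (hS : IsPGroup 2 S) (hHS : H ≤ S)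
    (hidx : H.relIndex S = 2) {y : G} {p j : ℕ} (hp : p.Prime) (hp2 : p ≠ 2)
    (hy : orderOf y = p ^ j) (hyS : y ∈ Subgroup.normalizer (S : Set G))
    (hyH : y ∈ Subgroup.normalizer (H : Set G)) :
    ∃ x ∈ S, x ∉ H ∧ Commute x y := by
  classical
  haveI : Fact p.Prime := ⟨hp⟩
  let T := {x : G // x ∈ S ∧ x ∉ H}
  have hN : ∀ z : Subgroup.zpowers y, (z : G) ∈ Subgroup.normalizer (S : Set G) ∧
      (z : G) ∈ Subgroup.normalizer (H : Set G) := fun z =>
    ⟨(Subgroup.zpowers_le.2 hyS) z.2, (Subgroup.zpowers_le.2 hyH) z.2⟩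
  letI : MulAction (Subgroup.zpowers y) T :=
    { smul := fun z x => ⟨(z : G) * x.1 * (z : G)⁻¹,
        (Subgroup.mem_normalizer_iff.1 (hN z).1 _).1 x.2.1,
        fun hh => x.2.2 ((Subgroup.mem_normalizer_iff.1 (hN z).2 _).2 hh)⟩
      one_smul := fun x => Subtype.ext (show (1 : G) * x.1 * (1 : G)⁻¹ = x.1 by group)
      mul_smul := fun a b x => Subtype.ext
        (show ((a : G) * b) * x.1 * ((a : G) * b)⁻¹ =
          (a : G) * ((b : G) * x.1 * (b : G)⁻¹) * (a : G)⁻¹ by group) }
  have hpZ : IsPGroup p (Subgroup.zpowers y) :=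
    IsPGroup.of_card ((Nat.card_zpowers y).trans hy)
  have hcard : Nat.card T + Nat.card H = 2 * Nat.card H := by
    haveI : Finite T := Subtype.finite
    have h1 : Nat.card {x : G // x ∈ S} = Nat.card T + Nat.card H := by
      rw [← Nat.card_congr (Equiv.sumCompl (fun x : {x : G // x ∈ S} => x.1 ∈ H)), Nat.card_sum,
        add_comm]
      congr 1
      · exact Nat.card_congr ⟨fun x => ⟨x.1.1, x.1.2, x.2⟩, fun x => ⟨⟨x.1, x.2.1⟩, x.2.2⟩,
          fun _ => rfl, fun _ => rfl⟩
      · exact Nat.card_congr ⟨fun x => ⟨x.1.1, x.2⟩, fun x => ⟨⟨x, hHS x.2⟩, x.2⟩,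
          fun _ => rfl, fun _ => rfl⟩
    have h2 := (H.subgroupOf S).card_mul_index
    rw [Nat.card_congr (Subgroup.subgroupOfEquivOfLe hHS).toEquiv, show (H.subgroupOf S).index = 2
      from hidx] at h2
    have h3 : Nat.card {x : G // x ∈ S} = Nat.card H * 2 := h2.symm
    omega
  have hpT : ¬ p ∣ Nat.card T := fun hd => by
    obtain ⟨a, ha⟩ := IsPGroup.iff_card.1 (hS.to_le hHS)
    rw [show Nat.card T = Nat.card H by omega, ha] at hd
    exact hp2 ((Nat.prime_dvd_prime_iff_eq hp Nat.prime_two).1 (hp.dvd_of_dvd_pow hd))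
  obtain ⟨x, hx⟩ := hpZ.nonempty_fixed_point_of_prime_not_dvd_card T hpT
  have hfix : y * x.1 * y⁻¹ = x.1 := congrArg Subtype.val (hx ⟨y, Subgroup.mem_zpowers y⟩)
  exact ⟨x.1, x.2.1, x.2.2, (mul_inv_eq_iff_eq_mul.1 hfix).symm⟩

end CfsgLib.Recog.TwoR
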