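import Cfsg.Agent.Lib.Recog.TwoR.KeyLemmas

/-!
The prime-power step of the weight argument: an element of odd prime-power order normalising a
Sylow `2`-subgroup and an `r`-group normalises the stabiliser of an eigenvector of the former in
an abelian image of the latter with coprime kernel.
-/

set_option autoImplicit false
set_option linter.dupNamespace false
set_option linter.style.haveILetI false
set_option linter.unusedSectionVars false

namespace CfsgLib.Recog.TwoR

universe u v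

variable {G : Type u} [Group G] [Finite G] {r : ℕ}

theorem primary_invariant (h : Ord2r G r) (S : Sylow 2 G) {Q : Subgroup G} (hQ : IsPGroup r Q)
    {N : Subgroup G} (hNS : N ≤ Subgroup.normalizer ((S : Subgroup G) : Set G))
    (hNQ : N ≤ Subgroup.normalizer (Q : Set G)) (hSN : (S : Subgroup G) ≤ N)
    {V : Type v} [CommGroup V] {π : ↥Q →* V} (hπ : Function.Surjective π)
    (σ : N →* MulAut V)
    (hσ : ∀ (n : N) (q : Q) (hm : (n : G) * q * (n : G)⁻¹ ∈ Q),
      σ n (π q) = π ⟨(n : G) * q * (n : G)⁻¹, hm⟩)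
    {w : V} (hsq : ∀ n : ℕ, w ^ 2 ^ n ≠ 1)
    (hpm : ∀ s : N, (s : G) ∈ (S : Subgroup G) → σ s w = w ∨ σ s w = w⁻¹)
    {H : Subgroup G} (hHS : H ≤ (S : Subgroup G))
    (hH : ∀ s : N, (s : G) ∈ (S : Subgroup G) → ((s : G) ∈ H ↔ σ s w = w))
    (hidx : H.relIndex (S : Subgroup G) = 2)
    {g : G} (hgN : g ∈ N) {p j : ℕ} (hp : p.Prime) (hp2 : p ≠ 2) (hgo : orderOf g = p ^ j) :
    g ∈ Subgroup.normalizer (H : Set G) := by
  classical
  haveI : Fact r.Prime := ⟨h.prime⟩
  haveI : Fact p.Prime := ⟨hp⟩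
  have hodd : Odd (orderOf g) := hgo ▸ (hp.odd_of_ne_two hp2).pow
  have hexi : ∃ i, 0 < i ∧ g ^ i ∈ Subgroup.normalizer (H : Set G) :=
    ⟨_, orderOf_pos g, by rw [pow_orderOf_eq_one]; exact one_mem _⟩
  obtain ⟨L, ⟨hL0, hPL⟩, hmin⟩ : ∃ L, (0 < L ∧ g ^ L ∈ Subgroup.normalizer (H : Set G)) ∧
      ∀ i, 0 < i → i < L → g ^ i ∉ Subgroup.normalizer (H : Set G) :=
    ⟨Nat.find hexi, Nat.find_spec hexi, fun i hi hiL hP => Nat.find_min hexi hiL ⟨hi, hP⟩⟩
  rcases eq_or_ne L 1 with rfl | hL1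
  · rwa [pow_one] at hPL
  exfalso
  have hdvd : ∀ i, g ^ i ∈ Subgroup.normalizer (H : Set G) → L ∣ i := by
    intro i hi
    by_contra hnd
    refine hmin (i % L) (Nat.pos_of_ne_zero fun e => hnd (Nat.dvd_of_mod_eq_zero e))
      (Nat.mod_lt _ hL0) ?_
    rw [← Nat.mod_add_div i L, pow_add, pow_mul] at hi
    exact ((Subgroup.normalizer (H : Set G)).mul_mem_cancel_right (pow_mem hPL _)).1 hi
  -- the period is the order
  have hgL : g ^ L = 1 := by
    by_contra hne
    obtain ⟨i, -, hi⟩ := (Nat.dvd_prime_pow hp).1 (hgo ▸ orderOf_pow_dvd L)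
    obtain ⟨x, hxS, hxH, hc⟩ := exists_fixed_outside S.2 hHS hidx hp hp2 hi
      (pow_mem (hNS hgN) L) hPL
    have hx1 : x ≠ 1 := fun e => hxH (e ▸ one_mem H)
    have hx2 : orderOf x = 2 :=
      orderOf_eq_prime (by rw [pow_two]; exact h.mul_self_of_mem S.2 hxS) hx1
    have hyr := h.pow_r_of_commute_two hx2 (hodd.of_dvd_nat (orderOf_pow_dvd L)) hc
    have hor : orderOf (g ^ L) = r := orderOf_eq_prime hyr hne
    have hog : orderOf g = r := by
      rcases h.rdvd g (hor ▸ orderOf_pow_dvd L) with e | e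
      · exact e
      · rw [e] at hodd
        exact absurd (even_iff_two_dvd.2 (dvd_mul_right 2 r)) (Nat.not_even_iff_odd.2 hodd)
    have hLr : L ∣ r := hdvd r (by rw [← hog, pow_orderOf_eq_one]; exact one_mem _)
    rcases (Nat.dvd_prime h.prime).1 hLr with e | e
    · exact hL1 e
    · exact hne (by rw [e, ← hog, pow_orderOf_eq_one])
  have hLo : orderOf g = L := by
    refine Nat.dvd_antisymm (orderOf_dvd_of_pow_eq_one hgL) (hdvd _ ?_)
    rw [pow_orderOf_eq_one]; exact one_mem _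
  -- the product over the orbit
  set γ : N := ⟨g, hgN⟩ with hγ
  have hγL : σ γ ^ L = 1 := by
    rw [← map_pow, show γ ^ L = 1 from Subtype.ext (by rw [SubmonoidClass.coe_pow]; exact hgL),
      map_one]
  obtain ⟨hzfix, hz1⟩ := prod_orbit (σ γ) hL0 hγL hsq fun i hi hiL => by
    have hcj : ∀ t ∈ (S : Subgroup G), ∀ k : ℕ, (g ^ k)⁻¹ * t * g ^ k ∈ (S : Subgroup G) :=
      fun t ht k => (Subgroup.mem_normalizer_iff''.1 (pow_mem (hNS hgN) k) t).1 ht
    obtain ⟨t, htH, ht⟩ : ∃ t ∈ H, (g ^ i)⁻¹ * t * g ^ i ∉ H := by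
      by_contra hno
      simp only [not_exists, not_and, not_not] at hno
      refine hmin i hi hiL (inv_mem_iff.1 (Subgroup.mem_normalizer_fintype fun n hn => ?_))
      rw [inv_inv]
      exact hno n hn
    have htS := hHS htH
    have hmv : ∀ k : ℕ, σ ⟨t, hSN htS⟩ ((σ γ ^ k) w) =
        (σ γ ^ k) (σ ⟨(g ^ k)⁻¹ * t * g ^ k, hSN (hcj t htS k)⟩ w) := fun k => by
      rw [← map_pow, ← MulAut.mul_apply, ← map_mul, ← MulAut.mul_apply, ← map_mul]
      refine congrArg (fun m => σ m w) (Subtype.ext ?_)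
      simp only [hγ, Subgroup.coe_mul, SubmonoidClass.coe_pow]
      group
    refine ⟨σ ⟨t, hSN htS⟩, (hH _ htS).1 htH, ?_, fun k => ?_⟩
    · rw [hmv i, (hpm ⟨_, hSN (hcj t htS i)⟩ (hcj t htS i)).resolve_left
        fun e => ht ((hH ⟨_, hSN (hcj t htS i)⟩ (hcj t htS i)).2 e),
        map_inv]
    · rw [hmv k]
      rcases hpm ⟨_, hSN (hcj t htS k)⟩ (hcj t htS k) with e | e
      · exact Or.inl (by rw [e])
      · exact Or.inr (by rw [e, map_inv])
  rcases j with _ | j
  · rw [pow_zero, hLo] at hgo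
    exact hL1 hgo
  by_cases hpr : p = r
  · -- an element of order `r ^ 2`
    obtain ⟨q, hq⟩ := hπ w
    have hrec : ∀ n : ℕ, ∃ a : Q, ((q : G) * g) ^ n = (a : G) * g ^ n ∧
        π a = ∏ i ∈ Finset.range n, (σ γ ^ i) w := by
      intro n
      induction n with
      | zero => exact ⟨1, by simp, by simp⟩
      | succ n ih =>
        obtain ⟨a, ha, haV⟩ := ih
        have hm : g ^ n * q * (g ^ n)⁻¹ ∈ Q :=
          (Subgroup.mem_normalizer_iff.1 (pow_mem (hNQ hgN) n) _).1 q.2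
        refine ⟨a * ⟨_, hm⟩, ?_, ?_⟩
        · rw [pow_succ, ha, Subgroup.coe_mul, pow_succ]
          group
        · rw [map_mul, haV, Finset.prod_range_succ, ← map_pow, ← hq]
          congr 1
          exact (hσ (γ ^ n) q hm).symm
    obtain ⟨a, ha, haV⟩ := hrec L
    rw [hgL, mul_one] at ha
    have hzr : IsPGroup r (Subgroup.zpowers g) := hpr ▸
      IsPGroup.of_card ((Nat.card_zpowers g).trans hgo)
    have hP' := hzr.to_sup_of_normal_right' hQ (Subgroup.zpowers_le.2 (hNQ hgN))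
    have hgr : g ^ r = 1 :=
      h.pow_r_of_mem hP' (Subgroup.mem_sup_left (Subgroup.mem_zpowers g))
    have hLr : L = r :=
      ((Nat.dvd_prime h.prime).1 (hLo ▸ orderOf_dvd_of_pow_eq_one hgr)).resolve_left hL1
    have hmem : (q : G) * g ∈ Subgroup.zpowers g ⊔ Q :=
      mul_mem (Subgroup.mem_sup_right q.2) (Subgroup.mem_sup_left (Subgroup.mem_zpowers g))
    have h1 := h.pow_r_of_mem hP' hmem
    rw [← hLr, ha] at h1
    exact hz1 (by rw [← haV, show a = 1 from Subtype.ext h1, map_one])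
  · -- a fixed element of order `r`
    obtain ⟨q, hq⟩ := hπ (∏ i ∈ Finset.range L, (σ γ ^ i) w)
    set Φ := π.ker.map Q.subtype with hΦ
    have hΦQ : Φ ≤ Q := Subgroup.map_subtype_le _
    have hgΦ : g ∈ Subgroup.normalizer (Φ : Set G) := by
      refine Subgroup.mem_normalizer_fintype ?_
      rintro _ ⟨f, hf, rfl⟩
      have hm : g * f * g⁻¹ ∈ Q := (Subgroup.mem_normalizer_iff.1 (hNQ hgN) _).1 f.2
      refine ⟨⟨_, hm⟩, ?_, rfl⟩
      have h1 : σ γ (π f) = π ⟨_, hm⟩ := hσ γ f hm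
      rw [show π f = 1 from hf, map_one] at h1
      exact h1.symm
    have hcop : (Nat.card (Subgroup.zpowers g)).Coprime (Nat.card Φ) := by
      obtain ⟨b, hb⟩ := IsPGroup.iff_card.1 (hQ.to_le hΦQ)
      rw [Nat.card_zpowers, hgo, hb]
      exact Nat.Coprime.pow (j + 1) b ((Nat.coprime_primes hp h.prime).2 hpr)
    obtain ⟨c, hc, hcq⟩ := Coprime.exists_centralizing_in_coset (Subgroup.zpowers_le.2 hgΦ) hcop
      (Or.inl (Group.isSolvable_of_comm fun u v => mul_comm' u v)) (k := (q : G)) fun a ha => by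
      obtain ⟨k, rfl⟩ := mem_powers_iff_mem_zpowers.2 ha
      have hk : (σ γ ^ k) (π q) = π q := by
        clear ha
        induction k with
        | zero => simp
        | succ k ih => rw [pow_succ, MulAut.mul_apply, hq, hzfix, ← hq, ih]
      have hm : g ^ k * q * (g ^ k)⁻¹ ∈ Q :=
        (Subgroup.mem_normalizer_iff.1 (pow_mem (hNQ hgN) k) _).1 q.2
      refine ⟨q⁻¹ * ⟨_, hm⟩, ?_, rfl⟩
      rw [← map_pow, hσ (γ ^ k) q hm] at hk
      show π (q⁻¹ * _) = 1
      rw [map_mul, show π ⟨g ^ k * q * (g ^ k)⁻¹, hm⟩ = π q from hk, map_inv, inv_mul_cancel]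
    obtain ⟨f, hf, hfe⟩ := hcq
    have hce : c = (q : G) * f := by rw [show (f : G) = _ from hfe, mul_inv_cancel_left]
    have hcQ : c ∈ Q := hce ▸ mul_mem q.2 f.2
    have hc1 : c ≠ 1 := fun e => hz1 (by
      rw [← hq, show q = f⁻¹ from eq_inv_of_mul_eq_one_left (Subtype.ext (hce.symm.trans e)),
        map_inv, show π f = 1 from hf, inv_one])
    have hcr := h.orderOf_eq_r hQ hcQ hc1
    have hcomm : Commute c g := (Subgroup.mem_centralizer_iff.1 hc g (Subgroup.mem_zpowers g)).symm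
    have hd := orderOf_dvd_of_pow_eq_one (h.pow_two_r hcr hcomm)
    rcases hp.dvd_mul.1 ((dvd_pow_self p j.succ_ne_zero).trans (hgo ▸ hd)) with e | e
    · exact hp2 ((Nat.prime_dvd_prime_iff_eq hp Nat.prime_two).1 e)
    · exact hpr ((Nat.prime_dvd_prime_iff_eq hp h.prime).1 e)

end CfsgLib.Recog.TwoR
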