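import Cfsg.Agent.Lib.Recog.TwoR.Defs
import Cfsg.Agent.Lib.Recog.ProjSpectrum
import Cfsg.Agent.Lib.Classical.Order

/-!
The field of a `PSL₂(q)` with Sylow four-groups and an element of order `2r`.
-/

set_option autoImplicit false
set_option linter.dupNamespace false
set_option linter.unusedSectionVars false
set_option linter.style.haveILetI false

namespace CfsgLib.Recog.TwoR

universe u

theorem psl_facts {G : Type u} [Group G] [Finite G] [IsSimpleGroup G] {r : ℕ} (h : Ord2r G r)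
    (S : Sylow 2 G) (h4 : Nat.card (S : Subgroup G) = 4) (hg : ∃ g : G, orderOf g = 2 * r)
    {F : Type} [Field F] [Fintype F] (hodd : Odd (Fintype.card F))
    (e : G ≃* Matrix.ProjectiveSpecialLinearGroup (Fin 2) F) :
    5 < Fintype.card F ∧ (Fintype.card F % 8 = 3 ∨ Fintype.card F % 8 = 5) := by
  haveI : Fact (Nat.Prime 2) := ⟨Nat.prime_two⟩
  haveI : Fact (Nat.Prime (ringChar F)) := ⟨CharP.char_is_prime F (ringChar F)⟩
  obtain ⟨n, -, hn⟩ := exists_card_eq_pow (F := F) (ringChar F)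
  have hp : (ringChar F).Prime := Fact.out
  set q := Fintype.card F with hq
  have hq2 : 2 ≤ q := Fintype.one_lt_card
  have hcard : 2 * Nat.card G = q * (q ^ 2 - 1) := by
    have h1 := Classical.card_PSL_two_mul (F := F)
    rw [Classical.gcd_two_card_sub_one_of_odd (by rwa [Nat.card_eq_fintype_card]),
      Nat.card_eq_fintype_card (α := F)] at h1
    rw [Nat.card_congr e.toEquiv]
    exact h1
  have h8 : ¬ 8 ∣ Nat.card G := fun hd => by
    have h1 := (Sylow.card_eq_multiplicity S)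
    rw [h4] at h1
    have h2 : (Nat.card G).factorization 2 = 2 := by
      have := Nat.pow_right_injective (le_refl 2) (h1.symm.trans (by norm_num : (4 : ℕ) = 2 ^ 2))
      exact this
    have h3 := (Nat.prime_two.pow_dvd_iff_le_factorization Nat.card_pos.ne').1
      (show 2 ^ 3 ∣ Nat.card G from hd)
    omega
  have hmod : q % 8 = 3 ∨ q % 8 = 5 := by
    obtain ⟨c, hc⟩ := hodd
    rcases (show q % 8 = 1 ∨ q % 8 = 3 ∨ q % 8 = 5 ∨ q % 8 = 7 by omega) with e1 | e1 | e1 | e1
    · exfalso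
      obtain ⟨k, hk⟩ : ∃ k, q = 8 * k + 1 := ⟨q / 8, by omega⟩
      refine h8 ⟨q * (k * (4 * k + 1)), ?_⟩
      have h16 : q ^ 2 - 1 = 16 * (k * (4 * k + 1)) := by
        rw [hk, show (8 * k + 1) ^ 2 = 16 * (k * (4 * k + 1)) + 1 by ring, Nat.add_sub_cancel]
      rw [h16] at hcard
      linarith
    · exact Or.inl e1
    · exact Or.inr e1
    · exfalso
      obtain ⟨k, hk⟩ : ∃ k, q = 8 * k + 7 := ⟨q / 8, by omega⟩
      refine h8 ⟨q * (4 * k ^ 2 + 7 * k + 3), ?_⟩
      have h16 : q ^ 2 - 1 = 16 * (4 * k ^ 2 + 7 * k + 3) := by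
        rw [hk, show (8 * k + 7) ^ 2 = 16 * (4 * k ^ 2 + 7 * k + 3) + 1 by ring, Nat.add_sub_cancel]
      rw [h16] at hcard
      linarith
  refine ⟨?_, hmod⟩
  by_contra hle
  obtain ⟨g, hg⟩ := hg
  obtain hmem : 2 * r ∈ Set.range (orderOf : Matrix.ProjectiveSpecialLinearGroup (Fin 2) F → ℕ) :=
    ⟨e g, by rw [e.orderOf_eq, hg]⟩
  rw [range_orderOf_PSL_two (F := F) (ringChar F)] at hmem
  have hd : dTwo F = 2 := by
    unfold dTwo
    rw [if_neg (Nat.not_even_iff_odd.2 hodd)]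
  rw [hd, ← hq] at hmem
  have hr3 : 3 ≤ r := by
    have := h.prime.two_le
    obtain ⟨c, hc⟩ := h.odd
    omega
  rcases hmem with h1 | h1 | h1
  · have h2 : 2 = ringChar F := (Nat.prime_dvd_prime_iff_eq Nat.prime_two hp).1 (h1 ▸ dvd_mul_right 2 r)
    omega
  · have h2 := Nat.le_of_dvd (by omega) h1
    omega
  · have h2 := Nat.le_of_dvd (by omega) h1
    omega

end CfsgLib.Recog.TwoR
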