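import Cfsg.Agent.Lib.Recog.TwoR.Key
import Cfsg.Agent.Lib.Recog.TwoR.Transfer
import Cfsg.Agent.Lib.Recog.CIT.SE
import Cfsg.Agent.S0205

/-!
The soluble radical is trivial: a soluble normal subgroup with nonabelian simple quotient is
trivial under the element-order hypothesis.
-/

set_option autoImplicit false
set_option linter.dupNamespace false
set_option linter.style.haveILetI false
set_option linter.unusedSectionVars false

namespace CfsgLib.Recog.TwoR

universe u

variable {G : Type u} [Group G] [Finite G] {r : ℕ}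

/-- A subgroup centralising an element of order `2` or `r` is soluble. -/
theorem Ord2r.isSolvable_of_commute (h : Ord2r G r) {t : G} (ht : orderOf t = 2 ∨ orderOf t = r)
    {K : Subgroup G} (hK : ∀ k ∈ K, Commute t k) : Group.IsSolvable K :=
  isSolvable_of_exp h.prime fun k => Subtype.ext (by
    rw [Subgroup.coe_pow, Subgroup.coe_one]
    rcases ht with ht | ht
    · exact h.pow_two_r' ht (hK _ k.2)
    · exact h.pow_two_r ht (hK _ k.2))

/-- An element normalising the image of an abelian Sylow subgroup acts on it as an element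
normalising the subgroup. -/
theorem exists_normalizing_lift {X : Type*} [Group X] (π : G →* X) (S : Sylow 2 G)
    (hab : ∀ a ∈ (S : Subgroup G), ∀ b ∈ (S : Subgroup G), π a * π b = π b * π a) {y : X}
    (hπ : Function.Surjective π)
    (hy : y ∈ Subgroup.normalizer ((S : Subgroup G).map π : Set X)) :
    ∃ g ∈ Subgroup.normalizer ((S : Subgroup G) : Set G),
      ∀ x ∈ (S : Subgroup G), π (g * x * g⁻¹) = y * π x * y⁻¹ := by
  haveI : Fact (Nat.Prime 2) := ⟨Nat.prime_two⟩
  obtain ⟨g, rfl⟩ := hπ y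
  set M := ((S : Subgroup G).map π).comap π with hM
  have h1 : ((S : Sylow 2 G) : Subgroup G) ≤ M := Subgroup.le_comap_map _ _
  have h2 : ((g • S : Sylow 2 G) : Subgroup G) ≤ M := by
    intro z hz
    rw [Sylow.coe_subgroup_smul, Subgroup.mem_pointwise_smul_iff_inv_smul_mem] at hz
    have hz' : g⁻¹ * z * g ∈ (S : Subgroup G) := by simpa [MulAut.smul_def, ← map_inv] using hz
    rw [hM, Subgroup.mem_comap]
    have := (Subgroup.mem_normalizer_iff.1 hy _).1 (Subgroup.mem_map_of_mem π hz')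
    rwa [← map_inv, ← map_mul, ← map_mul,
      show g * (g⁻¹ * z * g) * g⁻¹ = z by group] at this
  obtain ⟨m, hm⟩ := MulAction.exists_smul_eq M ((g • S).subtype h2) (S.subtype h1)
  rw [Sylow.smul_subtype] at hm
  have hn : (m : G) * g ∈ Subgroup.normalizer ((S : Subgroup G) : Set G) := by
    refine Sylow.smul_eq_iff_mem_normalizer.1 ?_
    rw [mul_smul]
    exact Sylow.subtype_injective hm
  refine ⟨(m : G) * g, hn, fun x hx => ?_⟩
  obtain ⟨s, hs, hsm⟩ := (Subgroup.mem_comap.1 m.2 : π (m : G) ∈ (S : Subgroup G).map π)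
  obtain ⟨x', hx', hxx⟩ := (Subgroup.mem_normalizer_iff.1 hy _).1 (Subgroup.mem_map_of_mem π hx)
  calc π ((m : G) * g * x * ((m : G) * g)⁻¹) = π m * (π g * π x * (π g)⁻¹) * (π m)⁻¹ := by
        simp [mul_assoc]
    _ = π s * π x' * (π s)⁻¹ := by rw [hsm, hxx]
    _ = π x' := by rw [hab s hs x' hx', mul_inv_cancel_right]
    _ = _ := hxx

/-- A soluble normal subgroup with nonabelian simple quotient is trivial. -/
theorem eq_bot_of_solvable_normal (h : Ord2r G r) (N : Subgroup G) [N.Normal]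
    [Group.IsSolvable N] [IsSimpleGroup (G ⧸ N)] (hnab : ∃ a b : G ⧸ N, a * b ≠ b * a) :
    N = ⊥ := by
  classical
  haveI : Fact (Nat.Prime 2) := ⟨Nat.prime_two⟩
  set π := QuotientGroup.mk' N with hπdef
  have hπ : Function.Surjective π := QuotientGroup.mk'_surjective N
  have hker : ∀ x, π x = 1 ↔ x ∈ N := fun x => QuotientGroup.eq_one_iff x
  -- subgroups mapping onto the quotient are insoluble
  have hns : ∀ K : Subgroup G, K.map π = ⊤ → ¬ Group.IsSolvable K := fun K hK hs => by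
    haveI := hs
    haveI : Group.IsSolvable (G ⧸ N) :=
      Group.isSolvable_of_surjective (f := π.comp K.subtype) fun q => by
        obtain ⟨k, hk, rfl⟩ : q ∈ K.map π := hK.symm ▸ Subgroup.mem_top q
        exact ⟨⟨k, hk⟩, rfl⟩
    obtain ⟨a, b, hne⟩ := hnab
    exact hne (IsSimpleGroup.comm_iff_isSolvable.2 inferInstance a b)
  -- the radical has odd order
  have hNodd : Odd (Nat.card N) := by
    by_contra hev
    have h2N : 2 ∣ Nat.card N := even_iff_two_dvd.1 (Nat.not_odd_iff_even.1 hev)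
    obtain ⟨T⟩ : Nonempty (Sylow 2 N) := inferInstance
    set T' : Subgroup G := (T : Subgroup N).map N.subtype with hT'
    have hT'2 : IsPGroup 2 T' := T.2.map _
    obtain ⟨t, ht, hto⟩ : ∃ t ∈ T', orderOf t = 2 := by
      obtain ⟨u, hu⟩ := exists_prime_orderOf_dvd_card' (G := (T : Subgroup N)) 2
        (T.dvd_card_of_dvd_card h2N)
      exact ⟨((u : N) : G), Subgroup.mem_map_of_mem _ u.2, by
        rw [Subgroup.orderOf_coe, Subgroup.orderOf_coe, hu]⟩
    set K := Subgroup.normalizer (T' : Set G) with hK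
    have hKmap : K.map π = ⊤ := by
      refine top_le_iff.1 fun q _ => ?_
      obtain ⟨g, rfl⟩ := hπ q
      have hg : g ∈ K ⊔ N := by
        rw [hK, hT', Sylow.normalizer_sup_eq_top T]; exact Subgroup.mem_top g
      obtain ⟨k, hk, n, hn, rfl⟩ := Subgroup.mem_sup_of_normal_right.1 hg
      exact ⟨k, hk, by rw [map_mul, (hker n).2 hn, mul_one]⟩
    refine hns K hKmap ?_
    set C := (Subgroup.centralizer (T' : Set G)).subgroupOf K with hC
    haveI : C.Normal := ⟨fun c hc k => by
      rw [hC, Subgroup.mem_subgroupOf, Subgroup.mem_centralizer_iff] at hc ⊢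
      intro u hu
      have hu' : (k : G)⁻¹ * u * k ∈ T' :=
        (Subgroup.mem_normalizer_iff''.1 k.2 u).1 hu
      have h1 := hc _ hu'
      simp only [Subgroup.coe_mul, Subgroup.coe_inv]
      calc u * ((k : G) * c * (k : G)⁻¹) = (k : G) * ((k : G)⁻¹ * u * k * c) * (k : G)⁻¹ := by group
        _ = (k : G) * c * (k : G)⁻¹ * u := by rw [h1]; group⟩
    haveI : Group.IsSolvable C := by
      haveI := h.isSolvable_of_commute (Or.inl hto) (K := Subgroup.centralizer (T' : Set G))
        fun c hc => Subgroup.mem_centralizer_iff.1 hc t ht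
      exact Group.isSolvable_of_isSolvable_injective
        (f := (K.subtype.comp C.subtype).codRestrict (Subgroup.centralizer (T' : Set G)) fun c => c.2)
        fun a b hab => Subtype.ext (Subtype.ext
          (congrArg (fun z : Subgroup.centralizer (T' : Set G) => (z : G)) hab))
    obtain ⟨P⟩ : Nonempty (Sylow 2 K) := inferInstance
    have hPC : (P : Subgroup K) ≤ C := fun p hp => by
      rw [hC, Subgroup.mem_subgroupOf, Subgroup.mem_centralizer_iff]
      intro u hu
      have hJ : IsPGroup 2 (((P : Subgroup K).map K.subtype ⊔ T' : Subgroup G)) :=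
        (P.2.map _).to_sup_of_normal_right' hT'2 (Subgroup.map_subtype_le _)
      exact h.comm_of_mem hJ (Subgroup.mem_sup_right hu)
        (Subgroup.mem_sup_left (Subgroup.mem_map_of_mem _ hp))
    haveI : Group.IsSolvable (K ⧸ C) := Cfsg.Agent.S0205.result (by
      refine Nat.not_even_iff_odd.1 fun he => P.not_dvd_index ?_
      rw [← Subgroup.relIndex_mul_index hPC]
      exact dvd_mul_of_dvd_right (even_iff_two_dvd.1 he) _)
    exact Group.isSolvable_of_ker_le_range C.subtype (QuotientGroup.mk' C) (by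
      rw [QuotientGroup.ker_mk', Subgroup.range_subtype])
  by_contra hne
  obtain ⟨V, hVN, hV⟩ := Base.exists_isMinimalNormal_le (N := N) hne
  haveI := hV.normal
  have hVs : Group.IsSolvable V :=
    Group.isSolvable_of_isSolvable_injective (Subgroup.inclusion_injective hVN)
  obtain ⟨p, hp, -, -, hVp⟩ := hV.exists_prime hVs
  haveI := hV.isMulCommutative hVs
  have hVodd : Odd (Nat.card V) := hNodd.of_dvd_nat (Subgroup.card_dvd_of_le hVN)
  have hVc : ∀ a ∈ V, ∀ b ∈ V, a * b = b * a := fun a ha b hb =>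
    congrArg Subtype.val (mul_comm' (⟨a, ha⟩ : V) ⟨b, hb⟩)
  -- two commuting involutions
  obtain ⟨a, b, hao, hbo, hab, hcab⟩ := CIT.exists_four hnab
  obtain ⟨S₀⟩ : Nonempty (Sylow 2 G) := inferInstance
  have hJ2 : IsPGroup 2 ↥(Subgroup.zpowers a ⊔ Subgroup.zpowers b) := by
    refine IsPGroup.to_sup_of_normal_right' (IsPGroup.of_card (n := 1)
      (by rw [Nat.card_zpowers, hao, pow_one])) (IsPGroup.of_card (n := 1)
      (by rw [Nat.card_zpowers, hbo, pow_one])) (Subgroup.zpowers_le.2 ?_)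
    refine Subgroup.mem_normalizer_iff.2 fun u => ⟨fun hu => ?_, fun hu => ?_⟩
    · obtain ⟨i, rfl⟩ := Subgroup.mem_zpowers_iff.1 hu
      rw [(hcab.zpow_right i).eq, mul_inv_cancel_right]
      exact Subgroup.zpow_mem_zpowers b i
    · obtain ⟨i, hi⟩ := Subgroup.mem_zpowers_iff.1 hu
      have : u = b ^ i := by
        calc u = a⁻¹ * (a * u * a⁻¹) * a := by group
          _ = a⁻¹ * b ^ i * a := by rw [hi]
          _ = _ := by rw [mul_assoc, ← (hcab.zpow_right i).eq, inv_mul_cancel_left]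
      exact this ▸ Subgroup.zpow_mem_zpowers b i
  obtain ⟨Q, hQ⟩ := hJ2.exists_le_sylow
  obtain ⟨q, hq⟩ := MulAction.exists_smul_eq (G ⧸ N) (S₀.mapSurjective hπ) Q
  obtain ⟨g, rfl⟩ := hπ q
  set S := g • S₀ with hS
  have hSQ : (S : Subgroup G).map π = (Q : Subgroup (G ⧸ N)) := by
    rw [← hq, hS, Sylow.coe_subgroup_smul, Sylow.coe_subgroup_smul, Sylow.coe_mapSurjective]
    ext z
    simp only [Subgroup.mem_map, Subgroup.mem_pointwise_smul_iff_inv_smul_mem, MulAut.smul_def,
      ← map_inv, MulAut.conj_apply]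
    constructor
    · rintro ⟨x, hx, rfl⟩; exact ⟨_, hx, by simp⟩
    · rintro ⟨x, hx, hxz⟩
      refine ⟨g * x * g⁻¹, by simpa [mul_assoc] using hx, ?_⟩
      rw [map_mul, map_mul, hxz]; simp only [map_inv, inv_inv]; group
  obtain ⟨x, hx, hxa⟩ : a ∈ (S : Subgroup G).map π :=
    hSQ ▸ hQ (Subgroup.mem_sup_left (Subgroup.mem_zpowers a))
  obtain ⟨y, hy, hyb⟩ : b ∈ (S : Subgroup G).map π :=
    hSQ ▸ hQ (Subgroup.mem_sup_right (Subgroup.mem_zpowers b))
  have hx1 : x ≠ 1 := fun e => by rw [e, map_one] at hxa; rw [← hxa, orderOf_one] at hao; omega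
  have hy1 : y ≠ 1 := fun e => by rw [e, map_one] at hyb; rw [← hyb, orderOf_one] at hbo; omega
  have hxx := h.mul_self_of_mem S.2 hx
  have hyy := h.mul_self_of_mem S.2 hy
  have hxy1 : x * y ≠ 1 := fun e => hab (by
    rw [← hxa, ← hyb, eq_inv_of_mul_eq_one_right e, inv_eq_of_mul_eq_one_right hxx])
  -- one of them fixes a nontrivial element of the minimal normal subgroup
  obtain ⟨v₀, hv₀, hv₀1⟩ := V.bot_or_exists_ne_one.resolve_left hV.ne_bot
  have hfix : ∀ t : G, t * t = 1 → (∃ v ∈ V, v ≠ 1 ∧ Commute t v) ∨ t * v₀ * t⁻¹ = v₀⁻¹ := by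
    intro t ht
    by_cases he : v₀ * (t * v₀ * t⁻¹) = 1
    · exact Or.inr (eq_inv_of_mul_eq_one_right he)
    · refine Or.inl ⟨_, mul_mem hv₀ (hV.normal.conj_mem _ hv₀ t), he, ?_⟩
      show t * (v₀ * (t * v₀ * t⁻¹)) = v₀ * (t * v₀ * t⁻¹) * t
      rw [← mul_inv_eq_iff_eq_mul]
      have ht' : t⁻¹ = t := inv_eq_of_mul_eq_one_right ht
      rw [show t * (v₀ * (t * v₀ * t⁻¹)) * t⁻¹ = t * v₀ * t⁻¹ * (t * t * v₀ * (t⁻¹ * t⁻¹)) by group,
        ht, ht', ht, one_mul, mul_one]
      refine hVc _ ?_ _ hv₀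
      have := hV.normal.conj_mem _ hv₀ t
      rwa [ht'] at this
  obtain ⟨t, v, hto, hv, hv1, htv⟩ : ∃ t v, orderOf t = 2 ∧ v ∈ V ∧ v ≠ 1 ∧ Commute t v := by
    rcases hfix x hxx with ⟨v, hv, hv1, hc⟩ | h1
    · exact ⟨x, v, EPPOTwo.orderOf_eq_two hxx hx1, hv, hv1, hc⟩
    rcases hfix y hyy with ⟨v, hv, hv1, hc⟩ | h2
    · exact ⟨y, v, EPPOTwo.orderOf_eq_two hyy hy1, hv, hv1, hc⟩
    refine ⟨x * y, v₀, EPPOTwo.orderOf_eq_two ?_ hxy1, hv₀, hv₀1, mul_inv_eq_iff_eq_mul.1 ?_⟩
    · exact h.mul_self_of_mem S.2 (mul_mem hx hy)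
    · rw [show x * y * v₀ * (x * y)⁻¹ = x * (y * v₀ * y⁻¹) * x⁻¹ by group, h2, ← conj_inv, h1, inv_inv]
  have hvo : Odd (orderOf v) := orderOf_odd_of_card hVodd hv
  have hvr : orderOf v = r := by
    haveI : Fact r.Prime := ⟨h.prime⟩
    exact orderOf_eq_prime (h.pow_r_of_commute_two hto hvo htv) hv1
  have hVr : IsPGroup r V := by
    obtain ⟨k, hk⟩ := hVp ⟨v, hv⟩
    have h1 : r ∣ p ^ k := hvr ▸ orderOf_dvd_of_pow_eq_one (congrArg Subtype.val hk)
    rwa [(Nat.prime_dvd_prime_iff_eq h.prime hp).1 (h.prime.dvd_of_dvd_pow h1)]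
  -- the centraliser lies in the radical
  have hxN : x ∉ N := fun hm => by
    rw [(hker x).2 hm] at hxa; rw [← hxa, orderOf_one] at hao; omega
  obtain ⟨u, hu, hxu⟩ : ∃ u ∈ V, x * u * x⁻¹ ≠ u := by
    by_contra hc
    push Not at hc
    set C := Subgroup.centralizer (V : Set G) with hC
    haveI : C.Normal := inferInstance
    have hxC : x ∈ C := Subgroup.mem_centralizer_iff.2 fun u hu => (mul_inv_eq_iff_eq_mul.1 (hc u hu)).symm
    rcases IsSimpleGroup.eq_bot_or_eq_top_of_normal (C.map π) (Subgroup.Normal.map inferInstance π hπ)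
      with hb | ht
    · exact hxN ((hker x).1 (by
        have := Subgroup.mem_map_of_mem π hxC
        rwa [hb, Subgroup.mem_bot] at this))
    · exact hns C ht (h.isSolvable_of_commute (Or.inr hvr) fun c hc' =>
        Subgroup.mem_centralizer_iff.1 hc' v hv)
  obtain ⟨H, hHS, hidx, hinv⟩ := key h S hVr
    (by rw [Subgroup.normalizer_eq_top]; exact le_top) ⟨x, hx, u, hu, hxu⟩
  -- push the half to the quotient
  have hinj : ∀ z ∈ (S : Subgroup G), π z = 1 → z = 1 := fun z hz hz1 => by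
    have hodd := orderOf_odd_of_card hNodd ((hker z).1 hz1)
    by_contra hne1
    rw [EPPOTwo.orderOf_eq_two (h.mul_self_of_mem S.2 hz) hne1] at hodd
    exact absurd hodd (by decide)
  have hcard : ∀ K : Subgroup G, K ≤ (S : Subgroup G) → Nat.card (K.map π) = Nat.card K := by
    intro K hK
    refine (Nat.card_eq_of_bijective (π.subgroupMap K) ⟨fun z w hzw => ?_,
      π.subgroupMap_surjective K⟩).symm
    have h1 : π ((z : G) * (w : G)⁻¹) = 1 := by
      rw [map_mul, map_inv, show π (z : G) = π w from congrArg Subtype.val hzw, mul_inv_cancel]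
    exact Subtype.ext (mul_inv_eq_one.1 (hinj _ (hK (mul_mem z.2 (inv_mem w.2))) h1))
  let S' : Sylow 2 (G ⧸ N) := S.mapSurjective hπ
  refine false_of_invariant_half hnab S' ?_ (H := H.map π) (Subgroup.map_mono hHS) ?_ ?_
  · haveI := h.isMulCommutative S.2
    exact Subgroup.map_isMulCommutative (S : Subgroup G) π
  · have h1 := Subgroup.relIndex_mul_relIndex ⊥ (H.map π) (S' : Subgroup (G ⧸ N)) bot_le
      (Subgroup.map_mono hHS)
    have h2 := Subgroup.relIndex_mul_relIndex ⊥ H (S : Subgroup G) bot_le hHS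
    rw [Subgroup.relIndex_bot_left, Subgroup.relIndex_bot_left, hidx] at h2
    rw [Subgroup.relIndex_bot_left, Subgroup.relIndex_bot_left, hcard H hHS,
      show Nat.card (S' : Subgroup (G ⧸ N)) = Nat.card (S : Subgroup G) from hcard _ le_rfl, ← h2] at h1
    exact Nat.eq_of_mul_eq_mul_left Nat.card_pos h1
  · rintro y hy _ ⟨z, hz, rfl⟩
    obtain ⟨g', hg', hgz⟩ := exists_normalizing_lift π S
      (fun a ha b hb => by rw [← map_mul, ← map_mul, h.comm_of_mem S.2 ha hb]) hπ hy
    exact ⟨_, hinv g' hg' (by rw [Subgroup.normalizer_eq_top]; exact Subgroup.mem_top g') z hz,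
      hgz z (hHS hz)⟩

end CfsgLib.Recog.TwoR
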