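import Cfsg.Agent.Lib.Recog.TwoR.Basic
import Cfsg.Agent.Lib.Transfer.TransferFixed
import Cfsg.Agent.Lib.Involutions.StrongEmb

/-!
The corner case `r = 3`: an element `y` of order three whose centraliser has order `18` gives a
`3`-quotient by transfer.
-/

set_option autoImplicit false
set_option linter.dupNamespace false
set_option linter.style.haveILetI false
set_option linter.unusedSectionVars false

namespace CfsgLib.Recog.TwoR.Rank3

open Subgroup MulAction

universe u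

variable {G : Type u} [Group G]

/-- No involution commutes with `x`. -/
def NoInvol (x : G) : Prop := ∀ v : G, orderOf v = 2 → ¬ Commute v x

theorem NoInvol.conj {x : G} (h : NoInvol x) (g : G) : NoInvol (g * x * g⁻¹) := by
  intro v hv hc
  refine h (g⁻¹ * v * g) ?_ ?_
  · rw [show g⁻¹ * v * g = g⁻¹ * v * g⁻¹⁻¹ by rw [inv_inv], Involutions.orderOf_conj_eq, hv]
  · show g⁻¹ * v * g * x = x * (g⁻¹ * v * g)
    calc g⁻¹ * v * g * x = g⁻¹ * (v * (g * x * g⁻¹)) * g := by group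
      _ = g⁻¹ * ((g * x * g⁻¹) * v) * g := by rw [hc.eq]
      _ = _ := by group

theorem NoInvol.inv {x : G} (h : NoInvol x) : NoInvol x⁻¹ := fun v hv hc =>
  h v hv (Commute.inv_right_iff.1 hc)

/-- The corner case. -/
theorem corner_false [Finite G] [IsSimpleGroup G] (h : Ord2r G 3)
    (hncomm : ∃ a b : G, a * b ≠ b * a)
    (hL1 : ∀ t v x : G, orderOf t = 2 → orderOf v = 2 → Odd (orderOf x) → Commute t x →
      v * x * v⁻¹ = x⁻¹ → x = 1)
    {y t : G} (hy : orderOf y = 3) (ht : orderOf t = 2) (hty : Commute t y)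
    (hcard : Nat.card (centralizer ({y} : Set G)) = 18)
    (hsmall : Nat.card (centralizer ({y} : Set G) ⊓ centralizer ({t} : Set G) : Subgroup G) < 9) :
    False := by
  classical
  haveI : Fact (Nat.Prime 3) := ⟨Nat.prime_three⟩
  have hy3 : y ^ 3 = 1 := hy ▸ pow_orderOf_eq_one y
  have hy1 : y ≠ 1 := fun e => by rw [e, orderOf_one] at hy; omega
  have hodd3 : ∀ {x : G}, x ^ 3 = 1 → Odd (orderOf x) := fun hx =>
    (show Odd 3 by decide).of_dvd_nat (orderOf_dvd_of_pow_eq_one hx)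
  -- the Sylow `3`-subgroup of `C(y)`
  obtain ⟨Q₀⟩ : Nonempty (Sylow 3 (centralizer ({y} : Set G))) := inferInstance
  have hQ₀ : Nat.card (Q₀ : Subgroup (centralizer ({y} : Set G))) = 9 := by
    rw [Q₀.card_eq_multiplicity, hcard,
      show (18 : ℕ) = 2 * 3 ^ 2 by norm_num, Nat.factorization_mul (by norm_num) (by norm_num),
      Nat.Prime.factorization_pow Nat.prime_three, Finsupp.add_apply, Finsupp.single_eq_same,
      Nat.factorization_eq_zero_of_not_dvd (by norm_num : ¬ 3 ∣ 2)]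
    norm_num
  have hQidx : (Q₀ : Subgroup (centralizer ({y} : Set G))).index = 2 := by
    have := (Q₀ : Subgroup (centralizer ({y} : Set G))).card_mul_index
    rw [hQ₀, hcard] at this
    omega
  haveI : (Q₀ : Subgroup (centralizer ({y} : Set G))).Normal :=
    normal_of_index_eq_two hQidx
  obtain ⟨Q, hQ⟩ : ∃ Q : Subgroup G,
      Q = (Q₀ : Subgroup (centralizer ({y} : Set G))).map (Subgroup.subtype _) := ⟨_, rfl⟩
  have hQc : Nat.card Q = 9 := by
    rw [hQ, card_map_of_injective (Subgroup.subtype_injective _), hQ₀]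
  have hQp : IsPGroup 3 Q := IsPGroup.iff_card.2 ⟨2, by rw [hQc]; norm_num⟩
  have hQmem : ∀ {g : G}, g ^ 3 = 1 → Commute y g → g ∈ Q := by
    intro g hg hc
    have hgC : g ∈ centralizer ({y} : Set G) :=
      Involutions.mem_centralizer_singleton.2 hc
    rw [hQ, mem_map]
    refine ⟨⟨g, hgC⟩, ?_, rfl⟩
    have h2 := pow_index_mem (Q₀ : Subgroup (centralizer ({y} : Set G))) ⟨g, hgC⟩
    rw [hQidx] at h2
    have h4 := pow_mem h2 2
    rwa [← pow_mul, show ((⟨g, hgC⟩ : centralizer ({y} : Set G)) ^ (2 * 2)) = ⟨g, hgC⟩ from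
      Subtype.ext (by rw [Subgroup.coe_pow, show 2 * 2 = 3 + 1 from rfl, pow_succ, hg, one_mul])]
      at h4
  have hQy : ∀ {g : G}, g ∈ Q → Commute y g := by
    intro g hg
    rw [hQ, mem_map] at hg
    obtain ⟨g, -, rfl⟩ := hg
    exact Involutions.mem_centralizer_singleton.1 g.2
  have hQ3 : ∀ {g : G}, g ∈ Q → g ^ 3 = 1 := fun hg => h.pow_r_of_mem hQp hg
  have hyQ : y ∈ Q := hQmem hy3 (Commute.refl y)
  have hQcomm : ∀ {a b : G}, a ∈ Q → b ∈ Q → Commute a b := fun ha hb =>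
    congrArg Subtype.val (IsPGroup.commutative_of_card_eq_prime_sq
      (show Nat.card Q = 3 ^ 2 by rw [hQc]; norm_num) ⟨_, ha⟩ ⟨_, hb⟩)
  obtain ⟨x, hxQ, hxt⟩ : ∃ x ∈ Q, ¬ Commute t x := by
    by_contra hall
    push Not at hall
    have hle : Q ≤ centralizer ({y} : Set G) ⊓ centralizer ({t} : Set G) := fun g hg =>
      ⟨Involutions.mem_centralizer_singleton.2 (hQy hg),
        Involutions.mem_centralizer_singleton.2 (hall g hg)⟩
    have := Subgroup.card_le_of_le hle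
    omega
  have htQ : ∀ {g : G}, g ∈ Q → t * g * t⁻¹ ∈ Q := fun {g} hg => hQmem
    (by rw [conj_pow, hQ3 hg, mul_one, mul_inv_cancel])
    (by
      have := (hQy hg).map (MulAut.conj t)
      rwa [MulAut.conj_apply, MulAut.conj_apply, hty.eq, mul_inv_cancel_right] at this)
  -- the inverted element `q`
  obtain ⟨q, hq⟩ : ∃ q, q = x⁻¹ * (t * x * t⁻¹) := ⟨_, rfl⟩
  have hqQ : q ∈ Q := hq ▸ mul_mem (inv_mem hxQ) (htQ hxQ)
  have hqi : t * q * t⁻¹ = q⁻¹ := by
    rw [hq, Involutions.invol_inv ht]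
    simp only [mul_inv_rev, inv_inv, Involutions.invol_inv ht, mul_assoc]
    have h1 := (hQcomm (inv_mem (htQ hxQ)) hxQ)
    rw [Involutions.invol_inv ht] at h1
    calc t * (x⁻¹ * (t * (x * (t * t)))) = (t * x⁻¹ * t) * x := by
          rw [Involutions.invol_mul_self ht]; group
      _ = (t * x * t)⁻¹ * x := by rw [mul_inv_rev, mul_inv_rev, Involutions.invol_inv ht]; group
      _ = _ := by
          rw [mul_inv_rev, mul_inv_rev, Involutions.invol_inv ht]
          group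
  have hq1 : q ≠ 1 := fun e => hxt (by
    rw [hq, inv_mul_eq_one] at e
    exact mul_inv_eq_iff_eq_mul.1 e.symm)
  have hqo : orderOf q = 3 := orderOf_eq_prime (hQ3 hqQ) hq1
  have hqn : NoInvol q := fun v hv hc => hq1 (hL1 v t q hv ht (hodd3 (hQ3 hqQ)) hc hqi)
  have hyn : ¬ NoInvol y := fun hn => hn t ht hty
  have hyinv : ∀ g : G, g * y * g⁻¹ ≠ y⁻¹ := by
    intro g hg
    obtain ⟨k, m, hm, he⟩ := Nat.exists_eq_pow_mul_and_not_dvd (orderOf_pos g).ne' 2 (by norm_num)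
    obtain ⟨l, hl⟩ := Nat.odd_iff.2 (Nat.two_dvd_ne_zero.1 hm)
    have hp : ∀ i : ℕ, g ^ (2 * i + 1) * y * (g ^ (2 * i + 1))⁻¹ = y⁻¹ := by
      intro i
      induction i with
      | zero => simpa using hg
      | succ i ih =>
        calc g ^ (2 * (i + 1) + 1) * y * (g ^ (2 * (i + 1) + 1))⁻¹
            = g * (g * (g ^ (2 * i + 1) * y * (g ^ (2 * i + 1))⁻¹) * g⁻¹) * g⁻¹ := by
              rw [show 2 * (i + 1) + 1 = 2 * i + 1 + 1 + 1 by ring, pow_succ', pow_succ']; group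
          _ = y⁻¹ := by rw [ih, show g * y⁻¹ * g⁻¹ = (g * y * g⁻¹)⁻¹ by group, hg, inv_inv, hg]
    have hinv : g ^ m * y * (g ^ m)⁻¹ = y⁻¹ := hl ▸ hp l
    have h2 := h.sq_eq_one (x := g ^ m) (k := k) (by
      rw [← pow_mul, mul_comm, ← he, pow_orderOf_eq_one])
    have hne : g ^ m ≠ 1 := fun e => hy1 (Involutions.eq_one_of_eq_inv_of_odd
      (by rw [e, one_mul, inv_one, mul_one] at hinv; exact hinv) (hodd3 hy3))
    exact hy1 (hL1 t (g ^ m) y ht (Involutions.invol_iff.2 ⟨h2, hne⟩) (hodd3 hy3) hty hinv)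
  -- coordinates on `Q`
  have hyz : ∀ i : ℕ, i < 3 → ∀ j : ℕ, j < 3 → y ^ i = q ^ j → i = 0 := by
    intro i hi j hj e
    by_contra hi0
    have h1 : t * q ^ j * t⁻¹ = (q ^ j)⁻¹ := by rw [← conj_pow, hqi, inv_pow]
    rw [← e] at h1
    have h2 := hL1 t t (y ^ i) ht ht (hodd3 (by rw [← pow_mul, mul_comm, pow_mul, hy3, one_pow]))
      (hty.pow_right i) h1
    have h3 := Nat.le_of_dvd (Nat.pos_of_ne_zero hi0) (hy ▸ orderOf_dvd_of_pow_eq_one h2)
    omega
  have hcoord : ∀ g ∈ Q, ∃ i, i < 3 ∧ ∃ j, j < 3 ∧ g = y ^ i * q ^ j := by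
    intro g hg
    let f : Fin 3 × Fin 3 → Q := fun p =>
      ⟨y ^ (p.1 : ℕ) * q ^ (p.2 : ℕ), mul_mem (pow_mem hyQ _) (pow_mem hqQ _)⟩
    have hf : Function.Injective f := by
      rintro ⟨a, b⟩ ⟨a', b'⟩ e
      have e' : y ^ (a : ℕ) * q ^ (b : ℕ) = y ^ (a' : ℕ) * q ^ (b' : ℕ) := congrArg Subtype.val e
      have h1 : y ^ (((a : ℕ) + 3 - (a' : ℕ)) % 3) = q ^ (((b' : ℕ) + 3 - (b : ℕ)) % 3) := by
        rw [show y ^ (((a : ℕ) + 3 - a') % 3) = y ^ ((a : ℕ) + 3 - a') from by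
          conv_rhs => rw [← pow_mod_orderOf, hy]]
        rw [show q ^ (((b' : ℕ) + 3 - b) % 3) = q ^ ((b' : ℕ) + 3 - b) from by
          conv_rhs => rw [← pow_mod_orderOf, hqo]]
        refine mul_left_cancel (a := y ^ (a' : ℕ)) (mul_right_cancel (b := q ^ (b : ℕ)) ?_)
        rw [← pow_add, show (a' : ℕ) + ((a : ℕ) + 3 - a') = a + 3 by omega, pow_add, hy3, mul_one,
          mul_assoc, ← pow_add, show ((b' : ℕ) + 3 - b) + b = b' + 3 by omega, pow_add, hQ3 hqQ,
          mul_one]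
        exact e'
      have h2 := hyz _ (Nat.mod_lt _ three_pos) _ (Nat.mod_lt _ three_pos) h1
      have ha : a = a' := Fin.ext (by omega)
      subst ha
      have h3 : q ^ (b : ℕ) = q ^ (b' : ℕ) := mul_left_cancel e'
      rw [pow_eq_pow_iff_modEq, hqo, Nat.ModEq, Nat.mod_eq_of_lt b.2, Nat.mod_eq_of_lt b'.2] at h3
      rw [Fin.ext h3]
    obtain ⟨p, hp⟩ := ((Nat.bijective_iff_injective_and_card f).2 ⟨hf, by simp [hQc]⟩).2 ⟨g, hg⟩
    exact ⟨p.1, p.1.2, p.2, p.2.2, (congrArg Subtype.val hp).symm⟩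
  have hy2 : y ^ 2 = y⁻¹ := eq_inv_of_mul_eq_one_left (by rw [← pow_succ]; exact hy3)
  have hq2 : q ^ 2 = q⁻¹ := eq_inv_of_mul_eq_one_left (by rw [← pow_succ]; exact hQ3 hqQ)
  have hyq : Commute y q := hQy hqQ
  have hnine : ∀ g ∈ Q, g = 1 ∨ g = y ∨ g = y⁻¹ ∨ g = q ∨ g = q⁻¹ ∨ g = y * q ∨ g = y * q⁻¹ ∨
      g = y⁻¹ * q ∨ g = y⁻¹ * q⁻¹ := by
    intro g hg
    obtain ⟨i, hi, j, hj, rfl⟩ := hcoord g hg
    interval_cases i <;> interval_cases j <;> simp [hy2, hq2]
  -- a conjugate of `y` outside `⟨y⟩` determines the line of `q`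
  have hline : ∀ z ∈ Q, ¬ NoInvol z → z ≠ 1 → z ≠ y → z ≠ y⁻¹ →
      ∀ g ∈ Q, g ≠ 1 → NoInvol g → g = q ∨ g = q⁻¹ := by
    intro z hz hzn hz1 hzy hzy' g hg hg1 hgn
    have hconj : ∀ a b : G, Commute t a → t * b * t⁻¹ = b⁻¹ →
        t * (a * b) * t⁻¹ = a * b⁻¹ := fun a b ha hb => by
      calc t * (a * b) * t⁻¹ = (t * a * t⁻¹) * (t * b * t⁻¹) := by group
        _ = a * b⁻¹ := by rw [ha.eq, mul_inv_cancel_right, hb]
    have hqi' : t * q⁻¹ * t⁻¹ = q⁻¹⁻¹ := by rw [← conj_inv, hqi]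
    -- `y q^±` and `y⁻¹ q^±` behave alike
    have h12 : NoInvol (y * q) → NoInvol (y * q⁻¹) := fun hn => hconj y q hty hqi ▸ hn.conj t
    have h21 : NoInvol (y * q⁻¹) → NoInvol (y * q) := fun hn => by
      have := hn.conj t
      rwa [hconj y q⁻¹ hty hqi', inv_inv] at this
    have h14 : NoInvol (y * q) → NoInvol (y⁻¹ * q⁻¹) := fun hn => by
      have := hn.inv
      rwa [hyq.eq, mul_inv_rev] at this
    have h41 : NoInvol (y⁻¹ * q⁻¹) → NoInvol (y * q) := fun hn => by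
      have := hn.inv
      rwa [mul_inv_rev, inv_inv, inv_inv, ← hyq.eq] at this
    have h34 : NoInvol (y⁻¹ * q) → NoInvol (y⁻¹ * q⁻¹) := fun hn =>
      hconj y⁻¹ q hty.inv_right hqi ▸ hn.conj t
    have h43 : NoInvol (y⁻¹ * q⁻¹) → NoInvol (y⁻¹ * q) := fun hn => by
      have := hn.conj t
      rwa [hconj y⁻¹ q⁻¹ hty.inv_right hqi', inv_inv] at this
    have hno : ¬ NoInvol (y * q) := by
      intro hn
      rcases hnine z hz with rfl | rfl | rfl | rfl | rfl | rfl | rfl | rfl | rfl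
      · exact hz1 rfl
      · exact hzy rfl
      · exact hzy' rfl
      · exact hzn hqn
      · exact hzn hqn.inv
      · exact hzn hn
      · exact hzn (h12 hn)
      · exact hzn (h43 (h14 hn))
      · exact hzn (h14 hn)
    rcases hnine g hg with rfl | rfl | rfl | rfl | rfl | rfl | rfl | rfl | rfl
    · exact absurd rfl hg1
    · exact absurd hgn hyn
    · exact absurd (inv_inv y ▸ hgn.inv) hyn
    · exact Or.inl rfl
    · exact Or.inr rfl
    · exact absurd hgn hno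
    · exact absurd (h21 hgn) hno
    · exact absurd (h41 (h34 hgn)) hno
    · exact absurd (h41 hgn) hno
  -- `P = C(q)`
  obtain ⟨P, hP⟩ : ∃ P : Subgroup G, P = centralizer ({q} : Set G) := ⟨_, rfl⟩
  have hPc : ∀ {g : G}, g ∈ P ↔ Commute q g := by
    intro g; rw [hP]; exact Involutions.mem_centralizer_singleton
  have hP3 : ∀ {g : G}, g ∈ P → g ^ 3 = 1 := by
    intro g hg
    refine h.commute_odd hqo ?_ (hPc.1 hg)
    rw [← Nat.not_even_iff_odd]
    intro he
    obtain ⟨v, hv⟩ := exists_prime_orderOf_dvd_card' 2 (G := zpowers g) (by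
      rw [Nat.card_zpowers]; exact even_iff_two_dvd.1 he)
    obtain ⟨i, hi⟩ := mem_zpowers_iff.1 v.2
    exact hqn _ (by rwa [orderOf_coe]) (hi ▸ ((hPc.1 hg).zpow_right i).symm)
  have hQP : Q ≤ P := fun g hg => hPc.2 (hQcomm hqQ hg)
  have hyP : y ∈ P := hQP hyQ
  -- conjugates of `y` under `P`
  have hconjP : ∀ g ∈ P, ∃ j : ℤ, g * y * g⁻¹ = y * q ^ j := by
    intro g hg
    have h1 : Commute y (g * y * g⁻¹) := by
      have e1 : ∀ a ∈ P, a * y * a⁻¹ = y⁻¹ * (a⁻¹ * y⁻¹ * a) := by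
        intro a ha
        have e3 := hP3 (mul_mem hyP ha)
        rw [pow_succ, pow_succ, pow_one] at e3
        have e4 : a⁻¹ = a * a := inv_eq_of_mul_eq_one_right (by
          rw [← hP3 ha, pow_succ, pow_succ, pow_one, mul_assoc])
        have e5 : a * y * a = y⁻¹ * a⁻¹ * y⁻¹ := by
          calc a * y * a = y⁻¹ * (y * a * (y * a) * (y * a)) * a⁻¹ * y⁻¹ := by group
            _ = y⁻¹ * a⁻¹ * y⁻¹ := by rw [e3, mul_one]
        calc a * y * a⁻¹ = a * y * a * a := by rw [e4]; group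
          _ = _ := by rw [e5]; group
      have a1 := e1 g hg
      have a2 := e1 g⁻¹ (inv_mem hg)
      rw [inv_inv] at a2
      have a3 : g⁻¹ * y⁻¹ * g = g * y * g⁻¹ * y := by
        calc g⁻¹ * y⁻¹ * g = (g⁻¹ * y * g)⁻¹ := by group
          _ = (y⁻¹ * (g * y⁻¹ * g⁻¹))⁻¹ := by rw [a2]
          _ = _ := by group
      rw [a3] at a1
      show y * (g * y * g⁻¹) = g * y * g⁻¹ * y
      nth_rewrite 1 [a1]
      group
    have hmem : g * y * g⁻¹ ∈ Q := hQmem (by rw [conj_pow, hy3, mul_one, mul_inv_cancel]) h1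
    obtain ⟨i, hi, j, hj, e⟩ := hcoord _ hmem
    have hgq : Commute q g := hPc.1 hg
    interval_cases i
    · exfalso
      rw [pow_zero, one_mul] at e
      have e2 : y = q ^ j := by
        calc y = g⁻¹ * (g * y * g⁻¹) * g := by group
          _ = q ^ j := by rw [e, mul_assoc, (hgq.pow_left j).eq, inv_mul_cancel_left]
      exact absurd (hyz 1 (by norm_num) j hj (by rw [pow_one]; exact e2)) one_ne_zero
    · exact ⟨j, by rw [e, pow_one, zpow_natCast]⟩
    · exfalso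
      rw [hy2] at e
      have e2 : g * g * y * (g * g)⁻¹ = y := by
        calc g * g * y * (g * g)⁻¹ = g * (g * y * g⁻¹) * g⁻¹ := by group
          _ = g * (y⁻¹ * q ^ j) * g⁻¹ := by rw [e]
          _ = (g * y * g⁻¹)⁻¹ * (g * q ^ j * g⁻¹) := by group
          _ = (q ^ j)⁻¹ * y * q ^ j := by
              rw [e, (hgq.pow_left j).symm.eq, mul_inv_cancel_right, mul_inv_rev, inv_inv]
          _ = y := by rw [mul_assoc, (hyq.pow_right j).eq, inv_mul_cancel_left]
      have hc : Commute (g * g) y := mul_inv_eq_iff_eq_mul.1 e2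
      have hc2 : Commute g y := by
        have := hc.mul_left hc
        rwa [show g * g * (g * g) = g from by
          calc g * g * (g * g) = g ^ 3 * g := by rw [pow_succ, pow_succ, pow_one]; group
            _ = g := by rw [hP3 hg, one_mul]] at this
      rw [hc2.eq, mul_inv_cancel_right] at e
      have e6 : y ^ 2 = q ^ j := by rw [pow_two]; nth_rewrite 2 [e]; group
      exact absurd (hyz 2 (by norm_num) j hj e6) two_ne_zero
  -- fusion
  have hkey : ∀ g : G, g * y * g⁻¹ ∈ P →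
      Commute g y ∨ g * q * g⁻¹ = q ∨ g * q * g⁻¹ = q⁻¹ := by
    intro g hg
    by_cases hgy : Commute g y
    · exact Or.inl hgy
    right
    have hne : g * y * g⁻¹ ≠ y := fun e => hgy (mul_inv_eq_iff_eq_mul.1 e)
    obtain ⟨z, hzQ, hzn, hz1, hzy, hzy'⟩ :
        ∃ z ∈ Q, ¬ NoInvol z ∧ z ≠ 1 ∧ z ≠ y ∧ z ≠ y⁻¹ := by
      have hnn : ∀ a : G, ¬ NoInvol (a * y * a⁻¹) := fun a hn => hyn (by
        have := hn.conj a⁻¹
        rwa [show a⁻¹ * (a * y * a⁻¹) * a⁻¹⁻¹ = y by group] at this)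
      by_cases hc : Commute y (g * y * g⁻¹)
      · exact ⟨_, hQmem (by rw [conj_pow, hy3, mul_one, mul_inv_cancel]) hc, hnn g,
          fun e => hy1 (conj_eq_one_iff.1 e), hne, hyinv g⟩
      · obtain ⟨j, hj⟩ := hconjP _ hg
        refine ⟨g * y * g⁻¹ * y * (g * y * g⁻¹)⁻¹, hj ▸ mul_mem hyQ (zpow_mem hqQ j), hnn _,
          fun e => hy1 (conj_eq_one_iff.1 e), fun e => hc ?_, hyinv _⟩
        exact (mul_inv_eq_iff_eq_mul.1 e).symm
    have hq'Q : g⁻¹ * q * g ∈ Q := by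
      refine hQmem (by
        rw [show g⁻¹ * q * g = g⁻¹ * q * g⁻¹⁻¹ by rw [inv_inv], conj_pow, hQ3 hqQ, mul_one,
          mul_inv_cancel]) ?_
      have := ((hPc.1 hg).symm).map (MulAut.conj g⁻¹)
      rwa [MulAut.conj_apply, MulAut.conj_apply, show g⁻¹ * (g * y * g⁻¹) * g⁻¹⁻¹ = y by group,
        inv_inv] at this
    have hq'n : NoInvol (g⁻¹ * q * g) := by simpa using hqn.conj g⁻¹
    have hq'1 : g⁻¹ * q * g ≠ 1 := fun e => hq1 (by
      calc q = g * (g⁻¹ * q * g) * g⁻¹ := by group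
        _ = 1 := by rw [e, mul_one, mul_inv_cancel])
    rcases hline z hzQ hzn hz1 hzy hzy' _ hq'Q hq'1 hq'n with e | e
    · left
      calc g * q * g⁻¹ = g * (g⁻¹ * q * g) * g⁻¹ := by rw [e]
        _ = q := by group
    · right
      calc g * q * g⁻¹ = (g * q⁻¹ * g⁻¹)⁻¹ := by group
        _ = (g * (g⁻¹ * q * g) * g⁻¹)⁻¹ := by rw [e]
        _ = q⁻¹ := by group
  have hfus : ∀ g : G, g * y * g⁻¹ ∈ P → ∃ j : ℤ, g * y * g⁻¹ = y * q ^ j := by
    intro g hg
    rcases hkey g hg with hc | hc | hc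
    · exact ⟨0, by rw [hc.eq, mul_inv_cancel_right, zpow_zero, mul_one]⟩
    · exact hconjP g (hPc.2 (mul_inv_eq_iff_eq_mul.1 hc).symm)
    · have hgt : g * t ∈ P := hPc.2 (Commute.symm (mul_inv_eq_iff_eq_mul.1 (by
        calc g * t * q * (g * t)⁻¹ = g * (t * q * t⁻¹) * g⁻¹ := by group
          _ = (g * q * g⁻¹)⁻¹ := by rw [hqi]; group
          _ = q := by rw [hc, inv_inv])))
      obtain ⟨j, hj⟩ := hconjP _ hgt
      refine ⟨j, ?_⟩
      rw [← hj, show g * t * y * (g * t)⁻¹ = g * (t * y * t⁻¹) * g⁻¹ by group, hty.eq,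
        mul_inv_cancel_right]
  -- `P` is a Sylow `3`-subgroup
  have hPp : IsPGroup 3 P := fun g => ⟨1, Subtype.ext (by
    rw [Subgroup.coe_pow, pow_one, Subgroup.coe_one]; exact hP3 g.2)⟩
  obtain ⟨R, hR⟩ := hPp.exists_le_sylow
  have hPR : (R : Subgroup G) = P := by
    by_contra hne
    have hlt : P.subgroupOf (R : Subgroup G) < ⊤ := lt_top_iff_ne_top.2 fun e =>
      hne (le_antisymm (subgroupOf_eq_top.1 e) hR)
    haveI := R.isPGroup'.isNilpotent
    obtain ⟨⟨g, hgR⟩, hgN, hgP⟩ :=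
      SetLike.exists_of_lt (Group.normalizerCondition_of_isNilpotent _ hlt)
    have hgn : g * y * g⁻¹ ∈ P := by
      have := (mem_normalizer_iff.1 hgN ⟨y, hR hyP⟩).1 (mem_subgroupOf.2 hyP)
      exact mem_subgroupOf.1 this
    have hg3 : g ^ 3 = 1 := h.pow_r_of_mem R.isPGroup' hgR
    refine hgP (mem_subgroupOf.2 ?_)
    rcases hkey g hgn with hc | hc | hc
    · exact hQP (hQmem hg3 hc.symm)
    · exact hPc.2 (mul_inv_eq_iff_eq_mul.1 hc).symm
    · exfalso
      have : g ^ 3 * q * (g ^ 3)⁻¹ = q⁻¹ := by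
        calc g ^ 3 * q * (g ^ 3)⁻¹ = g * (g * (g * q * g⁻¹) * g⁻¹) * g⁻¹ := by
              rw [pow_succ, pow_succ, pow_one]; group
          _ = q⁻¹ := by
              rw [hc, show g * q⁻¹ * g⁻¹ = (g * q * g⁻¹)⁻¹ by group, hc, inv_inv, hc]
      rw [hg3, one_mul, inv_one, mul_one] at this
      exact hq1 (Involutions.eq_one_of_eq_inv_of_odd this (hodd3 (hQ3 hqQ)))
  -- the quotient by `⟨q⟩` is abelian
  let Z : Subgroup P := (zpowers q).subgroupOf P
  haveI : Z.Normal := ⟨fun a ha b => by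
    obtain ⟨i, hi⟩ := mem_zpowers_iff.1 (mem_subgroupOf.1 ha)
    refine mem_subgroupOf.2 (mem_zpowers_iff.2 ⟨i, ?_⟩)
    show q ^ i = (b : G) * a * (b : G)⁻¹
    rw [← hi, ((hPc.1 b.2).zpow_left i).symm.eq, mul_inv_cancel_right]⟩
  have hZc : Nat.card Z = 3 := by
    rw [Nat.card_congr (subgroupOfEquivOfLe (zpowers_le.2 (hQP hqQ))).toEquiv, Nat.card_zpowers,
      hqo]
  have hP27 : Nat.card P ≤ 27 := by
    let orb : P → {z : G // z ∈ zpowers q} := fun g =>
      ⟨y⁻¹ * ((g : G) * y * (g : G)⁻¹), by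
        obtain ⟨j, hj⟩ := hconjP g g.2
        rw [hj, inv_mul_cancel_left]; exact zpow_mem (mem_zpowers q) j⟩
    let rep : {z : G // z ∈ zpowers q} → P := Function.invFun orb
    have hrep : ∀ g : P, orb (rep (orb g)) = orb g := fun g => Function.invFun_eq ⟨g, rfl⟩
    let F : P → {z : G // z ∈ zpowers q} × Q := fun g => (orb g,
      ⟨((rep (orb g) : G))⁻¹ * g, hQmem (hP3 (mul_mem (inv_mem (rep (orb g)).2) g.2)) (by
        have e : (rep (orb g) : G) * y * (rep (orb g) : G)⁻¹ = (g : G) * y * (g : G)⁻¹ :=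
          mul_left_cancel (congrArg Subtype.val (hrep g))
        refine Commute.symm (mul_inv_eq_iff_eq_mul.1 ?_)
        calc (rep (orb g) : G)⁻¹ * g * y * ((rep (orb g) : G)⁻¹ * g)⁻¹
            = (rep (orb g) : G)⁻¹ * ((g : G) * y * (g : G)⁻¹) * rep (orb g) := by group
          _ = y := by rw [← e]; group)⟩)
    have hF : Function.Injective F := fun a b e => by
      have e1 := congrArg Prod.fst e
      have e2 := congrArg Subtype.val (congrArg Prod.snd e)
      simp only [F] at e1 e2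
      rw [e1] at e2
      exact Subtype.ext (mul_left_cancel e2)
    refine (Nat.card_le_card_of_injective F hF).trans ?_
    rw [Nat.card_prod, hQc, show Nat.card {z : G // z ∈ zpowers q} = 3 from
      (Nat.card_zpowers q).trans hqo]
  have hcommQ : ∀ a b : P ⧸ Z, a * b = b * a := by
    obtain ⟨k, hk⟩ := IsPGroup.iff_card.1 (hPp.to_quotient Z)
    have h9 : Nat.card (P ⧸ Z) ≤ 9 := by
      have := Z.card_eq_card_quotient_mul_card_subgroup
      rw [hZc] at this
      omega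
    have hk2 : k ≤ 2 := by
      by_contra hk3
      have := Nat.pow_le_pow_right (show 0 < 3 by norm_num) (show 3 ≤ k by omega)
      omega
    interval_cases k
    · haveI : Subsingleton (P ⧸ Z) := Finite.card_le_one_iff_subsingleton.1 (by rw [hk]; norm_num)
      exact fun a b => Subsingleton.elim _ _
    · haveI : IsCyclic (P ⧸ Z) := isCyclic_of_prime_card (p := 3) (by simpa using hk)
      exact fun a b => IsMulCommutative.is_comm.comm a b
    · exact IsPGroup.commutative_of_card_eq_prime_sq hk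
  letI : CommGroup (P ⧸ Z) := { (inferInstance : Group (P ⧸ Z)) with mul_comm := hcommQ }
  let ψ : P →* P ⧸ Z := QuotientGroup.mk' Z
  have hψy : ψ ⟨y, hyP⟩ ≠ 1 := by
    intro e
    rw [QuotientGroup.mk'_apply, QuotientGroup.eq_one_iff, mem_subgroupOf] at e
    rw [← mem_powers_iff_mem_zpowers, Submonoid.mem_powers_iff] at e
    obtain ⟨j, hj⟩ := e
    exact absurd (hyz 1 (by norm_num) (j % 3) (Nat.mod_lt _ three_pos)
      (by rw [pow_one, ← hqo, pow_mod_orderOf]; exact hj.symm)) one_ne_zero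
  -- transfer
  haveI := Fintype.ofFinite (G ⧸ P)
  have hT := CfsgLib.Transfer.transfer_eq_prod_fixedVal ψ y (fun k hk hkd g hg => by
    rw [hy] at hkd
    rcases (Nat.dvd_prime Nat.prime_three).1 hkd with e | e
    · omega
    · subst e
      rw [show (⟨g⁻¹ * y ^ 3 * g, hg⟩ : P) = 1 from Subtype.ext (by
        show g⁻¹ * y ^ 3 * g = 1
        rw [hy3, mul_one, inv_mul_cancel]), map_one])
  have hker : MonoidHom.transfer ψ y = 1 := by
    rcases IsSimpleGroup.eq_bot_or_eq_top_of_normal (MonoidHom.transfer ψ).ker inferInstance with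
      e | e
    · exfalso
      obtain ⟨a, b, hab⟩ := hncomm
      exact hab ((MonoidHom.ker_eq_bot_iff _).1 e (by rw [map_mul, map_mul, mul_comm]))
    · exact MonoidHom.mem_ker.1 (e ▸ mem_top y)
  have hval : ∀ q' : G ⧸ P, CfsgLib.Transfer.fixedVal ψ y q' =
      if y • q' = q' then ψ ⟨y, hyP⟩ else 1 := by
    intro q'
    split_ifs with hfix
    · obtain ⟨g, rfl⟩ := QuotientGroup.mk_surjective q'
      have hg := (CfsgLib.Transfer.mem_iff_smul_eq y g).2 hfix
      rw [CfsgLib.Transfer.fixedVal_of_mem ψ y hg, QuotientGroup.mk'_apply, QuotientGroup.mk'_apply,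
        QuotientGroup.eq, mem_subgroupOf]
      obtain ⟨j, hj⟩ := hfus g⁻¹ (by rw [inv_inv]; exact hg)
      rw [inv_inv] at hj
      refine mem_zpowers_iff.2 ⟨-j, ?_⟩
      show q ^ (-j) = (g⁻¹ * y * g)⁻¹ * y
      rw [hj, mul_inv_rev, zpow_neg, inv_mul_cancel_right]
    · exact CfsgLib.Transfer.fixedVal_of_ne ψ y hfix
  rw [hT, Finset.prod_congr rfl (fun q' _ => hval q'), Finset.prod_ite, Finset.prod_const,
    Finset.prod_const, one_pow, mul_one] at hker
  obtain ⟨n, hn⟩ : ∃ n, n = (Finset.univ.filter fun q' : G ⧸ P => y • q' = q').card := ⟨_, rfl⟩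
  rw [← hn] at hker
  have h3n : 3 ∣ n := by
    have hord : orderOf (ψ ⟨y, hyP⟩) = 3 := orderOf_eq_prime (by
      rw [← map_pow, show (⟨y, hyP⟩ : P) ^ 3 = 1 from Subtype.ext hy3, map_one]) hψy
    exact hord ▸ orderOf_dvd_of_pow_eq_one hker
  have hY : IsPGroup 3 (zpowers y) := IsPGroup.iff_card.2 ⟨1, by rw [Nat.card_zpowers, hy, pow_one]⟩
  have hmod := hY.card_modEq_card_fixedPoints (α := G ⧸ P)
  have hfix : Nat.card (fixedPoints (zpowers y) (G ⧸ P)) = n := by
    rw [hn, ← Fintype.card_subtype, ← Nat.card_eq_fintype_card]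
    refine Nat.card_congr (Equiv.subtypeEquivRight fun q' => ?_)
    rw [MulAction.mem_fixedPoints]
    refine ⟨fun hq => hq ⟨y, mem_zpowers y⟩, fun hq m => ?_⟩
    obtain ⟨i, hi⟩ := mem_zpowers_iff.1 m.2
    show (m : G) • q' = q'
    rw [← hi]
    exact MulAction.mem_stabilizer_iff.1 (zpow_mem (MulAction.mem_stabilizer_iff.2 hq) i)
  rw [hfix, ← index_eq_card, ← hPR] at hmod
  exact R.not_dvd_index (Nat.modEq_zero_iff_dvd.1 (hmod.trans (Nat.modEq_zero_iff_dvd.2 h3n)))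

end CfsgLib.Recog.TwoR.Rank3
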