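import Cfsg.Agent.Lib.Recog.TwoR.Rank3Frame
import Cfsg.Agent.Lib.Coprime.SchurZassenhaus

/-!
Rank at least three: when only the identity of `C(S)` fixes a second point, a Frobenius kernel `F`
of `A` gives the structure of the action on the points.
-/

set_option autoImplicit false
set_option linter.dupNamespace false
set_option linter.style.haveILetI false
set_option linter.unusedSectionVars false

namespace CfsgLib.Recog.TwoR.Rank3

open Subgroup MulAction CfsgLib.Involutions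

universe u

variable {G : Type u} [Group G]

/-- `F` is the set of semiregular elements and `C(S)` is free away from the base point. -/
structure Frob (r : ℕ) (S : Sylow 2 G) (F : Subgroup (AG S)) : Prop where
  card : Nat.card F + 1 = Nat.card (S : Subgroup G)
  semi : ∀ a ∈ F, Semi a
  mem : ∀ a : AG S, Semi a → a ∈ F
  free : ∀ x : Pt S, x ≠ pt₀ S → ∀ d ∈ centralizer ((S : Subgroup G) : Set G), d • x = x → d = 1

variable {r : ℕ} {S : Sylow 2 G} [Finite G]

/-- If `r` does not divide `|F|` then `C(S)` is free away from the base point. -/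
theorem Ctx.free_of_not_dvd (c : Ctx G r S) {F : Subgroup (AG S)} (hmem : ∀ a, Semi a → a ∈ F)
    (hndvd : ¬ r ∣ Nat.card F) (x : Pt S) (hx : x ≠ pt₀ S) (d : G)
    (hd : d ∈ centralizer ((S : Subgroup G) : Set G)) (hdx : d • x = x) : d = 1 := by
  by_contra hd1
  haveI : Fact r.Prime := ⟨c.h.prime⟩
  have hI := c.inX_of_two hx hd hdx
  obtain ⟨a, rfl⟩ := QuotientGroup.mk_surjective x
  obtain ⟨d', hd'⟩ : ∃ d', d' = a⁻¹ * d * a := ⟨_, rfl⟩
  have hd'N : d' ∈ Nr S := hd' ▸ SE.smul_mk_eq_iff.1 hdx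
  have hne : actR S ⟨d', hd'N⟩ ≠ 1 := by
    intro e
    have h1 : InX r (pt₀ S) d' := c.inX_pt₀.2 ⟨(actR_eq_one_iff _).1 e, by
      rw [hd', show a⁻¹ * d * a = a⁻¹ * d * a⁻¹⁻¹ by rw [inv_inv], conj_pow, hI.1, mul_one,
        mul_inv_cancel]⟩
    have h2 := h1.conj a
    rw [show a • pt₀ S = (a : Pt S) by rw [MulAction.Quotient.smul_mk, smul_eq_mul, mul_one],
      hd', show a * (a⁻¹ * d * a) * a⁻¹ = d by group] at h2
    exact hx (c.inX_unique h2 hI hd1)
  have hsemi : Semi (actR S ⟨d', hd'N⟩) := by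
    intro s hs hfix
    exfalso
    have hso := c.orderOf_mem s.2 fun e => hs (Subtype.ext e)
    have hc : Commute d (a * s * a⁻¹) := by
      have := (((actR_fix_iff _ _).1 hfix).symm.map (MulAut.conj a))
      rwa [MulAut.conj_apply, MulAut.conj_apply,
        show a * ((⟨d', hd'N⟩ : Nr S) : G) * a⁻¹ = d from by
          show a * d' * a⁻¹ = d
          rw [hd']; group] at this
    exact hx (SE.eq_of_fixed c.se (conj_invol a hso) (SE.smul_mk_eq_iff.2
      (by rw [show a⁻¹ * (a * s * a⁻¹) * a = s by group]; exact le_normalizer s.2))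
      (c.fixes_of_inX hI hd1 hc))
  have ho : orderOf (actR S ⟨d', hd'N⟩) = r := by
    refine orderOf_eq_prime ?_ hne
    rw [← map_pow, show (⟨d', hd'N⟩ : Nr S) ^ r = 1 from Subtype.ext (show d' ^ r = 1 by
      rw [hd', show a⁻¹ * d * a = a⁻¹ * d * a⁻¹⁻¹ by
        rw [inv_inv], conj_pow, hI.1, mul_one, mul_inv_cancel]), map_one]
  exact hndvd (ho ▸ Subgroup.orderOf_dvd_natCard F (hmem _ hsemi))

variable {F : Subgroup (AG S)}

/-- Every element of `F` is induced by an element of every two-point stabiliser. -/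
theorem Ctx.exists_inverted (c : Ctx G r S) (hF : Frob r S F) {x : Pt S} {v : G}
    (hx : x ≠ pt₀ S) (hv : orderOf v = 2) (hvx : v • pt₀ S = x) (f : AG S) (hf : f ∈ F) :
    ∃ m : Nr S, (m : G) • x = x ∧ v * m * v⁻¹ = (m : G)⁻¹ ∧ actR S m = f := by
  obtain ⟨φ, hinj, hφ⟩ := c.carrier_map hx hv hvx
  let ψ : {i : G // orderOf i = 2 ∧ i • pt₀ S = x} → F := fun i => ⟨φ i, hF.mem _ (hφ i).1⟩
  have hbij : Function.Bijective ψ := (Nat.bijective_iff_injective_and_card ψ).2
    ⟨fun i j e => hinj (congrArg Subtype.val e), by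
      have := c.card_carriers hx.symm
      have := hF.card
      omega⟩
  obtain ⟨i, hi⟩ := hbij.2 ⟨f, hf⟩
  obtain ⟨hm, e⟩ := (hφ i).2
  obtain ⟨-, h1, h2⟩ := c.carrier_prod i.2.1 hv i.2.2 hvx
  exact ⟨⟨_, hm⟩, h1, h2, e.symm.trans (congrArg Subtype.val hi)⟩

/-- An element of a two-point stabiliser inducing an element of `F` is inverted. -/
theorem Ctx.inverts (c : Ctx G r S) (hF : Frob r S F) {x : Pt S} {v : G} (hx : x ≠ pt₀ S)
    (hv : orderOf v = 2) (hvx : v • pt₀ S = x) (d : Nr S) (hdx : (d : G) • x = x)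
    (hdF : actR S d ∈ F) : v * d * v⁻¹ = (d : G)⁻¹ := by
  obtain ⟨m, hm1, hm2, hm3⟩ := c.exists_inverted hF hx hv hvx _ hdF
  have h1 : (m : G)⁻¹ * d ∈ centralizer ((S : Subgroup G) : Set G) :=
    (actR_eq_one_iff (m⁻¹ * d)).1 (by rw [map_mul, map_inv, inv_mul_eq_one, hm3])
  have h2 := hF.free x hx _ h1 (by rw [mul_smul, hdx, inv_smul_eq_iff, hm1])
  rw [← inv_mul_eq_one.1 h2, hm2]

/-- The centraliser of such an element fixes the base point. -/
theorem Ctx.centralizer_fixes (c : Ctx G r S) (hF : Frob r S F) {x : Pt S} (hx : x ≠ pt₀ S)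
    (d : Nr S) (hdx : (d : G) • x = x) (hdF : actR S d ∈ F) (hd1 : (d : G) ≠ 1) {g : G}
    (hg : Commute (d : G) g) : g • pt₀ S = pt₀ S := by
  by_contra hne
  have hd0 : (d : G) • pt₀ S = pt₀ S := mem_Nr_iff.2 d.2
  have hdP : (d : G) • g • pt₀ S = g • pt₀ S := by rw [← mul_smul, hg.eq, mul_smul, hd0]
  obtain ⟨w, hw, hw0, hw1⟩ := c.exists_carrier (fun e => hne e.symm)
  have hwd := c.inverts hF hne hw hw0 d hdP hdF
  have hh : w * g ∈ Nr S := mem_Nr_iff.1 (by rw [mul_smul, hw1])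
  have hconj : (⟨w * g, hh⟩ : Nr S) * d * (⟨w * g, hh⟩ : Nr S)⁻¹ = d⁻¹ := Subtype.ext (by
    show w * g * d * (w * g)⁻¹ = (d : G)⁻¹
    rw [show w * g * d * (w * g)⁻¹ = w * (g * d * g⁻¹) * w⁻¹ by group, hg.symm.eq,
      mul_inv_cancel_right, hwd])
  obtain ⟨a, ha⟩ : ∃ a, a = actR S ⟨w * g, hh⟩ := ⟨_, rfl⟩
  have hinv : a * actR S d * a⁻¹ = (actR S d)⁻¹ := by
    rw [ha, ← map_mul, ← map_inv, ← map_mul, hconj, map_inv]
  obtain ⟨l, hl⟩ := c.odd_orderOf_AG a
  have h1 := conj_pow_odd hinv l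
  rw [← hl, pow_orderOf_eq_one, one_mul, inv_one, mul_one] at h1
  have h2 := eq_one_of_eq_inv_of_odd h1 (c.odd_orderOf_AG _)
  exact hd1 (hF.free x hx _ ((actR_eq_one_iff d).1 h2) hdx)

/-- Such an element fixes exactly two points. -/
theorem Ctx.eq_of_fix (c : Ctx G r S) (hF : Frob r S F) {x e : Pt S} (hx : x ≠ pt₀ S)
    (he : e ≠ pt₀ S) (d : Nr S) (hdx : (d : G) • x = x) (hde : (d : G) • e = e)
    (hdF : actR S d ∈ F) (hd1 : (d : G) ≠ 1) : e = x := by
  obtain ⟨v, hv, hv0, hv1⟩ := c.exists_carrier hx.symm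
  obtain ⟨w, hw, hw0, hw1⟩ := c.exists_carrier he.symm
  have h1 := c.inverts hF hx hv hv0 d hdx hdF
  have h2 := c.inverts hF he hw hw0 d hde hdF
  have hc : Commute (d : G) (v * w) := by
    refine Commute.symm ?_
    show v * w * (d : G) = d * (v * w)
    calc v * w * (d : G) = v * (w * d * w⁻¹) * w := by group
      _ = (v * d * v⁻¹)⁻¹ * (v * w) := by rw [h2]; group
      _ = _ := by rw [h1, inv_inv]
  have := c.centralizer_fixes hF hx d hdx hdF hd1 hc
  rw [mul_smul, hw0] at this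
  calc e = v • v • e := by rw [← mul_smul, invol_mul_self hv, one_smul]
    _ = v • pt₀ S := by rw [this]
    _ = x := hv0

/-- `C(S)` is transitive on the points other than the base point. -/
theorem Ctx.transitive (c : Ctx G r S) (hF : Frob r S F)
    (hco : ∀ f ∈ F, (Nat.card (centralizer ((S : Subgroup G) : Set G))).Coprime (orderOf f))
    {x e : Pt S} (hx : x ≠ pt₀ S) (he : e ≠ pt₀ S) :
    ∃ s ∈ centralizer ((S : Subgroup G) : Set G), s • x = e := by
  obtain ⟨C, hC⟩ : ∃ C, C = centralizer ((S : Subgroup G) : Set G) := ⟨_, rfl⟩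
  obtain ⟨v, hv, hv0, -⟩ := c.exists_carrier hx.symm
  obtain ⟨w, hw, hw0, -⟩ := c.exists_carrier he.symm
  obtain ⟨f, hf, hf1⟩ : ∃ f ∈ F, f ≠ 1 := by
    haveI : Nontrivial F := Finite.one_lt_card_iff_nontrivial.1 (by
      have := hF.card; have := c.h8; omega)
    obtain ⟨⟨f, hf⟩, hne⟩ := exists_ne (1 : F)
    exact ⟨f, hf, fun e => hne (Subtype.ext e)⟩
  obtain ⟨a, hax, -, haf⟩ := c.exists_inverted hF hx hv hv0 f hf
  obtain ⟨b, hbe, -, hbf⟩ := c.exists_inverted hF he hw hw0 f hf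
  have hord : ∀ {z : Pt S} (d : Nr S), z ≠ pt₀ S → (d : G) • z = z → actR S d = f →
      orderOf (d : G) = orderOf f := by
    intro z d hz hdz hdf
    refine Nat.dvd_antisymm (orderOf_dvd_of_pow_eq_one ?_) ?_
    · refine hF.free z hz _ ((actR_eq_one_iff (d ^ orderOf f)).1 (by
        rw [map_pow, hdf, pow_orderOf_eq_one])) ?_
      exact MulAction.mem_stabilizer_iff.1 (pow_mem (MulAction.mem_stabilizer_iff.2 hdz) _)
    · rw [orderOf_coe, ← hdf]; exact orderOf_map_dvd _ d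
  have hN : ∀ d : Nr S, zpowers (d : G) ≤ normalizer (C : Set G) := fun d => by
    rw [zpowers_le, hC]
    exact Coprime.le_normalizer_centralizer (A := Nr S) (B := (S : Subgroup G)) le_rfl d.2
  have hle : zpowers (b : G) ≤ C ⊔ zpowers (a : G) := by
    rw [zpowers_le, show (b : G) = (b * (a : G)⁻¹) * a by group]
    refine mul_mem (mem_sup_left ?_) (mem_sup_right (mem_zpowers _))
    rw [hC]
    exact (actR_eq_one_iff (b * a⁻¹)).1 (by rw [map_mul, map_inv, hbf, haf, mul_inv_cancel])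
  obtain ⟨s, hs, hsz⟩ := Coprime.sz_conj_rel (hN a) (hN b)
    (by rw [Nat.card_zpowers, hord a hx hax haf, hC]; exact hco f hf)
    (by rw [Nat.card_zpowers, Nat.card_zpowers, hord a hx hax haf, hord b he hbe hbf]) hle
    (Or.inr (Group.isSolvable_of_comm fun u v => mul_comm' u v))
  have hmem : s * (a : G) * s⁻¹ ∈ zpowers (b : G) := by
    rw [← hsz]; exact Subgroup.smul_mem_pointwise_smul _ (MulAut.conj s) _ (mem_zpowers _)
  obtain ⟨j, hj⟩ := mem_zpowers_iff.1 hmem
  rw [hC] at hs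
  refine ⟨s, hs, ?_⟩
  have hfx : ((b ^ j : Nr S) : G) • s • x = s • x := by
    rw [Subgroup.coe_zpow, hj, mul_smul, mul_smul, inv_smul_smul, hax]
  have hfe : ((b ^ j : Nr S) : G) • e = e :=
    MulAction.mem_stabilizer_iff.1 (by
      rw [Subgroup.coe_zpow]; exact zpow_mem (MulAction.mem_stabilizer_iff.2 hbe) j)
  have hne : ((b ^ j : Nr S) : G) ≠ 1 := by
    rw [Subgroup.coe_zpow, hj, ne_eq, conj_eq_one_iff]
    intro h1
    exact hf1 (by rw [← haf, show a = 1 from Subtype.ext h1, map_one])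
  have hs0 : s • x ≠ pt₀ S := by
    intro e'
    exact hx (smul_left_cancel s
      (e'.trans (mem_Nr_iff.2 (centralizer_le_normalizer _ hs)).symm))
  exact c.eq_of_fix hF he hs0 (b ^ j) hfe hfx
    (by rw [map_zpow, hbf]; exact zpow_mem hf j) hne

/-- The number of points. -/
theorem Ctx.card_points (c : Ctx G r S) (hF : Frob r S F)
    (hco : ∀ f ∈ F, (Nat.card (centralizer ((S : Subgroup G) : Set G))).Coprime (orderOf f)) :
    Nat.card (Pt S) = Nat.card (centralizer ((S : Subgroup G) : Set G)) + 1 := by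
  classical
  obtain ⟨u, huN, -⟩ := SE.exists_invol_not_mem c.se
  have hx : u • pt₀ S ≠ pt₀ S := fun e => huN (mem_Nr_iff.1 e)
  obtain ⟨x, hxdef⟩ : ∃ x, x = u • pt₀ S := ⟨_, rfl⟩
  rw [← hxdef] at hx
  have h0 : ∀ s ∈ centralizer ((S : Subgroup G) : Set G), s • pt₀ S = pt₀ S := fun s hs =>
    mem_Nr_iff.2 (centralizer_le_normalizer _ hs)
  have e : ↥(centralizer ((S : Subgroup G) : Set G)) ≃ {P : Pt S // P ≠ pt₀ S} :=
    Equiv.ofBijective (fun s => ⟨(s : G) • x, fun e => hx (smul_left_cancel (s : G)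
      (e.trans (h0 _ s.2).symm))⟩) ⟨fun a b e => by
        have h1 : (a : G) • x = (b : G) • x := congrArg Subtype.val e
        have := hF.free x hx _ (mul_mem (inv_mem a.2) b.2)
          (by rw [mul_smul, ← h1, inv_smul_smul])
        exact Subtype.ext (inv_mul_eq_one.1 this), fun P => by
        obtain ⟨s, hs, e⟩ := c.transitive hF hco hx P.2
        exact ⟨⟨s, hs⟩, Subtype.ext e⟩⟩
  rw [Nat.card_congr e, ← Nat.card_congr (Equiv.optionSubtypeNe (pt₀ S)), Finite.card_option]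

end CfsgLib.Recog.TwoR.Rank3
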