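import Cfsg.Agent.Lib.Recog.TwoR.Rank3Frame

/-!
Rank at least three: if `A` has prime order `r`, no nontrivial element of `C(S)` fixes a second
point.
-/

set_option autoImplicit false
set_option linter.dupNamespace false
set_option linter.style.haveILetI false
set_option linter.unusedSectionVars false

namespace CfsgLib.Recog.TwoR.Rank3

open Subgroup MulAction CfsgLib.Involutions

universe u

variable {G : Type u} [Group G]

/-- The stabiliser of the base point and one more point. -/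
abbrev D2 {S : Sylow 2 G} (x : Pt S) : Subgroup G :=
  stabilizer G (pt₀ S) ⊓ stabilizer G x

variable {r : ℕ} {S : Sylow 2 G}

theorem mem_D2 {x : Pt S} {d : G} : d ∈ D2 x ↔ d • pt₀ S = pt₀ S ∧ d • x = x := by
  rw [Subgroup.mem_inf, MulAction.mem_stabilizer_iff, MulAction.mem_stabilizer_iff]

variable [Finite G]

/-- Conjugation by `v` carries the elements of `C(S)` in a pair stabiliser out of `C(S)`. -/
theorem Ctx.not_mem_of_swap (c : Ctx G r S) {x : Pt S} {v y : G} (hx : x ≠ pt₀ S)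
    (hv : orderOf v = 2) (hv0 : v • pt₀ S = x) (hv1 : v • x = pt₀ S)
    (hy : y ∈ centralizer ((S : Subgroup G) : Set G)) (hyx : y • x = x)
    (h : v * y * v⁻¹ ∈ centralizer ((S : Subgroup G) : Set G)) : y = 1 := by
  by_contra hy1
  have hy0 : y • pt₀ S = pt₀ S := mem_Nr_iff.2 (centralizer_le_normalizer _ hy)
  have h1 := c.inX_of_two hx hy hyx
  have h2 : InX r (pt₀ S) (v * y * v⁻¹) := c.inX_of_two hx h (by
    rw [mul_smul, mul_smul, invol_inv hv, hv1, hy0, hv0])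
  have h3 := h2.conj v
  rw [hv0, show v * (v * y * v⁻¹) * v⁻¹ = v * v * y * (v * v)⁻¹ by group, invol_mul_self hv,
    one_mul, inv_one, mul_one] at h3
  exact hx (c.inX_unique h3 h1 hy1)

/-- The structure of a pair stabiliser containing a nontrivial element of `C(S)`. -/
theorem Ctx.pair_struct (c : Ctx G r S) (hA : Nat.card (AG S) = r) {x : Pt S} (hx : x ≠ pt₀ S)
    {v y : G} (hv : orderOf v = 2) (hv0 : v • pt₀ S = x) (hv1 : v • x = pt₀ S)
    (hy : y ∈ centralizer ((S : Subgroup G) : Set G)) (hy1 : y ≠ 1) (hyx : y • x = x) :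
    Nat.card (D2 x) = r * r ∧
      (∀ g ∈ D2 x, g ∈ centralizer ((S : Subgroup G) : Set G) → g ∈ zpowers y) ∧
      Commute y (v * y * v⁻¹) ∧ v * y * v⁻¹ ∉ centralizer ((S : Subgroup G) : Set G) ∧
      D2 x ≤ zpowers y ⊔ zpowers (v * y * v⁻¹) := by
  haveI : Fact r.Prime := ⟨c.h.prime⟩
  have hy0 : y • pt₀ S = pt₀ S := mem_Nr_iff.2 (centralizer_le_normalizer _ hy)
  have hswap : ∀ g ∈ D2 x, v * g * v⁻¹ ∈ D2 x := by
    intro g hg
    rw [mem_D2] at hg ⊢
    constructor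
    · rw [mul_smul, mul_smul, invol_inv hv, hv0, hg.2, hv1]
    · rw [mul_smul, mul_smul, invol_inv hv, hv1, hg.1, hv0]
  have hzn : v * y * v⁻¹ ∉ centralizer ((S : Subgroup G) : Set G) := fun h =>
    hy1 (c.not_mem_of_swap hx hv hv0 hv1 hy hyx h)
  have hyo : orderOf y = r := orderOf_eq_prime (c.inX_of_two hx hy hyx).1 hy1
  obtain ⟨z, hz⟩ : ∃ z, z = v * y * v⁻¹ := ⟨_, rfl⟩
  rw [← hz] at hzn ⊢
  have hyD : y ∈ D2 x := mem_D2.2 ⟨hy0, hyx⟩
  have hzD : z ∈ D2 x := hz ▸ hswap y hyD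
  have hDN : ∀ g ∈ D2 x, g ∈ Nr S := fun g hg => mem_Nr_iff.1 (mem_D2.1 hg).1
  let f : D2 x →* AG S := (actR S).comp (Subgroup.inclusion hDN)
  have hker : ∀ g : D2 x, g ∈ f.ker ↔ (g : G) ∈ centralizer ((S : Subgroup G) : Set G) :=
    fun g => actR_eq_one_iff _
  have hinj : Function.Injective fun g : f.ker =>
      f ⟨v * ((g : D2 x) : G) * v⁻¹, hswap _ (g : D2 x).2⟩ := by
    intro a b e
    have h1 : f (⟨v * ((a : D2 x) : G) * v⁻¹, hswap _ (a : D2 x).2⟩⁻¹ *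
        ⟨v * ((b : D2 x) : G) * v⁻¹, hswap _ (b : D2 x).2⟩) = 1 := by
      rw [map_mul, map_inv, inv_mul_eq_one]; exact e
    have h2 := (hker _).1 h1
    have h3 : (((a⁻¹ * b : f.ker) : D2 x) : G) = 1 := by
      refine c.not_mem_of_swap hx hv hv0 hv1 ((hker _).1 (a⁻¹ * b).2)
        (mem_D2.1 ((a⁻¹ * b : f.ker) : D2 x).2).2 ?_
      convert h2 using 1
      simp only [Subgroup.coe_mul, Subgroup.coe_inv, mul_inv_rev, inv_inv, mul_assoc,
        inv_mul_cancel_left]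
    exact inv_mul_eq_one.1 (Subtype.ext (Subtype.ext h3))
  have hk1 : Nat.card f.ker ≤ r := hA ▸ Nat.card_le_card_of_injective _ hinj
  have hyk : (⟨y, hyD⟩ : D2 x) ∈ f.ker := (hker _).2 hy
  have hzo : orderOf (⟨y, hyD⟩ : D2 x) = r := by rw [← orderOf_coe]; exact hyo
  have hkeq : zpowers (⟨y, hyD⟩ : D2 x) = f.ker :=
    Subgroup.eq_of_le_of_card_ge (zpowers_le.2 hyk) (by rw [Nat.card_zpowers, hzo]; exact hk1)
  have hfz : f ⟨z, hzD⟩ ≠ 1 := fun e => hzn ((hker _).1 e)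
  have hgen : ∀ a : AG S, a ∈ zpowers (f ⟨z, hzD⟩) := fun a => mem_zpowers_of_prime_card hA hfz
  have hrange : Nat.card f.range = r := by
    rw [show f.range = ⊤ from eq_top_iff.2 fun a _ => ?_, card_top, hA]
    obtain ⟨i, hi⟩ := mem_zpowers_iff.1 (hgen a)
    exact ⟨_, (map_zpow f _ i).trans hi⟩
  have hcard : Nat.card (D2 x) = r * r := by
    rw [← f.ker.card_mul_index, index_ker, hrange, ← hkeq, Nat.card_zpowers, hzo]
  have hK : ∀ g ∈ D2 x, g ∈ centralizer ((S : Subgroup G) : Set G) → g ∈ zpowers y := by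
    intro g hg hgC
    have h1 : (⟨g, hg⟩ : D2 x) ∈ zpowers (⟨y, hyD⟩ : D2 x) := hkeq ▸ (hker ⟨g, hg⟩).2 hgC
    obtain ⟨i, hi⟩ := mem_zpowers_iff.1 h1
    exact mem_zpowers_iff.2 ⟨i, congrArg Subtype.val hi⟩
  have hconjC : ∀ {g a : G}, g ∈ Nr S → a ∈ centralizer ((S : Subgroup G) : Set G) →
      g * a * g⁻¹ ∈ centralizer ((S : Subgroup G) : Set G) := by
    intro g a hg ha
    refine mem_centralizer_iff.2 fun s hs => ?_
    have h1 := mem_centralizer_iff.1 ha (g⁻¹ * s * g)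
      (by have e := (mem_normalizer_iff.1 (inv_mem hg) s).1 hs; rwa [inv_inv] at e)
    calc s * (g * a * g⁻¹) = g * ((g⁻¹ * s * g) * a) * g⁻¹ := by group
      _ = g * (a * (g⁻¹ * s * g)) * g⁻¹ := by rw [h1]
      _ = g * a * g⁻¹ * s := by group
  have hcomm : Commute y z := by
    obtain ⟨w, hw⟩ : ∃ w, w = y * z * y⁻¹ * z⁻¹ := ⟨_, rfl⟩
    have hwD : w ∈ D2 x := by
      rw [hw]; exact mul_mem (mul_mem (mul_mem hyD hzD) (inv_mem hyD)) (inv_mem hzD)
    have hwC : w ∈ centralizer ((S : Subgroup G) : Set G) := by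
      rw [hw, show y * z * y⁻¹ * z⁻¹ = y * (z * y⁻¹ * z⁻¹) by group]
      exact mul_mem hy (hconjC (hDN _ hzD) (inv_mem hy))
    have hzz : v * z * v⁻¹ = y := by
      rw [hz, show v * (v * y * v⁻¹) * v⁻¹ = v * v * y * (v * v)⁻¹ by group, invol_mul_self hv,
        one_mul, inv_one, mul_one]
    have hvw : v * w * v⁻¹ ∈ centralizer ((S : Subgroup G) : Set G) := by
      have h1 : v * w * v⁻¹ = z * y * z⁻¹ * y⁻¹ := by
        calc v * w * v⁻¹ = (v * y * v⁻¹) * (v * z * v⁻¹) * (v * y * v⁻¹)⁻¹ * (v * z * v⁻¹)⁻¹ := by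
              rw [hw]; group
          _ = _ := by rw [hzz, ← hz]
      rw [h1]
      exact mul_mem (hconjC (hDN _ hzD) hy) (inv_mem hy)
    have h2 := c.not_mem_of_swap hx hv hv0 hv1 hwC (mem_D2.1 hwD).2 hvw
    rw [hw] at h2
    exact mul_inv_eq_iff_eq_mul.1 (mul_inv_eq_one.1 h2)
  refine ⟨hcard, hK, hcomm, hzn, fun g hg => ?_⟩
  obtain ⟨i, hi⟩ := mem_zpowers_iff.1 (hgen (f ⟨g, hg⟩))
  have h1 : (⟨g, hg⟩ : D2 x) * (⟨z, hzD⟩ ^ i)⁻¹ ∈ f.ker := by
    rw [MonoidHom.mem_ker, map_mul, map_inv, map_zpow, hi, mul_inv_cancel]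
  have h2 : g * (z ^ i)⁻¹ ∈ zpowers y :=
    hK _ (mul_mem hg (inv_mem (zpow_mem hzD i))) (by simpa using (hker _).1 h1)
  have := mul_mem (mem_sup_left (T := zpowers z) h2) (mem_sup_right (zpow_mem (mem_zpowers z) i))
  rwa [inv_mul_cancel_right] at this

/-- If `A` has order `r`, only the identity of `C(S)` fixes a second point. -/
theorem Ctx.pair_false (c : Ctx G r S) (hA : Nat.card (AG S) = r) (hsemi : ∀ a : AG S, Semi a)
    {x : Pt S} (hx : x ≠ pt₀ S) {y : G} (hy : y ∈ centralizer ((S : Subgroup G) : Set G))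
    (hyx : y • x = x) : y = 1 := by
  by_contra hy1
  haveI : Fact r.Prime := ⟨c.h.prime⟩
  have hy0 : y • pt₀ S = pt₀ S := mem_Nr_iff.2 (centralizer_le_normalizer _ hy)
  obtain ⟨v, hv, hv0, hv1⟩ := c.exists_carrier hx.symm
  obtain ⟨hcard, hK, hcomm, hzn, hgen⟩ := c.pair_struct hA hx hv hv0 hv1 hy hy1 hyx
  obtain ⟨z, hz⟩ : ∃ z, z = v * y * v⁻¹ := ⟨_, rfl⟩
  rw [← hz] at hcomm hzn hgen
  have hIy := c.inX_of_two hx hy hyx
  have hIz : InX r x z := by
    have := hIy.conj v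
    rwa [hv0, ← hz] at this
  have hz1 : z ≠ 1 := fun e => hzn (e ▸ one_mem _)
  have hz0 : z • pt₀ S = pt₀ S := by
    rw [hz, mul_smul, mul_smul, invol_inv hv, hv0, hyx, hv1]
  have hzx : z • x = x := by rw [hz, mul_smul, mul_smul, invol_inv hv, hv1, hy0, hv0]
  have hyD : y ∈ D2 x := mem_D2.2 ⟨hy0, hyx⟩
  have hzD : z ∈ D2 x := mem_D2.2 ⟨hz0, hzx⟩
  -- the product `d = y * z` is fixed by `v`
  obtain ⟨d, hd⟩ : ∃ d, d = y * z := ⟨_, rfl⟩
  have hd1 : d ≠ 1 := by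
    intro e
    apply hzn
    rw [hd, mul_eq_one_iff_inv_eq] at e
    exact e ▸ inv_mem hy
  have hdv : Commute v d := by
    show v * d = d * v
    calc v * d = (v * y * v⁻¹) * (v * z * v⁻¹) * v := by rw [hd]; group
      _ = z * (v * v * y * (v * v)⁻¹) * v := by rw [hz]; group
      _ = d * v := by rw [invol_mul_self hv, one_mul, inv_one, mul_one, hd, hcomm.eq]
  obtain ⟨e, he⟩ := SE.exists_fixed c.se hv
  have he0 : e ≠ pt₀ S := fun h => hx (by rw [← hv0, ← h, he])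
  have hde : d • e = e := c.fixes_of_commute hv hdv he
  have hId : InX r e d := by
    obtain ⟨a, ha⟩ := QuotientGroup.mk_surjective e
    obtain ⟨d', hd'⟩ : ∃ d', d' = a⁻¹ * d * a := ⟨_, rfl⟩
    have hd'N : d' ∈ Nr S := hd' ▸ SE.smul_mk_eq_iff.1 (ha ▸ hde)
    have hv'S := c.invol_mem (SE.smul_mk_eq_iff.1 (ha ▸ he))
      (by simpa [hv] using orderOf_conj_eq a⁻¹ v)
    have hc' : Commute (a⁻¹ * v * a) d' := by
      rw [hd']
      show a⁻¹ * v * a * (a⁻¹ * d * a) = a⁻¹ * d * a * (a⁻¹ * v * a)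
      calc a⁻¹ * v * a * (a⁻¹ * d * a) = a⁻¹ * (v * d) * a := by group
        _ = a⁻¹ * (d * v) * a := by rw [hdv.eq]
        _ = _ := by group
    have h1 : actR S ⟨d', hd'N⟩ = 1 := hsemi _ ⟨a⁻¹ * v * a, hv'S⟩
      (fun e' => invol_ne_one hv (by
        have h2 : a⁻¹ * v * a = 1 := congrArg Subtype.val e'
        calc v = a * (a⁻¹ * v * a) * a⁻¹ := by group
          _ = 1 := by rw [h2, mul_one, mul_inv_cancel]))
      ((actR_fix_iff _ _).2 hc')
    have hdr : d ^ r = 1 := by rw [hd, hcomm.mul_pow, hIy.1, hIz.1, one_mul]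
    have h2 : InX r (pt₀ S) d' := c.inX_pt₀.2 ⟨(actR_eq_one_iff _).1 h1, by
      rw [hd', show a⁻¹ * d * a = a⁻¹ * d * a⁻¹⁻¹ by rw [inv_inv], conj_pow, hdr, mul_one,
        mul_inv_cancel]⟩
    have h3 := h2.conj a
    rwa [show a • pt₀ S = (a : Pt S) by rw [MulAction.Quotient.smul_mk, smul_eq_mul, mul_one], ha,
      hd', show a * (a⁻¹ * d * a) * a⁻¹ = d by group] at h3
  have hye : y • e = e := c.fixes_of_inX hId hd1 (by
    rw [hd]; exact (Commute.refl y).mul_left hcomm.symm)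
  have hze : z • e = e := c.fixes_of_inX hId hd1 (by
    rw [hd]; exact hcomm.mul_left (Commute.refl z))
  -- the pair stabiliser is the same for every point fixed by it
  have hsame : ∀ P : Pt S, P ≠ pt₀ S → y • P = P → z • P = P → D2 P = D2 x := by
    intro P hP hyP hzP
    obtain ⟨w, hw, hw0, hw1⟩ := c.exists_carrier hP.symm
    obtain ⟨hc', -⟩ := c.pair_struct hA hP hw hw0 hw1 hy hy1 hyP
    refine (Subgroup.eq_of_le_of_card_ge ?_ (by rw [hcard, hc'])).symm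
    exact hgen.trans (sup_le (zpowers_le.2 (mem_D2.2 ⟨hy0, hyP⟩))
      (zpowers_le.2 (mem_D2.2 ⟨hz0, hzP⟩)))
  -- the normaliser of `D2 x` in `N(S)` is `D2 x`
  have hNM : ∀ h ∈ Nr S, (∀ g ∈ D2 x, h * g * h⁻¹ ∈ D2 x) → h ∈ D2 x := by
    intro h hh hn
    have hzN : z ∈ Nr S := mem_Nr_iff.1 hz0
    obtain ⟨j, hj⟩ := mem_zpowers_iff.1 (mem_zpowers_of_prime_card (g' := actR S ⟨h, hh⟩) hA
      (g := actR S ⟨z, hzN⟩) (fun e' => hzn ((actR_eq_one_iff _).1 e')))
    obtain ⟨k, hk⟩ : ∃ k, k = (z ^ j)⁻¹ * h := ⟨_, rfl⟩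
    have hzjD : z ^ j ∈ D2 x := zpow_mem hzD j
    have hkN : k ∈ Nr S := hk ▸ mul_mem (inv_mem (zpow_mem hzN j)) hh
    have hkC : k ∈ centralizer ((S : Subgroup G) : Set G) := by
      have h1 : actR S ((⟨z, hzN⟩ ^ j)⁻¹ * ⟨h, hh⟩) = 1 := by
        rw [map_mul, map_inv, map_zpow, hj, inv_mul_cancel]
      have h2 := (actR_eq_one_iff _).1 h1
      simpa [hk] using h2
    have hkn : ∀ g ∈ D2 x, k * g * k⁻¹ ∈ D2 x := by
      intro g hg
      rw [hk, show (z ^ j)⁻¹ * h * g * ((z ^ j)⁻¹ * h)⁻¹ = (z ^ j)⁻¹ * (h * g * h⁻¹) * z ^ j by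
        group]
      exact mul_mem (mul_mem (inv_mem hzjD) (hn g hg)) hzjD
    suffices hkD : k ∈ D2 x by
      rw [show h = z ^ j * k by rw [hk, mul_inv_cancel_left]]
      exact mul_mem hzjD hkD
    have hky : k * y * k⁻¹ ∈ zpowers y :=
      hK _ (hkn y hyD) (mul_mem (mul_mem hkC hy) (inv_mem hkC))
    have hkz : k * z * k⁻¹ * z⁻¹ ∈ zpowers y := by
      refine hK _ (mul_mem (hkn z hzD) (inv_mem hzD)) ?_
      rw [show k * z * k⁻¹ * z⁻¹ = k * (z * k⁻¹ * z⁻¹) by group]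
      refine mul_mem hkC (mem_centralizer_iff.2 fun s hs => ?_)
      have h1 := mem_centralizer_iff.1 (inv_mem hkC) (z⁻¹ * s * z)
        (by have e := (mem_normalizer_iff.1 (inv_mem hzN) s).1 hs; rwa [inv_inv] at e)
      calc s * (z * k⁻¹ * z⁻¹) = z * ((z⁻¹ * s * z) * k⁻¹) * z⁻¹ := by group
        _ = z * (k⁻¹ * (z⁻¹ * s * z)) * z⁻¹ := by rw [h1]
        _ = _ := by group
    obtain ⟨t, htS, ht⟩ := c.exists_invol
    -- `k` has no component in `S`
    have hkr : k ^ r = 1 := by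
      have h2r : k ^ (2 * r) = 1 := c.h.pow_two_r' ht (mem_centralizer_iff.1 hkC t htS)
      have hs2 : (k ^ r) * (k ^ r) = 1 := by rw [← pow_add, ← two_mul]; exact h2r
      by_contra hs1
      have hso : orderOf (k ^ r) = 2 := invol_iff.2 ⟨hs2, hs1⟩
      have hsS := c.invol_mem (pow_mem hkN r) hso
      have hsy : Commute (k ^ r) y := mem_centralizer_iff.1 hy _ hsS
      obtain ⟨s, hs⟩ : ∃ s, s = k ^ r := ⟨_, rfl⟩
      rw [← hs] at hso hsS hsy
      -- `s` commutes with `z`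
      have hsz : s * z * s⁻¹ * z⁻¹ ∈ zpowers y := by
        refine hK _ (mul_mem ?_ (inv_mem hzD)) ?_
        · have hall : ∀ n : ℕ, k ^ n * z * (k ^ n)⁻¹ ∈ D2 x := by
            intro n
            induction n with
            | zero => simpa using hzD
            | succ n ih =>
              rw [pow_succ', show k * k ^ n * z * (k * k ^ n)⁻¹ = k * (k ^ n * z * (k ^ n)⁻¹) * k⁻¹
                by group]
              exact hkn _ ih
          exact hs ▸ hall r
        · rw [show s * z * s⁻¹ * z⁻¹ = s * (z * s⁻¹ * z⁻¹) by group]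
          exact mul_mem (hs ▸ pow_mem hkC r) (mem_centralizer_iff.2 fun a ha => (c.comm ha
            ((mem_normalizer_iff.1 hzN _).1 (inv_mem hsS))).eq)
      obtain ⟨i, hi⟩ := mem_zpowers_iff.1 hsz
      have hsi : Commute s (y ^ i) := hsy.zpow_right i
      have h3 : y ^ i * y ^ i = 1 := by
        have h4 : s * z * s⁻¹ = y ^ i * z := by rw [hi]; group
        have h5 : z = y ^ i * (y ^ i * z) := by
          calc z = (s * s) * z * (s * s)⁻¹ := by rw [invol_mul_self hso]; group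
            _ = s * (s * z * s⁻¹) * s⁻¹ := by group
            _ = s * (y ^ i * z) * s⁻¹ := by rw [h4]
            _ = (s * y ^ i * s⁻¹) * (s * z * s⁻¹) := by group
            _ = _ := by rw [h4, hsi.eq, mul_inv_cancel_right]
        rw [← mul_assoc] at h5
        exact (mul_eq_right.1 h5.symm)
      have h6 : y ^ i = 1 := eq_one_of_eq_inv_of_odd (mul_eq_one_iff_eq_inv.1 h3)
        (odd_of_orderOf_dvd c.h.odd (orderOf_dvd_of_pow_eq_one (by
          rw [← zpow_natCast, ← zpow_mul, mul_comm, zpow_mul, zpow_natCast, hIy.1, one_zpow])))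
      rw [h6] at hi
      have hsc : Commute z s := (mul_inv_eq_iff_eq_mul.1 (mul_inv_eq_one.1 hi.symm)).symm
      exact hx (SE.eq_of_fixed c.se hso (c.fixes_of_inX hIz hz1 hsc)
        (mem_Nr_iff.2 (le_normalizer hsS)))
    -- `k` centralises `y`
    obtain ⟨a, ha⟩ := mem_zpowers_iff.1 hky
    have hkyc : Commute k y := by
      have hpow : ∀ n : ℕ, k ^ n * y * (k ^ n)⁻¹ = y ^ (a ^ n) := by
        intro n
        induction n with
        | zero => simp
        | succ n ih =>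
          rw [pow_succ', show k * k ^ n * y * (k * k ^ n)⁻¹ = k * (k ^ n * y * (k ^ n)⁻¹) * k⁻¹ by
            group, ih, ← conj_zpow, ← ha, ← zpow_mul, pow_succ']
      have h1 := hpow r
      rw [hkr, one_mul, inv_one, mul_one] at h1
      have h2 : y ^ (a ^ r) = y ^ a := by
        rw [← mul_inv_eq_one, ← zpow_sub, ← orderOf_dvd_iff_zpow_eq_one,
          orderOf_eq_prime hIy.1 hy1, ← ZMod.intCast_eq_intCast_iff_dvd_sub]
        rw [Int.cast_pow, ZMod.pow_card]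
      rw [h2, ha] at h1
      exact mul_inv_eq_iff_eq_mul.1 h1.symm
    -- `k` centralises `z`
    obtain ⟨i, hi⟩ := mem_zpowers_iff.1 hkz
    have hkzc : Commute k z := by
      by_contra hne
      have hw1 : y ^ i ≠ 1 := fun e' => hne (by
        rw [e'] at hi; exact mul_inv_eq_iff_eq_mul.1 (mul_inv_eq_one.1 hi.symm))
      obtain ⟨w, hw⟩ : ∃ w, w = y ^ i := ⟨_, rfl⟩
      rw [← hw] at hi hw1
      have hwk : Commute w k := hw ▸ (hkyc.zpow_right i).symm
      obtain ⟨l, hl⟩ : ∃ l : ℤ, w ^ l = y⁻¹ := by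
        have hyo := orderOf_eq_prime hIy.1 hy1
        have : (⟨y⁻¹, inv_mem (mem_zpowers y)⟩ : zpowers y) ∈
            zpowers (⟨w, hw ▸ zpow_mem (mem_zpowers y) i⟩ : zpowers y) :=
          mem_zpowers_of_prime_card (by rw [Nat.card_zpowers, hyo])
            fun e' => hw1 (congrArg Subtype.val e')
        obtain ⟨l, hl⟩ := mem_zpowers_iff.1 this
        exact ⟨l, congrArg Subtype.val hl⟩
      have h1 : z * k * z⁻¹ = w⁻¹ * k := by rw [hi]; group
      have h2 : z * k ^ l * z⁻¹ = y * k ^ l := by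
        rw [← conj_zpow, h1, hwk.inv_left.mul_zpow, inv_zpow, hl, inv_inv]
      have h3 : k ^ l * z * (k ^ l)⁻¹ = z * y⁻¹ := by
        calc k ^ l * z * (k ^ l)⁻¹ = k ^ l * (z * k ^ l * z⁻¹)⁻¹ * z := by group
          _ = _ := by rw [h2, mul_inv_rev, mul_inv_cancel_left, ← hcomm.inv_left.eq]
      obtain ⟨t', ht'S, ht'⟩ := c.exists_invol
      obtain ⟨b, hb⟩ := QuotientGroup.mk_surjective x
      have hbfix : (b * t' * b⁻¹) • x = x := by
        rw [← hb]
        exact SE.smul_mk_eq_iff.2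
          (by rw [show b⁻¹ * (b * t' * b⁻¹) * b = t' by group]; exact le_normalizer ht'S)
      have h4 : Commute (k ^ l * (b * t' * b⁻¹) * (k ^ l)⁻¹) (z * y⁻¹) := by
        have := (hIz.2 _ (conj_invol b ht') hbfix).map (MulAut.conj (k ^ l))
        rwa [MulAut.conj_apply, MulAut.conj_apply, h3] at this
      have h5 : v * (z * y⁻¹) * v⁻¹ = (z * y⁻¹)⁻¹ := by
        rw [mul_inv_rev, inv_inv, show v * (z * y⁻¹) * v⁻¹ = (v * z * v⁻¹) * (v * y * v⁻¹)⁻¹ by
          group, ← hz, hz, show v * (v * y * v⁻¹) * v⁻¹ = v * v * y * (v * v)⁻¹ by group,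
          invol_mul_self hv, one_mul, inv_one, mul_one]
      have h6 : z * y⁻¹ = 1 := c.not_inverted (conj_invol _ (conj_invol b ht')) hv
        (odd_of_orderOf_dvd c.h.odd (orderOf_dvd_of_pow_eq_one (by
          rw [(hcomm.symm.inv_right).mul_pow, inv_pow, hIy.1, hIz.1, inv_one, one_mul]))) h4 h5
      exact hzn ((mul_inv_eq_one.1 h6) ▸ hy)
    exact mem_D2.2 ⟨mem_Nr_iff.2 hkN, c.fixes_of_inX hIz hz1 hkzc.symm⟩
  -- the contradiction
  obtain ⟨w, hw, hw0, hw1⟩ := c.exists_carrier he0.symm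
  have hDe := hsame e he0 hye hze
  have hnv : ∀ g ∈ D2 x, v * g * v⁻¹ ∈ D2 x := by
    intro g hg
    rw [mem_D2] at hg ⊢
    constructor
    · rw [mul_smul, mul_smul, invol_inv hv, hv0, hg.2, hv1]
    · rw [mul_smul, mul_smul, invol_inv hv, hv1, hg.1, hv0]
  have hnw : ∀ g ∈ D2 x, w * g * w⁻¹ ∈ D2 x := by
    intro g hg
    rw [← hDe, mem_D2] at hg ⊢
    constructor
    · rw [mul_smul, mul_smul, invol_inv hw, hw0, hg.2, hw1]
    · rw [mul_smul, mul_smul, invol_inv hw, hw1, hg.1, hw0]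
  obtain ⟨g, hg⟩ : ∃ g, g = v * w := ⟨_, rfl⟩
  have hgo : g • pt₀ S = e := by rw [hg, mul_smul, hw0, he]
  have hgn : ∀ a ∈ D2 x, g * a * g⁻¹ ∈ D2 x := fun a ha => by
    rw [hg, show v * w * a * (v * w)⁻¹ = v * (w * a * w⁻¹) * v⁻¹ by group]
    exact hnv _ (hnw _ ha)
  have hh : w * g ∈ D2 x := hNM _ (mem_Nr_iff.1 (by rw [mul_smul, hgo, hw1])) fun a ha => by
    rw [show w * g * a * (w * g)⁻¹ = w * (g * a * g⁻¹) * w⁻¹ by group]
    exact hnw _ (hgn _ ha)
  have hg2 : g * g ∈ D2 x := by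
    have := mul_mem (hnw _ hh) hh
    rwa [show w * (w * g) * w⁻¹ * (w * g) = w * w * g * g by group, invol_mul_self hw,
      one_mul] at this
  have := (mem_D2.1 hg2).1
  rw [mul_smul, hgo, hg, mul_smul, hw1, hv0] at this
  exact hx this

end CfsgLib.Recog.TwoR.Rank3
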