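import Cfsg.Agent.Lib.Recog.TwoR.AutCases
import Cfsg.Agent.Lib.Recog.TwoR.Rank3Pair
import Cfsg.Agent.Lib.Recog.TwoR.Rank3Frob
import Cfsg.Agent.Lib.Recog.TwoR.Rank3Corner
import Cfsg.Agent.S0346

/-!
Rank at least three: a simple group with the element-order hypothesis, Sylow `2`-subgroup of order
at least eight and all involution centralisers inside `N(S)` has no element of order `2r`.
-/

set_option autoImplicit false
set_option linter.dupNamespace false
set_option linter.style.haveILetI false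
set_option linter.unusedSectionVars false

namespace CfsgLib.Recog.TwoR.Rank3

open Subgroup MulAction CfsgLib.Involutions

universe u

variable {G : Type u} [Group G] [Finite G] {r : ℕ} {S : Sylow 2 G}

theorem Ctx.noncomm (c : Ctx G r S) : ∃ a b : G, a * b ≠ b * a := by
  by_contra hall
  push Not at hall
  refine c.Nr_ne_top (normalizer_eq_top_iff.2 ⟨fun x hx g => ?_⟩)
  rwa [hall g x, mul_inv_cancel_right]

/-- If `A` is semiregular and `C(S)` has no element of order `r` then no element has order `2r`. -/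
theorem Ctx.no_2r (c : Ctx G r S) (hsemi : ∀ a : AG S, Semi a)
    (hX : ∀ y ∈ centralizer ((S : Subgroup G) : Set G), y ^ r = 1 → y = 1) {g : G}
    (hg : orderOf g = 2 * r) : False := by
  have hr := c.two_lt
  obtain ⟨t, htS, ht⟩ := c.exists_invol
  have hgr : orderOf (g ^ r) = 2 := by
    rw [orderOf_pow_of_dvd (by omega) (by rw [hg]; exact dvd_mul_left r 2), hg,
      Nat.mul_div_cancel _ (by omega)]
  obtain ⟨a, ha⟩ := isConj_iff.1 (SE.isConj c.se hgr ht)
  obtain ⟨y, hy⟩ : ∃ y, y = a * g ^ 2 * a⁻¹ := ⟨_, rfl⟩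
  have hc : Commute t y := by
    rw [hy, ← ha]
    exact ((Commute.refl g).pow_pow r 2).map (MulAut.conj a)
  have hyN : y ∈ Nr S := c.hcent t htS (invol_ne_one ht) (mem_centralizer_singleton.2 hc)
  have h1 : actR S ⟨y, hyN⟩ = 1 := hsemi _ ⟨t, htS⟩
    (fun e => invol_ne_one ht (congrArg Subtype.val e)) ((actR_fix_iff _ _).2 hc)
  have h2 := hX y ((actR_eq_one_iff _).1 h1) (by
    rw [hy, conj_pow, ← pow_mul, ← hg, pow_orderOf_eq_one, mul_one, mul_inv_cancel])
  rw [hy, conj_eq_one_iff] at h2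
  have := Nat.le_of_dvd two_pos (hg ▸ orderOf_dvd_of_pow_eq_one h2)
  omega

/-- The exponent of `C(S)` makes its order coprime to an odd number prime to `r`. -/
theorem Ctx.coprime_CS (c : Ctx G r S) {n : ℕ} (hn : Odd n) (hrn : ¬ r ∣ n) :
    (Nat.card (centralizer ((S : Subgroup G) : Set G))).Coprime n := by
  obtain ⟨t, htS, ht⟩ := c.exists_invol
  refine Nat.coprime_of_dvd fun p hp hpC hpn => ?_
  haveI : Fact p.Prime := ⟨hp⟩
  obtain ⟨y, hy⟩ := exists_prime_orderOf_dvd_card' p hpC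
  have h1 := orderOf_dvd_of_pow_eq_one (c.h.pow_two_r' ht (mem_centralizer_iff.1 y.2 t htS))
  rw [orderOf_coe, hy] at h1
  rcases hp.dvd_mul.1 h1 with h2 | h2
  · rw [(Nat.prime_dvd_prime_iff_eq hp Nat.prime_two).1 h2] at hpn
    exact Nat.not_even_iff_odd.2 hn (even_iff_two_dvd.2 hpn)
  · rw [(Nat.prime_dvd_prime_iff_eq hp c.h.prime).1 h2] at hpn
    exact hrn hpn

theorem Ctx.no_order_r (c : Ctx G r S)
    (h : ¬ r ∣ Nat.card (centralizer ((S : Subgroup G) : Set G))) (y : G)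
    (hy : y ∈ centralizer ((S : Subgroup G) : Set G)) (hyr : y ^ r = 1) : y = 1 := by
  by_contra hy1
  haveI : Fact r.Prime := ⟨c.h.prime⟩
  exact h (orderOf_eq_prime hyr hy1 ▸ Subgroup.orderOf_dvd_natCard _ hy)

theorem Ctx.mem_S_of_noX (c : Ctx G r S)
    (hX : ∀ y ∈ centralizer ((S : Subgroup G) : Set G), y ^ r = 1 → y = 1) {g : G}
    (hg : g ∈ centralizer ((S : Subgroup G) : Set G)) : g ∈ (S : Subgroup G) := by
  obtain ⟨t, htS, ht⟩ := c.exists_invol
  have h1 := c.h.pow_two_r' ht (mem_centralizer_iff.1 hg t htS)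
  have h2 := hX (g ^ 2) (pow_mem hg 2) (by rw [← pow_mul]; exact h1)
  rcases eq_or_ne g 1 with rfl | hg1
  · exact one_mem _
  · exact c.invol_mem (centralizer_le_normalizer _ hg) (invol_iff.2 ⟨by rw [← pow_two]; exact h2, hg1⟩)

/-- No three points are fixed when `F = A`. -/
theorem Ctx.three_fixed (c : Ctx G r S) (hF : Frob r S ⊤) {g : G} {a b e : Pt S} (hab : a ≠ b)
    (hbe : b ≠ e) (hae : a ≠ e) (ha : g • a = a) (hb : g • b = b) (he : g • e = e) : g = 1 := by
  obtain ⟨k, rfl⟩ := QuotientGroup.mk_surjective a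
  have hk : k • pt₀ S = (k : Pt S) := by
    rw [MulAction.Quotient.smul_mk, smul_eq_mul, mul_one]
  by_contra hg1
  have hd0 : k⁻¹ * g * k ∈ Nr S := SE.smul_mk_eq_iff.1 ha
  have key : ∀ {P : Pt S}, g • P = P → (k⁻¹ * g * k) • k⁻¹ • P = k⁻¹ • P := fun hP => by
    rw [mul_smul, mul_smul, smul_inv_smul, hP]
  have hb0 : k⁻¹ • b ≠ pt₀ S := fun e' => hab (by rw [← hk, ← e', smul_inv_smul])
  have he0 : k⁻¹ • e ≠ pt₀ S := fun e' => hae (by rw [← hk, ← e', smul_inv_smul])
  refine hbe (smul_left_cancel k⁻¹ (c.eq_of_fix hF he0 hb0 ⟨_, hd0⟩ (key he) (key hb) (mem_top _)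
    fun e' => hg1 ?_))
  calc g = k * (k⁻¹ * g * k) * k⁻¹ := by group
    _ = 1 := by rw [show k⁻¹ * g * k = 1 from e', mul_one, mul_inv_cancel]

/-- The Zassenhaus case: `C(S)` has no element of order `r`. -/
theorem Ctx.noX_of_zassenhaus (c : Ctx G r S) (hF : Frob r S ⊤)
    (hco : ∀ f ∈ (⊤ : Subgroup (AG S)),
      (Nat.card (centralizer ((S : Subgroup G) : Set G))).Coprime (orderOf f))
    (y : G) (hy : y ∈ centralizer ((S : Subgroup G) : Set G)) (hyr : y ^ r = 1) : y = 1 := by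
  haveI := c.simple
  haveI := Fintype.ofFinite (Pt S)
  obtain ⟨t, htS, ht⟩ := c.exists_invol
  have ht0 : t • pt₀ S = pt₀ S := mem_Nr_iff.2 (le_normalizer htS)
  obtain ⟨u, huN, -⟩ := SE.exists_invol_not_mem c.se
  have hx : u • pt₀ S ≠ pt₀ S := fun e => huN (mem_Nr_iff.1 e)
  have hfaith : FaithfulSMul G (Pt S) := by
    refine ⟨fun {g k} hgk => ?_⟩
    have hK : (MulAction.toPermHom G (Pt S)).ker = ⊥ := by
      refine (IsSimpleGroup.eq_bot_or_eq_top_of_normal _ inferInstance).resolve_right fun e => ?_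
      have hu : u ∈ (MulAction.toPermHom G (Pt S)).ker := e ▸ mem_top u
      exact hx (congrArg (fun f : Equiv.Perm (Pt S) => f (pt₀ S)) (MonoidHom.mem_ker.1 hu))
    exact (MonoidHom.ker_eq_bot_iff _).1 hK (Equiv.ext hgk)
  have htwo : IsMultiplyPretransitive G (Pt S) 2 := by
    rw [is_two_pretransitive_iff]
    intro a b a' b' hab hab'
    obtain ⟨k, hk⟩ := exists_smul_eq G a (pt₀ S)
    obtain ⟨l, hl⟩ := exists_smul_eq G a' (pt₀ S)
    obtain ⟨s, hs, he⟩ := c.transitive hF hco (x := k • b) (e := l • b')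
      (fun h => hab (smul_left_cancel k (hk.trans h.symm)))
      (fun h => hab' (smul_left_cancel l (hl.trans h.symm)))
    refine ⟨l⁻¹ * s * k, ?_, ?_⟩
    · rw [mul_smul, mul_smul, hk, mem_Nr_iff.2 (centralizer_le_normalizer _ hs), inv_smul_eq_iff, hl]
    · rw [mul_smul, mul_smul, he, inv_smul_smul]
  have hZ : Cfsg.IsZassenhausGroup G (Pt S) := by
    refine ⟨hfaith, htwo, fun g a b e hab hbe hae ha hb he => c.three_fixed hF hab hbe hae ha hb he,
      ?_, fun N hN hNt => ?_⟩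
    · haveI : Nontrivial (⊤ : Subgroup (AG S)) := Finite.one_lt_card_iff_nontrivial.1 (by
        have := hF.card; have := c.h8; omega)
      obtain ⟨⟨f, hf⟩, hf1⟩ := exists_ne (1 : (⊤ : Subgroup (AG S)))
      obtain ⟨v, hv, hv0, -⟩ := c.exists_carrier hx.symm
      obtain ⟨m, hmx, -, hmf⟩ := c.exists_inverted hF hx hv hv0 f hf
      refine ⟨m, fun e => hf1 (Subtype.ext ?_), pt₀ S, _, hx.symm, mem_Nr_iff.2 m.2, hmx⟩
      show f = 1
      rw [← hmf, show m = 1 from Subtype.ext e, map_one]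
    · rcases IsSimpleGroup.eq_bot_or_eq_top_of_normal N hN with e | e
      · exfalso
        obtain ⟨n, hn⟩ := hNt.exists_smul_eq (pt₀ S) (u • pt₀ S)
        have hn1 : (n : G) = 1 := mem_bot.1 (e ▸ n.2)
        exact hx (hn.symm.trans (show (n : G) • pt₀ S = pt₀ S by rw [hn1, one_smul]))
      · refine ⟨pt₀ S, fun hb => ?_⟩
        have h1 : (⟨t, e ▸ mem_top t⟩ : N) = 1 :=
          mem_bot.1 ((SetLike.ext_iff.1 hb (⟨t, e ▸ mem_top t⟩ : N)).1 ht0)
        exact invol_ne_one ht (congrArg Subtype.val h1)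
  have h1 := Cfsg.Agent.S0346.result hZ
  rw [← Nat.card_eq_fintype_card, c.card_points hF hco, Nat.add_sub_cancel] at h1
  obtain ⟨p, k, hp, -, he⟩ := h1
  rw [← Nat.prime_iff] at hp
  have h2 : 2 ∣ Nat.card (centralizer ((S : Subgroup G) : Set G)) := by
    have htC : t ∈ centralizer ((S : Subgroup G) : Set G) :=
      mem_centralizer_iff.2 fun a ha => (c.comm ha htS).eq
    have := Subgroup.orderOf_dvd_natCard _ htC
    rwa [ht] at this
  refine c.no_order_r (fun hr => ?_) y hy hyr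
  rw [← he] at h2 hr
  have h3 := (Nat.prime_dvd_prime_iff_eq Nat.prime_two hp).1 (Nat.prime_two.dvd_of_dvd_pow h2)
  have h4 := (Nat.prime_dvd_prime_iff_eq c.h.prime hp).1 (c.h.prime.dvd_of_dvd_pow hr)
  have := c.two_lt
  omega

/-- The case `|A| = r`: `C(S)` has no element of order `r`. -/
theorem Ctx.noX_of_card (c : Ctx G r S) (hA : Nat.card (AG S) = r) (hF : Frob r S ⊤) (y : G)
    (hy : y ∈ centralizer ((S : Subgroup G) : Set G)) (hyr : y ^ r = 1) : y = 1 := by
  haveI : Fact r.Prime := ⟨c.h.prime⟩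
  haveI : Nontrivial (AG S) := Finite.one_lt_card_iff_nontrivial.1 (by
    rw [hA]; exact c.h.prime.one_lt)
  obtain ⟨f, hf1⟩ := exists_ne (1 : AG S)
  obtain ⟨u, huN, -⟩ := SE.exists_invol_not_mem c.se
  obtain ⟨x, hx⟩ : ∃ x : Pt S, x ≠ pt₀ S := ⟨_, fun e => huN (mem_Nr_iff.1 e)⟩
  obtain ⟨v, hv, hv0, -⟩ := c.exists_carrier hx.symm
  obtain ⟨d, hdx, -, hdf⟩ := c.exists_inverted hF hx hv hv0 f (mem_top f)
  have hd1 : d ≠ 1 := fun e => hf1 (by rw [← hdf, e, map_one])
  have hdr : d ^ r = 1 := Subtype.ext (hF.free x hx _ ((actR_eq_one_iff (d ^ r)).1 (by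
    rw [map_pow, ← hA, pow_card_eq_one'])) (by
      rw [Subgroup.coe_pow]
      exact MulAction.mem_stabilizer_iff.1 (pow_mem (MulAction.mem_stabilizer_iff.2 hdx) r)))
  obtain ⟨C, hC⟩ : ∃ C : Subgroup (Nr S),
      C = (centralizer ((S : Subgroup G) : Set G)).subgroupOf (Nr S) := ⟨_, rfl⟩
  haveI : C.Normal := by
    rw [hC, ← normalizerMonoidHom_ker]; infer_instance
  letI : MulAction (zpowers d) C :=
    MulAction.compHom C ((MulAut.conjNormal (H := C)).comp (zpowers d).subtype)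
  have hY : IsPGroup r (zpowers d) :=
    IsPGroup.iff_card.2 ⟨1, by rw [Nat.card_zpowers, orderOf_eq_prime hdr hd1, pow_one]⟩
  have hfix : Nat.card (fixedPoints (zpowers d) C) = 1 := by
    haveI : Subsingleton (fixedPoints (zpowers d) C) := by
      refine ⟨fun a b => ?_⟩
      suffices h1 : ∀ a : fixedPoints (zpowers d) C, (a : C) = 1 by
        exact Subtype.ext ((h1 a).trans (h1 b).symm)
      rintro ⟨⟨g, hg⟩, hga⟩
      have h2 : d * g * d⁻¹ = g :=
        congrArg Subtype.val (hga ⟨d, mem_zpowers d⟩ : _ • (⟨g, hg⟩ : C) = ⟨g, hg⟩)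
      have hc : Commute (d : G) g := congrArg Subtype.val (mul_inv_eq_iff_eq_mul.1 h2)
      rw [hC, mem_subgroupOf] at hg
      have hg0 : (g : G) • x ≠ pt₀ S := fun e => hx (smul_left_cancel (g : G)
        (e.trans (mem_Nr_iff.2 g.2).symm))
      have h3 := c.eq_of_fix hF hx hg0 d hdx (by rw [← mul_smul, hc.eq, mul_smul, hdx])
        (mem_top _) (fun e => hd1 (Subtype.ext e))
      exact Subtype.ext (Subtype.ext (hF.free x hx _ hg h3))
    haveI : Nonempty (fixedPoints (zpowers d) C) := ⟨⟨1, fun m => by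
      apply Subtype.ext
      show ((m : Nr S) * 1 * (m : Nr S)⁻¹) = 1
      rw [mul_one, mul_inv_cancel]⟩⟩
    exact Nat.card_unique
  have hmod := hY.card_modEq_card_fixedPoints (α := C)
  rw [hfix, hC, Nat.card_congr (subgroupOfEquivOfLe
    (centralizer_le_normalizer ((S : Subgroup G) : Set G))).toEquiv] at hmod
  refine c.no_order_r (fun hr => ?_) y hy hyr
  have h5 := (Nat.modEq_zero_iff_dvd.2 hr).symm.trans hmod
  have := Nat.le_of_dvd one_pos (Nat.modEq_zero_iff_dvd.1 h5.symm)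
  have := c.two_lt
  omega

/-- The Frobenius case. -/
theorem Ctx.frobenius_false (c : Ctx G r S) {F : Subgroup (AG S)} [F.Normal]
    (hcard : Nat.card F + 1 = Nat.card (S : Subgroup G)) (hidx : F.index = r)
    (hrF : ¬ r ∣ Nat.card F) (hsemi : ∀ a ∈ F, Semi a)
    (hcentr : ∀ g : AG S, g ∉ F → ∀ f ∈ F, g * f * g⁻¹ = f → f = 1)
    (hout : ∀ g : AG S, g ∉ F → orderOf g = r) : False := by
  classical
  haveI := c.simple
  haveI : Fact r.Prime := ⟨c.h.prime⟩
  haveI : Fact (Nat.Prime 2) := ⟨Nat.prime_two⟩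
  have hmem : ∀ a : AG S, Semi a → a ∈ F := by
    intro a ha
    by_contra haF
    have hY : IsPGroup r (zpowers a) :=
      IsPGroup.iff_card.2 ⟨1, by rw [Nat.card_zpowers, hout a haF, pow_one]⟩
    have h1 := hY.card_modEq_card_fixedPoints (α := (S : Subgroup G))
    haveI : Subsingleton (fixedPoints (zpowers a) (S : Subgroup G)) := by
      refine ⟨fun x y => ?_⟩
      suffices h2 : ∀ z : fixedPoints (zpowers a) (S : Subgroup G), (z : (S : Subgroup G)) = 1 by
        exact Subtype.ext ((h2 x).trans (h2 y).symm)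
      intro z
      by_contra hz
      exact haF ((ha z hz (z.2 ⟨a, mem_zpowers a⟩)) ▸ one_mem F)
    haveI : Nonempty (fixedPoints (zpowers a) (S : Subgroup G)) := ⟨⟨1, fun m => smul_one _⟩⟩
    rw [Nat.card_unique (α := fixedPoints (zpowers a) (S : Subgroup G)), ← hcard] at h1
    exact hrF (Nat.modEq_zero_iff_dvd.1 (Nat.ModEq.add_right_cancel' 1 (by rw [zero_add]; exact h1)))
  have hF : Frob r S F := ⟨hcard, hsemi, hmem, c.free_of_not_dvd hmem hrF⟩
  have hco : ∀ f ∈ F, (Nat.card (centralizer ((S : Subgroup G) : Set G))).Coprime (orderOf f) :=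
    fun f hf => c.coprime_CS (c.odd_orderOf_AG f)
      fun h => hrF (h.trans (Subgroup.orderOf_dvd_natCard F hf))
  -- an element `y` outside `F` fixing two points
  obtain ⟨a, ha⟩ : ∃ a : AG S, a ∉ F := by
    by_contra hall
    push Not at hall
    rw [show F = ⊤ from eq_top_iff.2 fun g _ => hall g, index_top] at hidx
    exact c.h.prime.ne_one hidx.symm
  obtain ⟨m, rfl⟩ := MonoidHom.rangeRestrict_surjective _ a
  obtain ⟨u, huN, -⟩ := SE.exists_invol_not_mem c.se
  obtain ⟨x, hx⟩ : ∃ x : Pt S, x ≠ pt₀ S := ⟨_, fun e => huN (mem_Nr_iff.1 e)⟩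
  have hmx : (m : G) • x ≠ pt₀ S := fun e => hx (smul_left_cancel (m : G)
    (e.trans (mem_Nr_iff.2 m.2).symm))
  obtain ⟨s, hs, hse⟩ := c.transitive hF hco hmx hx
  obtain ⟨y, hydef⟩ : ∃ y : Nr S, y = ⟨s, centralizer_le_normalizer _ hs⟩ * m := ⟨_, rfl⟩
  have hyx : (y : G) • x = x := by rw [hydef, Subgroup.coe_mul, mul_smul]; exact hse
  have hya : actR S y = actR S m := by
    rw [hydef, map_mul, (actR_eq_one_iff (⟨s, centralizer_le_normalizer _ hs⟩ : Nr S)).2 hs, one_mul]
  have hyF : actR S y ∉ F := hya ▸ ha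
  have hy1 : (y : G) ≠ 1 := fun e => hyF (by
    rw [show y = 1 from Subtype.ext e, map_one]; exact one_mem F)
  have hyr : (y : G) ^ r = 1 := by
    refine hF.free x hx _ ((actR_eq_one_iff (y ^ r)).1 ?_)
      (MulAction.mem_stabilizer_iff.1 (pow_mem (MulAction.mem_stabilizer_iff.2 hyx) r))
    rw [map_pow, ← hout _ hyF, pow_orderOf_eq_one]
  have hyo : orderOf (y : G) = r := orderOf_eq_prime hyr hy1
  have hy0 : (y : G) • pt₀ S = pt₀ S := mem_Nr_iff.2 y.2
  have hY : IsPGroup r (zpowers (y : G)) :=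
    IsPGroup.iff_card.2 ⟨1, by rw [Nat.card_zpowers, hyo, pow_one]⟩
  -- a swapper commuting with `y`
  have hswap : ∀ P : Pt S, P ≠ pt₀ S → (y : G) • P = P →
      ∃ v : G, orderOf v = 2 ∧ v • pt₀ S = P ∧ Commute (y : G) v := by
    intro P hP hyP
    have hcl : ∀ (k : zpowers (y : G)) (i : {i : G // orderOf i = 2 ∧ i • pt₀ S = P}),
        orderOf ((k : G) * i * (k : G)⁻¹) = 2 ∧ ((k : G) * i * (k : G)⁻¹) • pt₀ S = P := by
      intro k i
      have hk0 : (k : G) ∈ stabilizer G (pt₀ S) :=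
        zpowers_le.2 (MulAction.mem_stabilizer_iff.2 hy0) k.2
      have hk1 : (k : G) ∈ stabilizer G P := zpowers_le.2 (MulAction.mem_stabilizer_iff.2 hyP) k.2
      refine ⟨conj_invol _ i.2.1, ?_⟩
      rw [mul_smul, mul_smul, MulAction.mem_stabilizer_iff.1 (inv_mem hk0), i.2.2]
      exact hk1
    letI : MulAction (zpowers (y : G)) {i : G // orderOf i = 2 ∧ i • pt₀ S = P} :=
      { smul := fun k i => ⟨(k : G) * i * (k : G)⁻¹, hcl k i⟩
        one_smul := fun i => Subtype.ext (show (1 : G) * (i : G) * (1 : G)⁻¹ = i by simp)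
        mul_smul := fun k l i => Subtype.ext (show (k : G) * l * (i : G) * ((k : G) * l)⁻¹ =
          (k : G) * ((l : G) * i * (l : G)⁻¹) * (k : G)⁻¹ by group) }
    obtain ⟨⟨v, hv, hvP⟩, hvfix⟩ := hY.nonempty_fixed_point_of_prime_not_dvd_card
      (α := {i : G // orderOf i = 2 ∧ i • pt₀ S = P}) (by
        have h1 := c.card_carriers hP.symm
        rw [← hcard] at h1
        rwa [Nat.add_right_cancel h1])
    refine ⟨v, hv, hvP, mul_inv_eq_iff_eq_mul.1 ?_⟩
    exact congrArg Subtype.val (hvfix ⟨(y : G), mem_zpowers _⟩)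
  -- transfer to `A ⧸ F`
  haveI : IsCyclic (AG S ⧸ F) := isCyclic_of_prime_card (p := r) (by rw [← index_eq_card, hidx])
  letI : CommGroup (AG S ⧸ F) :=
    { (inferInstance : Group (AG S ⧸ F)) with mul_comm := IsMulCommutative.is_comm.comm }
  let φ : Nr S →* AG S ⧸ F := (QuotientGroup.mk' F).comp (actR S)
  haveI := Fintype.ofFinite (Pt S)
  have hT := CfsgLib.Transfer.transfer_eq_prod_fixedVal φ (y : G) (fun k hk hkd g hg => by
    rw [hyo] at hkd
    rcases (Nat.dvd_prime c.h.prime).1 hkd with e | e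
    · omega
    · rw [show (⟨g⁻¹ * (y : G) ^ k * g, hg⟩ : Nr S) = 1 from Subtype.ext (by
        show g⁻¹ * (y : G) ^ k * g = 1
        rw [e, hyr, mul_one, inv_mul_cancel]), map_one])
  have hker : MonoidHom.transfer φ (y : G) = 1 := by
    rcases IsSimpleGroup.eq_bot_or_eq_top_of_normal (MonoidHom.transfer φ).ker inferInstance with
      e | e
    · exfalso
      obtain ⟨g, k, hgk⟩ := c.noncomm
      exact hgk ((MonoidHom.ker_eq_bot_iff _).1 e (by rw [map_mul, map_mul, mul_comm]))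
    · exact MonoidHom.mem_ker.1 (e ▸ mem_top _)
  have hval : ∀ P : Pt S, CfsgLib.Transfer.fixedVal φ (y : G) P =
      if (y : G) • P = P then φ y else 1 := by
    intro P
    split_ifs with hfix
    · obtain ⟨g, rfl⟩ := QuotientGroup.mk_surjective P
      have hg := (CfsgLib.Transfer.mem_iff_smul_eq (y : G) g).2 hfix
      rw [CfsgLib.Transfer.fixedVal_of_mem φ (y : G) hg]
      obtain ⟨k, hky, hk⟩ : ∃ k : G, Commute (y : G) k ∧ k • pt₀ S = (g : Pt S) := by
        by_cases h0 : (g : Pt S) = pt₀ S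
        · exact ⟨1, Commute.one_right _, by rw [one_smul, h0]⟩
        · obtain ⟨v, -, hv, hvc⟩ := hswap _ h0 hfix
          exact ⟨v, hvc, hv⟩
      have hh : k⁻¹ * g ∈ Nr S := mem_Nr_iff.1 (by
        rw [mul_smul, inv_smul_eq_iff, hk, MulAction.Quotient.smul_mk, smul_eq_mul, mul_one])
      have he : (⟨g⁻¹ * (y : G) * g, hg⟩ : Nr S) = ⟨k⁻¹ * g, hh⟩⁻¹ * y * ⟨k⁻¹ * g, hh⟩ :=
        Subtype.ext (by
          show g⁻¹ * (y : G) * g = (k⁻¹ * g)⁻¹ * y * (k⁻¹ * g)
          rw [mul_inv_rev, inv_inv, show g⁻¹ * k * (y : G) * (k⁻¹ * g) = g⁻¹ * (k * y * k⁻¹) * g by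
            group, hky.symm.eq, mul_inv_cancel_right])
      rw [he, map_mul, map_mul, map_inv, mul_right_comm, inv_mul_cancel, one_mul]
    · exact CfsgLib.Transfer.fixedVal_of_ne φ (y : G) hfix
  rw [hT, Finset.prod_congr rfl (fun P _ => hval P), Finset.prod_ite, Finset.prod_const,
    Finset.prod_const, one_pow, mul_one] at hker
  obtain ⟨n, hn⟩ : ∃ n, n = Nat.card {P : Pt S // (y : G) • P = P} := ⟨_, rfl⟩
  rw [← Fintype.card_subtype, ← Nat.card_eq_fintype_card, ← hn] at hker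
  have hrn : r ∣ n := by
    have hφ : φ y ≠ 1 := fun e => hyF ((QuotientGroup.eq_one_iff _).1 e)
    have hord : orderOf (φ y) = r := orderOf_eq_prime (by
      rw [← map_pow, show y ^ r = 1 from Subtype.ext hyr, map_one]) hφ
    exact hord ▸ orderOf_dvd_of_pow_eq_one hker
  have hfix : Nat.card (fixedPoints (zpowers (y : G)) (Pt S)) = n := by
    rw [hn]
    refine Nat.card_congr (Equiv.subtypeEquivRight fun P => ?_)
    rw [MulAction.mem_fixedPoints]
    refine ⟨fun h => h ⟨(y : G), mem_zpowers _⟩, fun h k => ?_⟩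
    exact (zpowers_le.2 (MulAction.mem_stabilizer_iff.2 h) k.2 : (k : G) ∈ stabilizer G P)
  have hmod := hY.card_modEq_card_fixedPoints (α := Pt S)
  rw [hfix, c.card_points hF hco] at hmod
  have hX := c.no_order_r fun h => by
    have h1 : Nat.card (centralizer ((S : Subgroup G) : Set G)) + 1 ≡ 0 + 1 [MOD r] :=
      (Nat.modEq_zero_iff_dvd.2 h).add_right 1
    have h2 := (h1.symm.trans hmod).trans (Nat.modEq_zero_iff_dvd.2 hrn)
    have := Nat.le_of_dvd one_pos (Nat.modEq_zero_iff_dvd.1 h2)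
    have := c.two_lt
    omega
  -- `U = C_S(y)`
  obtain ⟨U, hU⟩ : ∃ U : Subgroup G, U = (S : Subgroup G) ⊓ centralizer ({(y : G)} : Set G) :=
    ⟨_, rfl⟩
  have hUmem : ∀ {g : G}, g ∈ U ↔ g ∈ (S : Subgroup G) ∧ Commute (y : G) g := fun {g} => by
    rw [hU, Subgroup.mem_inf, mem_centralizer_singleton]
  have hSC : ∀ {g : G}, g ∈ (S : Subgroup G) → g ∈ centralizer ((S : Subgroup G) : Set G) :=
    fun hg => mem_centralizer_iff.2 fun a ha => (c.comm ha hg).eq
  have hnU : n = Nat.card U + 1 := by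
    have h0 : ∀ {g : G}, g ∈ U → g • pt₀ S = pt₀ S := fun hg =>
      mem_Nr_iff.2 (le_normalizer (hUmem.1 hg).1)
    let f : U → {P : {P : Pt S // (y : G) • P = P} // (P : Pt S) ≠ pt₀ S} := fun g =>
      ⟨⟨(g : G) • x, by rw [← mul_smul, (hUmem.1 g.2).2.eq, mul_smul, hyx]⟩,
        fun e => hx (smul_left_cancel (g : G) (e.trans (h0 g.2).symm))⟩
    have hf : Function.Bijective f := by
      refine ⟨fun g k e => ?_, fun P => ?_⟩
      · have h1 : (g : G) • x = (k : G) • x := congrArg (fun P => ((P.1 : _) : Pt S)) e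
        exact Subtype.ext (inv_mul_eq_one.1 (hF.free x hx _ (hSC (mul_mem (inv_mem (hUmem.1 g.2).1)
          (hUmem.1 k.2).1)) (by rw [mul_smul, ← h1, inv_smul_smul])))
      · obtain ⟨g, hg, he⟩ := c.transitive hF hco hx P.2
        have hgS := c.mem_S_of_noX hX hg
        have hgy : (y : G) * g * (y : G)⁻¹ ∈ (S : Subgroup G) := (mem_normalizer_iff.1 y.2 g).1 hgS
        have h1 := hF.free x hx _ (hSC (mul_mem (inv_mem hgS) hgy)) (by
          rw [mul_smul, mul_smul, mul_smul, inv_smul_eq_iff.2 hyx.symm, he, P.1.2, ← he,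
            inv_smul_smul])
        exact ⟨⟨g, hUmem.2 ⟨hgS, mul_inv_eq_iff_eq_mul.1 (inv_mul_eq_one.1 h1).symm⟩⟩,
          Subtype.ext (Subtype.ext he)⟩
    have h2 := Nat.card_congr (Equiv.optionSubtypeNe (⟨pt₀ S, hy0⟩ : {P : Pt S // (y : G) • P = P}))
    rw [Finite.card_option] at h2
    rw [hn, ← h2, Nat.card_eq_of_bijective f hf]
    congr 1
    exact Nat.card_congr (Equiv.subtypeEquivRight fun P => by
      rw [ne_eq, ne_eq, Subtype.ext_iff])
  have hUp : IsPGroup 2 U := S.isPGroup'.to_le (fun g hg => (hUmem.1 hg).1)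
  obtain ⟨t, htU, ht⟩ : ∃ t ∈ U, orderOf t = 2 := by
    have hns : ¬ Semi (actR S y) := fun h => hyF (hmem _ h)
    unfold Semi at hns
    push Not at hns
    obtain ⟨z, hz, hfz, -⟩ := hns
    exact ⟨z, hUmem.2 ⟨z.2, ((actR_fix_iff _ _).1 hfz).symm⟩,
      c.orderOf_mem z.2 fun e => hz (Subtype.ext e)⟩
  have htS := (hUmem.1 htU).1
  obtain ⟨v, hv, hv0, hvy⟩ := hswap x hx hyx
  -- `U` has order two
  obtain ⟨k, hk⟩ := IsPGroup.iff_card.1 hUp
  have hk1 : k = 1 := by
    by_contra hne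
    have hk0 : k ≠ 0 := fun e => by
      rw [e, pow_zero] at hk
      exact invol_ne_one ht (by
        haveI : Subsingleton U := Finite.card_le_one_iff_subsingleton.1 hk.le
        exact congrArg Subtype.val (Subsingleton.elim (⟨t, htU⟩ : U) 1))
    have h4 : 4 ≤ Nat.card U := by
      rw [hk]
      calc (4 : ℕ) = 2 ^ 2 := by norm_num
        _ ≤ 2 ^ k := Nat.pow_le_pow_right two_pos (by omega)
    obtain ⟨C, hC⟩ : ∃ C : Subgroup G, C = centralizer ({(y : G)} : Set G) := ⟨_, rfl⟩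
    have hUC : U ≤ C := fun g hg => hC ▸ mem_centralizer_singleton.2 (hUmem.1 hg).2
    have hCy : ∀ {g : G}, g ∈ C → Commute (y : G) g := fun hg =>
      mem_centralizer_singleton.1 (hC ▸ hg)
    haveI : Group.IsSolvable C := isSolvable_of_exp c.h.prime fun g => Subtype.ext (by
      rw [Subgroup.coe_pow, Subgroup.coe_one]; exact c.h.pow_two_r hyo (hCy g.2))
    let T : Sylow 2 C :=
      ⟨U.subgroupOf C, hUp.of_equiv (subgroupOfEquivOfLe hUC).symm, fun {Q} hQ hle => by
        refine le_antisymm (fun g hg => mem_subgroupOf.2 ?_) hle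
        have htQ : (⟨t, hUC htU⟩ : C) ∈ Q := hle (mem_subgroupOf.2 htU)
        have hc : Commute t (g : G) := congrArg Subtype.val (c.h.subgroup C |>.comm_of_mem hQ htQ hg)
        obtain ⟨l, hl⟩ := IsPGroup.iff_orderOf.1 hQ ⟨g, hg⟩
        exact hUmem.2 ⟨c.mem_of_two (c.hcent t htS (invol_ne_one ht)
          (mem_centralizer_singleton.2 hc)) (k := l)
          ((orderOf_coe g).trans ((orderOf_coe (⟨g, hg⟩ : Q)).trans hl)), hCy g.2⟩⟩
    have hTmem : ∀ {a : C}, a ∈ (T : Subgroup C) ↔ (a : G) ∈ U := fun {a} => mem_subgroupOf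
    have hab : ∀ a ∈ (T : Subgroup C), ∀ b ∈ (T : Subgroup C), a * b = b * a := fun a ha b hb =>
      Subtype.ext (c.comm (hUmem.1 (hTmem.1 ha)).1 (hUmem.1 (hTmem.1 hb)).1).eq
    haveI : IsMulCommutative (T : Subgroup C) :=
      ⟨⟨fun a b => Subtype.ext (hab a a.2 b b.2)⟩⟩
    have hnc : ¬ IsCyclic (T : Subgroup C) := by
      intro hcy
      obtain ⟨⟨g, hg⟩, hgen⟩ := hcy.exists_generator
      have h1 : Nat.card (T : Subgroup C) = Nat.card U :=
        Nat.card_congr (subgroupOfEquivOfLe hUC).toEquiv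
      have h2 : orderOf (⟨g, hg⟩ : (T : Subgroup C)) ∣ 2 := orderOf_dvd_of_pow_eq_one
        (Subtype.ext (Subtype.ext (by simpa [pow_two] using c.sq_one (hUmem.1 (hTmem.1 hg)).1)))
      have h3 := Nat.le_of_dvd two_pos h2
      rw [orderOf_eq_card_of_forall_mem_zpowers hgen, h1] at h3
      omega
    set O := Cfsg.pPrimeCore 2 C with hO
    have hOo : Odd (Nat.card O) := by
      rw [← Nat.not_even_iff_odd, even_iff_two_dvd]
      exact Base.not_dvd_card_pPrimeCore 2 C
    have hle : O ≤ (Nr S).subgroupOf C := by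
      refine Coprime.le_of_centralizer_le_of_not_isCyclic (A := (T : Subgroup C)) hnc ?_ ?_
        fun a ha ha1 => ?_
      · haveI : O.Normal := Cfsg.pPrimeCore_normal 2 C
        rw [normalizer_eq_top O]
        exact le_top
      · obtain ⟨l, hl⟩ := IsPGroup.iff_card.1 T.isPGroup'
        rw [hl]
        exact Nat.Coprime.pow_left l (Nat.coprime_two_left.2 hOo)
      · intro g hg
        rw [mem_subgroupOf]
        refine c.hcent _ (hUmem.1 (hTmem.1 ha)).1 (fun e => ha1 (Subtype.ext e)) ?_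
        exact mem_centralizer_singleton.2
          (congrArg Subtype.val (mem_centralizer_singleton.1 hg.2).eq)
    have hOT : O ⊔ (T : Subgroup C) ≤ (Nr S).subgroupOf C :=
      sup_le hle fun a ha => mem_subgroupOf.2 (le_normalizer (hUmem.1 (hTmem.1 ha)).1)
    have hn' := sylow_sup_core_normal T hab
    have hvC : v ∈ C := hC ▸ mem_centralizer_singleton.2 hvy
    have h5 := mem_subgroupOf.1 (hOT (hn'.conj_mem ⟨t, hUC htU⟩
      (mem_sup_right (hTmem.2 htU)) ⟨v, hvC⟩))
    have h6 : (v * t * v⁻¹) • x = x := by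
      rw [mul_smul, mul_smul, ← hv0, inv_smul_smul, mem_Nr_iff.2 (le_normalizer htS)]
    exact hx (SE.eq_of_fixed c.se (conj_invol v ht) h6
      (mem_Nr_iff.2 (show v * t * v⁻¹ ∈ Nr S from h5)))
  have hU2 : Nat.card U = 2 := by rw [hk, hk1, pow_one]
  -- the corner
  have hr3 : r = 3 := (Nat.prime_dvd_prime_iff_eq c.h.prime Nat.prime_three).1 (by
    rw [hnU, hU2] at hrn; exact hrn)
  obtain ⟨K, hK⟩ : ∃ K : Subgroup G, K = centralizer ({(y : G)} : Set G) ⊓ Nr S := ⟨_, rfl⟩
  have hK2 : Nat.card K = 2 * r := by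
    have hmemK : ∀ {g : G}, g ∈ K ↔ Commute (y : G) g ∧ g ∈ Nr S := fun {g} => by
      rw [hK, Subgroup.mem_inf, mem_centralizer_singleton]
    let f : U × zpowers (y : G) → K := fun p => ⟨(p.1 : G) * p.2, hmemK.2 ⟨by
      obtain ⟨i, hi⟩ := mem_zpowers_iff.1 p.2.2
      rw [← hi]
      exact (hUmem.1 p.1.2).2.mul_right (Commute.self_zpow _ i),
      mul_mem (le_normalizer (hUmem.1 p.1.2).1) (zpowers_le.2 y.2 p.2.2)⟩⟩
    have hf : Function.Bijective f := by
      refine ⟨fun p q e => ?_, fun g => ?_⟩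
      · have e' : (p.1 : G) * p.2 = q.1 * q.2 := congrArg Subtype.val e
        have h1 : (q.1 : G)⁻¹ * p.1 = q.2 * (p.2 : G)⁻¹ := by
          rw [inv_mul_eq_iff_eq_mul, ← mul_assoc, ← e', mul_inv_cancel_right]
        have h2 : (q.1 : G)⁻¹ * p.1 = 1 := by
          have hz : (q.1 : G)⁻¹ * p.1 ∈ zpowers (y : G) := h1 ▸ mul_mem q.2.2 (inv_mem p.2.2)
          have ha := Subgroup.orderOf_dvd_natCard _ hz
          have hb := Subgroup.orderOf_dvd_natCard _ (mul_mem (inv_mem q.1.2) p.1.2 : _ ∈ U)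
          rw [Nat.card_zpowers, hyo, hr3] at ha
          rw [hU2] at hb
          exact orderOf_eq_one_iff.1 (Nat.eq_one_of_dvd_coprimes (by norm_num : Nat.Coprime 3 2) ha hb)
        refine Prod.ext (Subtype.ext (inv_mul_eq_one.1 h2).symm) (Subtype.ext ?_)
        rw [h2] at h1
        exact (mul_inv_eq_one.1 h1.symm).symm
      · obtain ⟨hgy, hgN⟩ := hmemK.1 g.2
        obtain ⟨a, ha'⟩ : ∃ a, a = actR S ⟨g, hgN⟩ := ⟨_, rfl⟩
        obtain ⟨i, hi⟩ := mem_zpowers_iff.1 (mem_zpowers_of_prime_card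
          (show Nat.card (AG S ⧸ F) = r by rw [← index_eq_card, hidx])
          (g := (QuotientGroup.mk (actR S y) : AG S ⧸ F))
          (fun e => hyF ((QuotientGroup.eq_one_iff _).1 e)) (g' := QuotientGroup.mk a))
        rw [← QuotientGroup.mk_zpow, QuotientGroup.eq] at hi
        have hca : Commute (actR S y) a := by
          rw [ha']; exact (show Commute y ⟨g, hgN⟩ from Subtype.ext hgy.eq).map (actR S)
        have h3 := hcentr _ hyF _ hi (mul_inv_eq_iff_eq_mul.2
          (((Commute.refl _).zpow_right i).inv_right.mul_right hca).eq)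
        have h4 : ((y : G) ^ i)⁻¹ * g ∈ centralizer ((S : Subgroup G) : Set G) := by
          have := (actR_eq_one_iff ((y ^ i)⁻¹ * ⟨g, hgN⟩)).1 (by
            rw [map_mul, map_inv, map_zpow, ← ha', h3])
          simpa using this
        have h5 : ((y : G) ^ i)⁻¹ * g ∈ U := hUmem.2 ⟨c.mem_S_of_noX hX h4,
          ((Commute.refl _).zpow_right i).inv_right.mul_right hgy⟩
        refine ⟨(⟨_, h5⟩, ⟨(y : G) ^ i, zpow_mem (mem_zpowers _) i⟩), Subtype.ext ?_⟩
        show ((y : G) ^ i)⁻¹ * g * (y : G) ^ i = g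
        rw [mul_assoc, ← (hgy.zpow_left i).eq, inv_mul_cancel_left]
    rw [← Nat.card_eq_of_bijective f hf, Nat.card_prod, hU2, Nat.card_zpowers, hyo]
  obtain ⟨C, hC⟩ : ∃ C : Subgroup G, C = centralizer ({(y : G)} : Set G) := ⟨_, rfl⟩
  have hC18 : Nat.card C = 18 := by
    have hst : stabilizer C (pt₀ S) = (Nr S).subgroupOf C := by
      ext g
      rw [MulAction.mem_stabilizer_iff, mem_subgroupOf, ← mem_Nr_iff]
      exact Iff.rfl
    have hcs : Nat.card (stabilizer C (pt₀ S)) = 2 * r := by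
      rw [hst, ← hK2, hK, ← hC,
        ← Nat.card_congr (subgroupOfEquivOfLe (inf_le_left : C ⊓ Nr S ≤ C)).toEquiv,
        inf_subgroupOf_left]
    have horb : Nat.card (orbit C (pt₀ S)) = n := by
      rw [hn]
      refine Nat.card_congr (Equiv.subtypeEquivRight fun P => ?_)
      constructor
      · rintro ⟨g, rfl⟩
        show (y : G) • (g : G) • pt₀ S = (g : G) • pt₀ S
        rw [← mul_smul, (mem_centralizer_singleton.1 (hC ▸ g.2) : Commute (y : G) g).eq, mul_smul,
          hy0]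
      · intro hP
        by_cases h0 : P = pt₀ S
        · exact ⟨1, by rw [h0]; exact one_smul _ _⟩
        · obtain ⟨w, -, hw, hwy⟩ := hswap P h0 hP
          exact ⟨⟨w, hC ▸ mem_centralizer_singleton.2 hwy⟩, hw⟩
    rw [← (stabilizer C (pt₀ S)).card_mul_index, index_stabilizer, hcs,
      ← Nat.card_coe_set_eq, horb, hnU, hU2, hr3]
  subst hr3
  refine corner_false c.h c.noncomm (fun t v g h1 h2 h3 h4 h5 => c.not_inverted h1 h2 h3 h4 h5)
    hyo ht (hUmem.1 htU).2.symm (hC ▸ hC18) ?_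
  have hle : centralizer ({(y : G)} : Set G) ⊓ centralizer ({t} : Set G) ≤ K :=
    hK ▸ inf_le_inf_left _ (c.hcent t htS (invol_ne_one ht))
  have := Subgroup.card_le_of_le hle
  omega

end CfsgLib.Recog.TwoR.Rank3

namespace CfsgLib.Recog.TwoR

open Rank3 in
/-- A simple group with the element-order hypothesis, Sylow `2`-subgroup of order at least eight
and all involution centralisers in `N(S)` has no element of order `2r`. -/
theorem false_of_centralizer_le {G : Type*} [Group G] [Finite G] [hs : IsSimpleGroup G] {r : ℕ}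
    (h : Ord2r G r) (S : Sylow 2 G) (h8 : 8 ≤ Nat.card (S : Subgroup G))
    (hcent : ∀ t ∈ (S : Subgroup G), t ≠ 1 →
      Subgroup.centralizer ({t} : Set G) ≤ Subgroup.normalizer ((S : Subgroup G) : Set G))
    (hex : ∃ g : G, orderOf g = 2 * r) : False := by
  have c : Ctx G r S := ⟨h, hs, h8, hcent⟩
  obtain ⟨g, hg⟩ := hex
  rcases aut_cases (S := (S : Subgroup G)) (A := AG S) h.prime h.odd
      (fun x => Subtype.ext (c.sq_one x.2)) h8 c.odd_AG c.trans c.sep c.fix_pow with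
    ⟨hA, hcard, hsemi⟩ | ⟨F, hFn, -, hcard, hidx, hrF, hsemi, hcentr, hout⟩
  · refine c.no_2r hsemi ?_ hg
    have hcard' : Nat.card (⊤ : Subgroup (AG S)) + 1 = Nat.card (S : Subgroup G) := by
      rw [Subgroup.card_top]; exact hcard
    rcases hA with hndvd | hA
    · have hF : Frob r S ⊤ := ⟨hcard', fun a _ => hsemi a, fun _ _ => Subgroup.mem_top _,
        c.free_of_not_dvd (fun _ _ => Subgroup.mem_top _) (by rwa [Subgroup.card_top])⟩
      exact c.noX_of_zassenhaus hF fun f _ => c.coprime_CS (c.odd_orderOf_AG f)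
        fun e => hndvd (e.trans (orderOf_dvd_natCard f))
    · have hF : Frob r S ⊤ := ⟨hcard', fun a _ => hsemi a, fun _ _ => Subgroup.mem_top _,
        fun x hx d hd hdx => c.pair_false hA hsemi hx hd hdx⟩
      exact c.noX_of_card hA hF
  · exact c.frobenius_false hcard hidx hrF hsemi hcentr hout

end CfsgLib.Recog.TwoR
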