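import Cfsg.Agent.Lib.Recog.TwoR.Basic
import Cfsg.Agent.Lib.Recog.CIT.SimpleNormal
import Cfsg.Agent.Lib.Recog.CIT.SE

/-!
In a group of this kind without soluble normal subgroups a minimal normal subgroup is simple with
trivial centraliser; and the soluble radical.
-/

set_option autoImplicit false
set_option linter.dupNamespace false
set_option linter.style.haveILetI false
set_option linter.unusedSectionVars false

namespace CfsgLib.Recog.TwoR

open Subgroup

universe u

variable {G : Type u} [Group G] [Finite G] {r : ℕ}

/-- A normal soluble subgroup with semisimple quotient. -/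
theorem exists_solvable_normal_max (G : Type u) [Group G] [Finite G] :
    ∃ N : Subgroup G, ∃ _ : N.Normal, Group.IsSolvable N ∧
      ∀ K : Subgroup (G ⧸ N), K.Normal → Group.IsSolvable K → K = ⊥ := by
  obtain ⟨N, -, hN⟩ := Finite.exists_le_maximal
    (p := fun N : Subgroup G => N.Normal ∧ Group.IsSolvable N) (a := ⊥)
    ⟨inferInstance, Group.isSolvable_of_comm fun a b => Subsingleton.elim _ _⟩
  obtain ⟨⟨hNn, hNs⟩, hmax⟩ := hN
  refine ⟨N, hNn, hNs, fun K hK hKs => ?_⟩
  set π := QuotientGroup.mk' N with hπ
  set M := K.comap π with hM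
  have hNM : N ≤ M := fun x hx => by
    show π x ∈ K
    rw [show π x = 1 from (QuotientGroup.eq_one_iff x).2 hx]
    exact one_mem K
  haveI := hNs
  haveI := hKs
  have hMs : Group.IsSolvable M := by
    refine Group.isSolvable_of_ker_le_range (inclusion hNM) (π.subgroupComap K) ?_
    intro x hx
    have hx' : (x : G) ∈ N := (QuotientGroup.eq_one_iff _).1 (congrArg Subtype.val hx)
    exact ⟨⟨x, hx'⟩, rfl⟩
  have hle := hmax ⟨hK.comap π, hMs⟩ hNM
  refine (eq_bot_iff_forall _).2 fun q hq => ?_
  obtain ⟨g, rfl⟩ := QuotientGroup.mk'_surjective N q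
  exact (QuotientGroup.eq_one_iff g).2 (hle hq)

/-- A subgroup commuting elementwise with an involution has all odd prime divisors equal to `r`,
hence is soluble. -/
theorem Ord2r.isSolvable_of_invol_commute (h : Ord2r G r) {t : G} (ht : orderOf t = 2)
    {K : Subgroup G} (hK : ∀ x ∈ K, Commute t x) : Group.IsSolvable K :=
  isSolvable_of_exp h.prime fun x =>
    Subtype.ext (by rw [SubmonoidClass.coe_pow]; exact h.pow_two_r' ht (hK x x.2))

/-- Without soluble normal subgroups, a minimal normal subgroup is simple and self-centralising. -/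
theorem exists_simple_normal (h : Ord2r G r) (hns : ¬ Group.IsSolvable G)
    (hrad : ∀ K : Subgroup G, K.Normal → Group.IsSolvable K → K = ⊥) :
    ∃ E : Subgroup G, ∃ _ : E.Normal, IsSimpleGroup E ∧ (∃ a b : E, a * b ≠ b * a) ∧
      centralizer (E : Set G) = ⊥ := by
  haveI : Nontrivial G := not_subsingleton_iff_nontrivial.1 fun hs => hns
    (Group.isSolvable_of_comm fun a b => Subsingleton.elim _ _)
  obtain ⟨E, hE⟩ := Base.exists_isMinimalNormal (G := G)
  haveI := hE.normal
  have hEns : ¬ Group.IsSolvable E := fun hs => hE.ne_bot (hrad E hE.normal hs)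
  have hcent : centralizer (E : Set G) = ⊥ := by
    haveI : (centralizer (E : Set G)).Normal := inferInstance
    refine hrad _ inferInstance ?_
    by_contra hCns
    obtain ⟨t, ht⟩ := CIT.exists_invol_of_nonsolvable hCns
    refine hEns (h.isSolvable_of_invol_commute (t := (t : G)) (by rwa [orderOf_coe]) fun x hx => ?_)
    exact (mem_centralizer_iff.1 t.2 x hx).symm
  refine ⟨E, hE.normal, ?_, ?_, hcent⟩
  · haveI : Nontrivial E := (Subgroup.nontrivial_iff_ne_bot _).2 hE.ne_bot
    refine ⟨fun M hM => ?_⟩
    by_contra hMM
    push Not at hMM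
    haveI := hM
    obtain ⟨K, hKM, hK⟩ := Base.exists_isMinimalNormal_le (N := M) hMM.1
    haveI := hK.normal
    have hKns : ¬ Group.IsSolvable K := fun hs => by
      obtain ⟨p, hp, -, -, hP⟩ := hK.exists_prime hs
      haveI := Fact.mk hp
      haveI : (Cfsg.pCore p E).Characteristic := inferInstance
      have hsol : Group.IsSolvable ((Cfsg.pCore p E).map E.subtype : Subgroup G) := by
        haveI : Group.IsNilpotent ((Cfsg.pCore p E).map E.subtype : Subgroup G) :=
          ((Base.isPGroup_pCore p E).map E.subtype).isNilpotent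
        infer_instance
      have h0 := hrad _ inferInstance hsol
      rw [Subgroup.map_eq_bot_iff_of_injective _ E.subtype_injective] at h0
      exact hK.ne_bot (le_bot_iff.1 (h0 ▸ Base.le_pCore hP))
    by_cases hall : ∀ g : G, K.map (MulAut.conjNormal g : MulAut E).toMonoidHom = K
    · haveI hKY : (K.map E.subtype).Normal := ⟨by
        rintro _ ⟨a, ha, rfl⟩ g
        have h1 : (MulAut.conjNormal g : MulAut E) a ∈ K := by
          rw [← hall g]; exact Subgroup.mem_map_of_mem _ ha
        exact ⟨_, h1, MulAut.conjNormal_apply g a⟩⟩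
      rcases hE.eq_bot_or_eq hKY (Subgroup.map_subtype_le K) with h0 | h1
      · exact hK.ne_bot ((Subgroup.map_eq_bot_iff_of_injective _ E.subtype_injective).1 h0)
      · apply hMM.2
        refine top_le_iff.1 ((le_of_eq ?_).trans hKM)
        apply Subgroup.map_injective E.subtype_injective
        rw [h1, ← MonoidHom.range_eq_map, Subgroup.range_subtype]
    push Not at hall
    obtain ⟨g, hg⟩ := hall
    set e : E →* E := (MulAut.conjNormal g : MulAut E).toMonoidHom with he
    have hK' : Base.IsMinimalNormal (K.map e) := by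
      refine ⟨hK.normal.map _ (MulEquiv.surjective _), fun e' => hK.ne_bot
        ((Subgroup.map_eq_bot_iff_of_injective _ (MulEquiv.injective _)).1 e'), fun L hL hLK => ?_⟩
      rcases hK.eq_bot_or_eq (hL.comap e)
        ((Subgroup.comap_mono hLK).trans
          (Subgroup.comap_map_eq_self_of_injective (MulEquiv.injective _) K).le) with h0 | h1
      · left
        rw [← Subgroup.map_comap_eq_self_of_surjective (f := e) (MulEquiv.surjective _) L, h0,
          Subgroup.map_bot]
      · right
        rw [← Subgroup.map_comap_eq_self_of_surjective (f := e) (MulEquiv.surjective _) L, h1]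
    obtain ⟨t, ht⟩ := CIT.exists_invol_of_nonsolvable (Y := ↥(K.map e)) fun hs => hKns
      (haveI := hs; Group.isSolvable_of_isSolvable_injective
        (f := (e.subgroupMap K)) fun a b hab => Subtype.ext
          ((MulEquiv.injective (MulAut.conjNormal g : MulAut E)) (congrArg Subtype.val hab)))
    refine hKns ((h.subgroup E).isSolvable_of_invol_commute (t := (t : E))
      (by rwa [orderOf_coe]) fun x hx => ?_)
    exact (mem_centralizer_iff.1 (hK'.le_centralizer_of_ne hK hg t.2) x hx).symm
  · by_contra hno
    push Not at hno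
    exact hEns (Group.isSolvable_of_comm hno)

end CfsgLib.Recog.TwoR
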