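import Cfsg.Agent.Lib.Recog.TwoR.EvenNormal
import Cfsg.Agent.Lib.Recog.TwoR.Frame
import Cfsg.Agent.Lib.Recog.TwoR.Socle
import Cfsg.Agent.Lib.Recog.TwoR.Rank3
import Cfsg.Agent.Lib.Recog.TwoR.CitNormal
import Cfsg.Agent.Lib.Recog.TwoR.Radical
import Cfsg.Agent.Lib.Recog.TwoR.PSLFacts

/-!
Recognition of `PSL₂(q)`, `q ≡ 3, 5 (mod 8)`, by the even element orders `2`, `2r`.

Interface: `CfsgLib.Recog.TwoR.isPSL`.
-/

set_option autoImplicit false
set_option linter.dupNamespace false
set_option linter.style.haveILetI false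
set_option linter.unusedSectionVars false

namespace CfsgLib.Recog.TwoR

open Subgroup

universe u

variable {G : Type u} [Group G] [Finite G] {r : ℕ}

/-- A simple group of this kind with an element of order `2r` has a four-group as Sylow
`2`-subgroup. -/
theorem card_sylow_eq_four [IsSimpleGroup G] (h : Ord2r G r) (hnab : ∃ a b : G, a * b ≠ b * a)
    (hex : ∃ g : G, orderOf g = 2 * r) (S : Sylow 2 G) : Nat.card (S : Subgroup G) = 4 := by
  classical
  haveI : Fact (Nat.Prime 2) := ⟨Nat.prime_two⟩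
  obtain ⟨n, hn⟩ := IsPGroup.iff_card.1 S.2
  have hlt : Nat.card (S : Subgroup G) < 8 := by
    by_contra hge
    exact false_of_centralizer_le h S (not_lt.1 hge)
      (centralizer_le_normalizer h hnab S (not_lt.1 hge)) hex
  have hgt : 2 < Nat.card (S : Subgroup G) := by
    obtain ⟨a, b, ha, hb, hab, hc⟩ := CIT.exists_four hnab
    have hpa : IsPGroup 2 (zpowers a) :=
      IsPGroup.of_card (n := 1) (by rw [Nat.card_zpowers, ha, pow_one])
    have hpb : IsPGroup 2 (zpowers b) :=
      IsPGroup.of_card (n := 1) (by rw [Nat.card_zpowers, hb, pow_one])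
    have hle : zpowers a ≤ normalizer (zpowers b : Set G) := by
      refine zpowers_le.2 (mem_normalizer_fintype fun x hx => ?_)
      obtain ⟨i, rfl⟩ := mem_zpowers_iff.1 hx
      show a * b ^ i * a⁻¹ ∈ zpowers b
      rw [(hc.zpow_right i).eq, mul_inv_cancel_right]
      exact zpow_mem (mem_zpowers b) i
    obtain ⟨P, hP⟩ := (hpa.to_sup_of_normal_right' hpb hle).exists_le_sylow
    rw [S.card_eq_multiplicity, ← P.card_eq_multiplicity]
    let f : Fin 3 → (P : Subgroup G) := ![1, ⟨a, hP (mem_sup_left (mem_zpowers a))⟩,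
      ⟨b, hP (mem_sup_right (mem_zpowers b))⟩]
    have ha1 : a ≠ 1 := fun e => by rw [e, orderOf_one] at ha; omega
    have hb1 : b ≠ 1 := fun e => by rw [e, orderOf_one] at hb; omega
    have hf : Function.Injective f := by
      intro i j hij
      have h' := congrArg Subtype.val hij
      fin_cases i <;> fin_cases j <;>
        simp [f, ha1, hb1, hab, Ne.symm ha1, Ne.symm hb1, Ne.symm hab] at h' ⊢
    haveI := Fintype.ofFinite (P : Subgroup G)
    have := Fintype.card_le_of_injective f hf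
    rw [Fintype.card_fin, ← Nat.card_eq_fintype_card] at this
    omega
  rw [hn] at hlt hgt ⊢
  rcases n with _ | _ | _ | n
  · norm_num at hgt
  · norm_num at hgt
  · rfl
  · rw [pow_succ, pow_succ, pow_succ] at hlt
    have : 1 ≤ 2 ^ n := Nat.one_le_two_pow
    omega

/-- A nonsoluble group in which the orders divisible by `2` are `2`, `2r` and those divisible by
`r` are `r`, `2r`, with an element of order `2r`, is `PSL₂(q)` with `q ≡ 3, 5 (mod 8)`. -/
theorem isPSL (h : Ord2r G r) (hns : ¬ Group.IsSolvable G) (hex : ∃ g : G, orderOf g = 2 * r) :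
    ∃ (F : Type) (_ : Field F) (_ : Fintype F), 5 < Fintype.card F ∧
      (Fintype.card F % 8 = 3 ∨ Fintype.card F % 8 = 5) ∧
      Nonempty (G ≃* Matrix.ProjectiveSpecialLinearGroup (Fin 2) F) := by
  classical
  haveI : Fact (Nat.Prime 2) := ⟨Nat.prime_two⟩
  obtain ⟨N, hNn, hNs, hrad⟩ := exists_solvable_normal_max G
  haveI := hNs
  have hQ : Ord2r (G ⧸ N) r := h.of_surjective _ (QuotientGroup.mk'_surjective N)
  have hQns : ¬ Group.IsSolvable (G ⧸ N) := fun hq => hns (CIT.isSolvable_of_normal N hNs hq)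
  obtain ⟨E, hEn, hEs, hnab, hcent⟩ := exists_simple_normal hQ hQns hrad
  have htop : E = ⊤ := by
    by_cases hE : ∃ x : E, orderOf x = 2 * r
    · obtain ⟨T⟩ : Nonempty (Sylow 2 E) := inferInstance
      exact eq_top_of_four hQ E hnab hE T (card_sylow_eq_four (hQ.subgroup E) hnab hE T)
    · exact eq_top_of_no_ord hQ E hnab hcent fun x hx e => hE ⟨⟨x, hx⟩, by
        rw [← Subgroup.orderOf_coe]; exact e⟩
  subst htop
  haveI : Nontrivial (G ⧸ N) := not_subsingleton_iff_nontrivial.1 fun hs => hQns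
    (Group.isSolvable_of_comm fun a b => Subsingleton.elim _ _)
  haveI : IsSimpleGroup (G ⧸ N) :=
    IsSimpleGroup.isSimpleGroup_of_surjective (Subgroup.topEquiv : (⊤ : Subgroup (G ⧸ N)) ≃* _).toMonoidHom
      (Subgroup.topEquiv : (⊤ : Subgroup (G ⧸ N)) ≃* _).surjective
  obtain ⟨a, b, hab⟩ := hnab
  have hnabQ : ∃ a b : G ⧸ N, a * b ≠ b * a :=
    ⟨a, b, fun e => hab (Subtype.ext e)⟩
  have hN : N = ⊥ := eq_bot_of_solvable_normal h N hnabQ
  subst hN
  let e : G ≃* G ⧸ (⊥ : Subgroup G) := QuotientGroup.quotientBot.symm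
  haveI : Nontrivial G := e.toEquiv.nontrivial
  haveI : IsSimpleGroup G :=
    IsSimpleGroup.isSimpleGroup_of_surjective e.symm.toMonoidHom e.symm.surjective
  obtain ⟨a, b, hab⟩ := hnabQ
  have hnabG : ∃ a b : G, a * b ≠ b * a := ⟨e.symm a, e.symm b, fun hh => hab (by
    rw [← map_mul, ← map_mul] at hh; exact e.symm.injective hh)⟩
  obtain ⟨S⟩ : Nonempty (Sylow 2 G) := inferInstance
  have h4 := card_sylow_eq_four h hnabG hex S
  obtain ⟨F, iF, jF, hodd, ⟨i⟩⟩ := exists_psl_of_simple_four h S h4 hnabG hex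
  obtain ⟨h5, h8⟩ := psl_facts h S h4 hex hodd i
  exact ⟨F, iF, jF, h5, h8, ⟨i⟩⟩

end CfsgLib.Recog.TwoR
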