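import Cfsg.Agent.Lib.Recog.TwoR.Rank3Setup

/-!
Rank at least three: the group `A` induced by `N(S)` on `S` and the involutions swapping two points.
-/

set_option autoImplicit false
set_option linter.dupNamespace false
set_option linter.style.haveILetI false
set_option linter.unusedSectionVars false

namespace CfsgLib.Recog.TwoR.Rank3

open Subgroup MulAction CfsgLib.Involutions

universe u

variable {G : Type u} [Group G]

/-- The group of automorphisms of `S` induced by its normaliser. -/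
abbrev AG (S : Sylow 2 G) : Subgroup (MulAut (S : Subgroup G)) :=
  ((S : Subgroup G).normalizerMonoidHom).range

/-- The automorphism induced by an element of `N(S)`. -/
noncomputable abbrev actR (S : Sylow 2 G) : Nr S →* AG S :=
  ((S : Subgroup G).normalizerMonoidHom).rangeRestrict

/-- Only the identity fixes a nontrivial element of `S`. -/
def Semi {S : Sylow 2 G} (a : AG S) : Prop :=
  ∀ x : (S : Subgroup G), x ≠ 1 → a • x = x → a = 1

variable {r : ℕ} {S : Sylow 2 G}

theorem actR_smul (m : Nr S) (x : (S : Subgroup G)) :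
    ((actR S m • x : (S : Subgroup G)) : G) = m * x * (m : G)⁻¹ := rfl

theorem actR_eq_one_iff (m : Nr S) :
    actR S m = 1 ↔ (m : G) ∈ centralizer ((S : Subgroup G) : Set G) := by
  rw [← MonoidHom.mem_ker, MonoidHom.ker_rangeRestrict, normalizerMonoidHom_ker, mem_subgroupOf]

theorem actR_fix_iff (m : Nr S) (x : (S : Subgroup G)) :
    actR S m • x = x ↔ Commute (x : G) m := by
  rw [Subtype.ext_iff, actR_smul, mul_inv_eq_iff_eq_mul]
  exact eq_comm

instance : FaithfulSMul (AG S) (S : Subgroup G) :=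
  ⟨fun h => Subtype.ext (DFunLike.ext _ _ h)⟩

variable [Finite G]

theorem Ctx.odd_AG (c : Ctx G r S) : Odd (Nat.card (AG S)) := by
  haveI : Fact (Nat.Prime 2) := ⟨Nat.prime_two⟩
  rw [← Subgroup.index_ker]
  have h1 : (S : Subgroup G).subgroupOf (Nr S) ≤ ((S : Subgroup G).normalizerMonoidHom).ker := by
    rw [normalizerMonoidHom_ker]
    intro m hm
    rw [mem_subgroupOf] at hm ⊢
    exact mem_centralizer_iff.2 fun a ha => (c.comm ha hm).eq
  have h2 : ¬ 2 ∣ (S : Subgroup G).index := S.not_dvd_index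
  rw [← relIndex_mul_index (le_normalizer : (S : Subgroup G) ≤ Nr S)] at h2
  rw [← Nat.not_even_iff_odd, even_iff_two_dvd]
  exact fun h => h2 (dvd_mul_of_dvd_left (h.trans (index_dvd_of_le h1)) _)

theorem Ctx.odd_orderOf_AG (c : Ctx G r S) (a : AG S) : Odd (orderOf a) :=
  c.odd_AG.of_dvd_nat (orderOf_dvd_natCard a)

theorem Ctx.trans (c : Ctx G r S) (x y : (S : Subgroup G)) (hx : x ≠ 1) (hy : y ≠ 1) :
    ∃ a : AG S, a • x = y := by
  have hxo := c.orderOf_mem x.2 fun e => hx (Subtype.ext e)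
  have hyo := c.orderOf_mem y.2 fun e => hy (Subtype.ext e)
  obtain ⟨g, hg⟩ := isConj_iff.1 (SE.isConj c.se hxo hyo)
  have hgM : g ∈ Nr S :=
    SE.mem_of_conj c.se hxo (le_normalizer x.2) (by rw [hg]; exact le_normalizer y.2)
  exact ⟨actR S ⟨g, hgM⟩, Subtype.ext (by rw [actR_smul]; exact hg)⟩

theorem Ctx.sep (c : Ctx G r S) (a : AG S) (ha : r ∣ orderOf a) : orderOf a = r := by
  obtain ⟨m, hm⟩ := exists_orderOf_eq (f := actR S) (MonoidHom.rangeRestrict_surjective _) a
  have h1 : orderOf (m : G) = orderOf a := by rw [orderOf_coe, hm]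
  rcases c.h.rdvd m (h1 ▸ ha) with e | e
  · rw [← h1, e]
  · exfalso
    have := c.odd_orderOf_AG a
    rw [← h1, e] at this
    exact absurd this (Nat.not_odd_iff_even.2 (even_two_mul r))

theorem Ctx.fix_pow (c : Ctx G r S) (a : AG S) (x : (S : Subgroup G)) (hx : x ≠ 1)
    (ha : a • x = x) : a ^ r = 1 := by
  obtain ⟨m, rfl⟩ := MonoidHom.rangeRestrict_surjective _ a
  have h1 := c.h.pow_two_r' (c.orderOf_mem x.2 fun e => hx (Subtype.ext e))
    ((actR_fix_iff m x).1 ha)
  have h2 : (actR S m ^ r) ^ 2 = 1 := by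
    rw [← pow_mul, ← map_pow, mul_comm, show m ^ (2 * r) = 1 from Subtype.ext h1, map_one]
  exact eq_one_of_eq_inv_of_odd (mul_eq_one_iff_eq_inv.1 (by rw [← pow_two]; exact h2))
    (c.odd_orderOf_AG _)

/-- The number of involutions carrying one point to another. -/
theorem Ctx.card_carriers (c : Ctx G r S) {x y : Pt S} (hxy : x ≠ y) :
    Nat.card {i : G // orderOf i = 2 ∧ i • x = y} + 1 = Nat.card (S : Subgroup G) := by
  classical
  obtain ⟨t, htS, ht⟩ := c.exists_invol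
  obtain ⟨a, rfl⟩ := QuotientGroup.mk_surjective x
  rw [SE.card_carry c.se (conj_invol a ht) hxy (SE.smul_mk_eq_iff.2
    (by rw [show a⁻¹ * (a * t * a⁻¹) * a = t by group]; exact le_normalizer htS)), SE.card_fixing]
  have h1 : Nat.card {x : (S : Subgroup G) // x = 1} + Nat.card {x : (S : Subgroup G) // x ≠ 1} =
      Nat.card (S : Subgroup G) := by
    rw [← Nat.card_sum]; exact Nat.card_congr (Equiv.sumCompl _)
  rw [Nat.card_unique] at h1
  rw [← h1, add_comm]
  congr 1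
  exact Nat.card_congr
    { toFun := fun s => ⟨⟨s, c.invol_mem s.2.2 s.2.1⟩,
        fun e => invol_ne_one s.2.1 (congrArg Subtype.val e)⟩
      invFun := fun x => ⟨x.1, c.orderOf_mem x.1.2 fun e => x.2 (Subtype.ext e),
        le_normalizer x.1.2⟩
      left_inv := fun _ => rfl
      right_inv := fun _ => rfl }

theorem Ctx.exists_carrier (c : Ctx G r S) {x y : Pt S} (hxy : x ≠ y) :
    ∃ v : G, orderOf v = 2 ∧ v • x = y ∧ v • y = x := by
  have h1 := c.card_carriers hxy
  have h8 := c.h8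
  obtain ⟨⟨v, hv, hvx⟩⟩ := (Nat.card_pos_iff.1 (show 0 < Nat.card
    {i : G // orderOf i = 2 ∧ i • x = y} by omega)).1
  exact ⟨v, hv, hvx, by rw [← hvx, ← mul_smul, invol_mul_self hv, one_smul]⟩

theorem Ctx.carrier_prod (_c : Ctx G r S) {x y : Pt S} {i v : G} (hi : orderOf i = 2)
    (hv : orderOf v = 2) (hix : i • x = y) (hvx : v • x = y) :
    (i * v) • x = x ∧ (i * v) • y = y ∧ v * (i * v) * v⁻¹ = (i * v)⁻¹ := by
  refine ⟨?_, ?_, ?_⟩
  · rw [mul_smul, hvx, ← hix, ← mul_smul, invol_mul_self hi, one_smul]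
  · rw [mul_smul]
    conv_lhs => rw [← hvx, ← mul_smul v v, invol_mul_self hv, one_smul, hix]
  · rw [mul_inv_rev, invol_inv hi, invol_inv hv, mul_assoc, mul_assoc, invol_mul_self hv, mul_one]

theorem Ctx.odd_two {x y : Pt S} {d : G} (c : Ctx G r S) (hxy : x ≠ y) (hx : d • x = x)
    (hy : d • y = y) : Odd (orderOf d) :=
  SE.odd_of_two_fixed c.se hxy hx hy

/-- An element of `C(S)` fixing a second point has exponent `r`. -/
theorem Ctx.inX_of_two {x : Pt S} {d : G} (c : Ctx G r S) (hx : x ≠ pt₀ S)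
    (hd : d ∈ centralizer ((S : Subgroup G) : Set G)) (hdx : d • x = x) : InX r (pt₀ S) d := by
  obtain ⟨t, htS, ht⟩ := c.exists_invol
  have hd0 : d • pt₀ S = pt₀ S := mem_Nr_iff.2 (centralizer_le_normalizer _ hd)
  exact c.inX_pt₀.2 ⟨hd, c.h.pow_r_of_commute_two ht (c.odd_two hx hdx hd0)
    (mem_centralizer_iff.1 hd t htS)⟩

/-- (L3): inverted elements of a two-point stabiliser are determined by their action on `S`. -/
theorem Ctx.inverted_eq {x : Pt S} {v k k' : G} (c : Ctx G r S) (hx : x ≠ pt₀ S)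
    (hv : orderOf v = 2) (hvx : v • pt₀ S = x) (hk0 : k • pt₀ S = pt₀ S) (hk1 : k • x = x)
    (hk0' : k' • pt₀ S = pt₀ S) (hk1' : k' • x = x) (hi : v * k * v⁻¹ = k⁻¹)
    (hi' : v * k' * v⁻¹ = k'⁻¹) (hC : k⁻¹ * k' ∈ centralizer ((S : Subgroup G) : Set G)) :
    k = k' := by
  obtain ⟨y, hy⟩ : ∃ y, y = k⁻¹ * k' := ⟨_, rfl⟩
  rw [← hy] at hC
  have h1 : InX r (pt₀ S) y := c.inX_of_two hx hC (by
    rw [hy, mul_smul, hk1', inv_smul_eq_iff, hk1])
  by_contra hne
  have hy1 : y ≠ 1 := fun e => hne (inv_mul_eq_one.1 (hy ▸ e))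
  have h2 : v * y * v⁻¹ = k * y⁻¹ * k⁻¹ := by
    calc v * y * v⁻¹ = (v * k * v⁻¹)⁻¹ * (v * k' * v⁻¹) := by rw [hy]; group
      _ = k * y⁻¹ * k⁻¹ := by rw [hi, hi', hy]; group
  have hinv : InX r (pt₀ S) y⁻¹ :=
    ⟨by rw [inv_pow, h1.1, inv_one], fun w hw hwx => (h1.2 w hw hwx).inv_right⟩
  have h3 := hinv.conj k
  rw [hk0, ← h2] at h3
  have h4 := h3.conj v
  rw [hvx, invol_inv hv, show v * (v * y * v) * v = v * v * y * (v * v) by group,
    invol_mul_self hv, one_mul, mul_one] at h4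
  exact hx (c.inX_unique h4 h1 hy1)

/-- The automorphism induced by an inverted element fixing a nontrivial element of `S` is trivial. -/
theorem Ctx.semi_of_inverted (c : Ctx G r S) {v : G} (hv : orderOf v = 2) (m : Nr S)
    (hodd : Odd (orderOf (m : G))) (hi : v * m * v⁻¹ = (m : G)⁻¹) : Semi (actR S m) := by
  intro x hx hfix
  have := c.not_inverted (c.orderOf_mem x.2 fun e => hx (Subtype.ext e)) hv hodd
    ((actR_fix_iff m x).1 hfix) hi
  rw [show m = 1 from Subtype.ext this, map_one]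

/-- The carriers give pairwise different semiregular automorphisms of `S`. -/
theorem Ctx.carrier_map {x : Pt S} {v : G} (c : Ctx G r S) (hx : x ≠ pt₀ S)
    (hv : orderOf v = 2) (hvx : v • pt₀ S = x) :
    ∃ f : {i : G // orderOf i = 2 ∧ i • pt₀ S = x} → AG S, Function.Injective f ∧
      ∀ i, Semi (f i) ∧ ∃ hm : (i : G) * v ∈ Nr S, f i = actR S ⟨_, hm⟩ := by
  have hm : ∀ i : {i : G // orderOf i = 2 ∧ i • pt₀ S = x}, (i : G) * v ∈ Nr S := fun i =>
    mem_Nr_iff.1 (c.carrier_prod i.2.1 hv i.2.2 hvx).1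
  refine ⟨fun i => actR S ⟨_, hm i⟩, fun i j e => ?_, fun i => ⟨?_, hm i, rfl⟩⟩
  · obtain ⟨hi0, hi1, hii⟩ := c.carrier_prod i.2.1 hv i.2.2 hvx
    obtain ⟨hj0, hj1, hji⟩ := c.carrier_prod j.2.1 hv j.2.2 hvx
    have h1 : actR S ((⟨_, hm i⟩ : Nr S)⁻¹ * ⟨_, hm j⟩) = 1 := by
      rw [map_mul, map_inv, inv_mul_eq_one]; exact e
    have := c.inverted_eq hx hv hvx hi0 hi1 hj0 hj1 hii hji ((actR_eq_one_iff _).1 h1)
    exact Subtype.ext (mul_right_cancel this)
  · obtain ⟨hi0, hi1, hii⟩ := c.carrier_prod i.2.1 hv i.2.2 hvx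
    exact c.semi_of_inverted hv _ (c.odd_two hx.symm hi0 hi1) hii

end CfsgLib.Recog.TwoR.Rank3
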