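import Cfsg.Agent.Lib.Recog.TwoR.Basic
import Cfsg.Agent.Lib.Involutions.StrongEmbCosets
import Cfsg.Agent.Lib.Coprime.Action2

/-!
Rank at least three, every involution centraliser inside `N(S)`: the local structure.

`M = N(S)` is strongly embedded, `InX x y` says that `y` is an element of exponent `r`
centralising every involution fixing the coset `x`, and the centraliser of such an element fixes `x`.
-/

set_option autoImplicit false
set_option linter.dupNamespace false
set_option linter.style.haveILetI false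
set_option linter.unusedSectionVars false

namespace CfsgLib.Recog.TwoR.Rank3

open Subgroup MulAction CfsgLib.Involutions

universe u

variable {G : Type u} [Group G]

/-- The standing hypotheses. -/
structure Ctx (G : Type u) [Group G] (r : ℕ) (S : Sylow 2 G) : Prop where
  h : Ord2r G r
  simple : IsSimpleGroup G
  h8 : 8 ≤ Nat.card (S : Subgroup G)
  hcent : ∀ t ∈ (S : Subgroup G), t ≠ 1 →
    centralizer ({t} : Set G) ≤ normalizer ((S : Subgroup G) : Set G)

/-- The normaliser of `S`. -/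
abbrev Nr (S : Sylow 2 G) : Subgroup G := normalizer ((S : Subgroup G) : Set G)

/-- The points. -/
abbrev Pt (S : Sylow 2 G) : Type u := G ⧸ Nr S

/-- The base point. -/
abbrev pt₀ (S : Sylow 2 G) : Pt S := ((1 : G) : G ⧸ Nr S)

/-- Exponent `r` and centralising every involution which fixes `x`. -/
def InX (r : ℕ) {S : Sylow 2 G} (x : Pt S) (y : G) : Prop :=
  y ^ r = 1 ∧ ∀ v : G, orderOf v = 2 → v • x = x → Commute v y

variable {r : ℕ} {S : Sylow 2 G}

theorem mem_Nr_iff {g : G} : g • pt₀ S = pt₀ S ↔ g ∈ Nr S := by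
  rw [SE.smul_mk_eq_iff, inv_one, one_mul, mul_one]

theorem InX.conj {x : Pt S} {y : G} (h : InX r x y) (g : G) :
    InX r (g • x) (g * y * g⁻¹) := by
  refine ⟨by rw [conj_pow, h.1, mul_one, mul_inv_cancel], fun v hv hvx => ?_⟩
  have h1 : orderOf (g⁻¹ * v * g) = 2 := by
    have := conj_invol g⁻¹ hv
    rwa [inv_inv] at this
  have h2 := h.2 _ h1 (by rw [mul_smul, mul_smul, hvx, inv_smul_smul])
  show v * (g * y * g⁻¹) = g * y * g⁻¹ * v
  calc v * (g * y * g⁻¹) = g * ((g⁻¹ * v * g) * y) * g⁻¹ := by group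
    _ = g * (y * (g⁻¹ * v * g)) * g⁻¹ := by rw [h2.eq]
    _ = g * y * g⁻¹ * v := by group

variable [Finite G]

theorem Ctx.two_lt (c : Ctx G r S) : 2 < r := c.h.two_lt

theorem Ctx.mem_of_two {s : G} (_c : Ctx G r S) (hs : s ∈ Nr S) {k : ℕ} (hk : orderOf s = 2 ^ k) :
    s ∈ (S : Subgroup G) := by
  have hp : IsPGroup 2 (zpowers s) := by
    rw [IsPGroup.iff_card]; exact ⟨k, by rw [Nat.card_zpowers, hk]⟩
  have := S.is_maximal' (IsPGroup.to_sup_of_normal_left' S.isPGroup' hp (zpowers_le.2 hs))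
    le_sup_left
  exact this.le ((le_sup_right : zpowers s ≤ (S : Subgroup G) ⊔ zpowers s) (mem_zpowers s))

theorem Ctx.invol_mem {s : G} (c : Ctx G r S) (hs : s ∈ Nr S) (h2 : orderOf s = 2) :
    s ∈ (S : Subgroup G) :=
  c.mem_of_two hs (k := 1) (by rw [h2, pow_one])

theorem Ctx.sq_one {s : G} (c : Ctx G r S) (hs : s ∈ (S : Subgroup G)) : s * s = 1 :=
  c.h.mul_self_of_mem S.isPGroup' hs

theorem Ctx.orderOf_mem {s : G} (c : Ctx G r S) (hs : s ∈ (S : Subgroup G)) (h1 : s ≠ 1) :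
    orderOf s = 2 :=
  invol_iff.2 ⟨c.sq_one hs, h1⟩

theorem Ctx.comm {a b : G} (c : Ctx G r S) (ha : a ∈ (S : Subgroup G))
    (hb : b ∈ (S : Subgroup G)) : Commute a b :=
  c.h.comm_of_mem S.isPGroup' ha hb

theorem Ctx.exists_invol (c : Ctx G r S) : ∃ t ∈ (S : Subgroup G), orderOf t = 2 := by
  haveI : Nontrivial (S : Subgroup G) :=
    Finite.one_lt_card_iff_nontrivial.1 (by have := c.h8; omega)
  obtain ⟨⟨t, ht⟩, hne⟩ := exists_ne (1 : (S : Subgroup G))
  exact ⟨t, ht, c.orderOf_mem ht fun e => hne (Subtype.ext e)⟩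

theorem Ctx.Nr_ne_top (c : Ctx G r S) : Nr S ≠ ⊤ := by
  intro e
  haveI := c.simple
  haveI : (S : Subgroup G).Normal := normalizer_eq_top_iff.1 e
  have h8 := c.h8
  rcases IsSimpleGroup.eq_bot_or_eq_top_of_normal (S : Subgroup G) inferInstance with h | h
  · rw [h, card_bot] at h8; omega
  · -- then `G` is abelian and simple, so of prime order
    have hab : ∀ a b : G, a * b = b * a := fun a b =>
      c.comm (h ▸ mem_top a) (h ▸ mem_top b)
    obtain ⟨t, -, ht⟩ := c.exists_invol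
    have hn : (zpowers t).Normal := ⟨fun x hx g => by rwa [hab g x, mul_inv_cancel_right]⟩
    rcases IsSimpleGroup.eq_bot_or_eq_top_of_normal (zpowers t) hn with h1 | h1
    · have := Nat.card_zpowers t
      rw [h1, card_bot, ht] at this
      omega
    · have := Nat.card_zpowers t
      rw [h1, card_top, ht] at this
      have h2 := card_le_card_group (S : Subgroup G)
      omega

/-- `N(S)` is strongly embedded. -/
theorem Ctx.se (c : Ctx G r S) : Cfsg.IsStronglyEmbedded (Nr S) := by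
  obtain ⟨t, htS, ht⟩ := c.exists_invol
  refine ⟨c.Nr_ne_top, (even_card_iff _).2 ⟨t, le_normalizer htS, ht⟩, fun g hg => ?_⟩
  rw [odd_card_iff]
  intro s hs hso
  apply hg
  have hsS : s ∈ (S : Subgroup G) := c.invol_mem hs.1 hso
  have ho : orderOf (g⁻¹ * s * g) = 2 := by simpa [hso] using orderOf_conj_eq g⁻¹ s
  have hS' : g⁻¹ * s * g ∈ (S : Subgroup G) := c.invol_mem (mem_conj_map.1 hs.2) ho
  rw [mem_normalizer_iff_map_conj_eq]
  refine Subgroup.eq_of_le_of_card_ge ?_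
    (Nat.card_congr (equivMapOfInjective _ _ (MulAut.conj g).injective).toEquiv).le
  rintro _ ⟨a, ha, rfl⟩
  obtain ⟨k, hk⟩ := IsPGroup.iff_orderOf.1 S.isPGroup' ⟨a, ha⟩
  refine c.mem_of_two ?_ (k := k) ((orderOf_conj_eq g a).trans (by rw [← hk, orderOf_mk]))
  refine c.hcent s hsS (invol_ne_one hso) (mem_centralizer_singleton.2 ?_)
  show Commute s ((MulAut.conj g) a)
  rw [MulAut.conj_apply]
  show s * (g * a * g⁻¹) = g * a * g⁻¹ * s
  calc s * (g * a * g⁻¹) = g * ((g⁻¹ * s * g) * a) * g⁻¹ := by group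
    _ = g * (a * (g⁻¹ * s * g)) * g⁻¹ := by rw [(c.comm hS' ha).eq]
    _ = g * a * g⁻¹ * s := by group

theorem Ctx.fixes_of_commute {v y : G} (c : Ctx G r S) (hv : orderOf v = 2) (hc : Commute v y)
    {x : Pt S} (hx : v • x = x) : y • x = x :=
  SE.fixed_of_commute c.se hv hc hx

omit [Finite G] in
/-- Odd powers of an inverting element invert. -/
theorem conj_pow_odd {x y : G} (h : x * y * x⁻¹ = y⁻¹) :
    ∀ i : ℕ, x ^ (2 * i + 1) * y * (x ^ (2 * i + 1))⁻¹ = y⁻¹ := by
  intro i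
  induction i with
  | zero => simpa using h
  | succ i ih =>
    calc x ^ (2 * (i + 1) + 1) * y * (x ^ (2 * (i + 1) + 1))⁻¹
        = x * (x * (x ^ (2 * i + 1) * y * (x ^ (2 * i + 1))⁻¹) * x⁻¹) * x⁻¹ := by
          rw [show 2 * (i + 1) + 1 = 2 * i + 1 + 1 + 1 by ring, pow_succ', pow_succ']; group
      _ = y⁻¹ := by rw [ih, show x * y⁻¹ * x⁻¹ = (x * y * x⁻¹)⁻¹ by group, h, inv_inv, h]

omit [Finite G] in
/-- An element of odd order inverted by one involution and centralised by another is trivial,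
provided the product of the two involutions has odd order. -/
theorem eq_one_of_odd_prod {t v y : G} (hodd : Odd (orderOf (t * v))) (hy : Odd (orderOf y))
    (ht : Commute t y) (hv : v * y * v⁻¹ = y⁻¹) : y = 1 := by
  obtain ⟨l, hl⟩ := hodd
  have h1 : t * v * y * (t * v)⁻¹ = y⁻¹ := by
    calc t * v * y * (t * v)⁻¹ = t * (v * y * v⁻¹) * t⁻¹ := by group
      _ = y⁻¹ := by rw [hv, ht.inv_right.eq, mul_inv_cancel_right]
  have hpow := conj_pow_odd h1
  refine eq_one_of_eq_inv_of_odd ?_ hy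
  rw [← hpow l, ← hl, pow_orderOf_eq_one, one_mul, inv_one, mul_one]

/-- (L1): an element of odd order commuting with an involution is not inverted by an involution. -/
theorem Ctx.not_inverted {t v y : G} (c : Ctx G r S) (ht : orderOf t = 2) (hv : orderOf v = 2)
    (hy : Odd (orderOf y)) (hc : Commute t y) (hi : v * y * v⁻¹ = y⁻¹) : y = 1 := by
  obtain ⟨x, hx⟩ := SE.exists_fixed c.se ht
  obtain ⟨x', hx'⟩ := SE.exists_fixed c.se hv
  by_cases he : x = x'
  · -- both involutions lie in one conjugate of `S`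
    subst he
    obtain ⟨g, rfl⟩ := QuotientGroup.mk_surjective x
    have hy' := SE.smul_mk_eq_iff.1 (c.fixes_of_commute ht hc hx)
    have ht' := c.invol_mem (SE.smul_mk_eq_iff.1 hx)
      (by simpa [ht] using orderOf_conj_eq g⁻¹ t)
    have hv' := c.invol_mem (SE.smul_mk_eq_iff.1 hx')
      (by simpa [hv] using orderOf_conj_eq g⁻¹ v)
    obtain ⟨y', hy'def⟩ : ∃ y', y' = g⁻¹ * y * g := ⟨_, rfl⟩
    obtain ⟨v', hv'def⟩ : ∃ v', v' = g⁻¹ * v * g := ⟨_, rfl⟩
    rw [← hy'def] at hy'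
    rw [← hv'def] at hv'
    have hi' : v' * y' * v'⁻¹ = y'⁻¹ := by
      rw [hv'def, hy'def, mul_inv_rev (g⁻¹ * y) g, mul_inv_rev g⁻¹ y, inv_inv, ← mul_assoc, ← hi]
      group
    have h2 : y'⁻¹ * y'⁻¹ ∈ (S : Subgroup G) := by
      have h3 : y'⁻¹ * y'⁻¹ = v' * (y' * v'⁻¹ * y'⁻¹) := by
        calc y'⁻¹ * y'⁻¹ = v' * y' * v'⁻¹ * y'⁻¹ := by rw [hi']
          _ = _ := by group
      rw [h3]
      exact mul_mem hv' ((mem_normalizer_iff.1 hy' _).1 (inv_mem hv'))
    have hy'o : Odd (orderOf y') := by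
      rw [hy'def, show g⁻¹ * y * g = g⁻¹ * y * g⁻¹⁻¹ by rw [inv_inv], orderOf_conj_eq]
      exact hy
    have h4 : y'⁻¹ * y'⁻¹ = 1 := by
      by_contra hne
      have h5 := c.orderOf_mem h2 hne
      have h6 : Odd (orderOf (y'⁻¹ * y'⁻¹)) := by
        refine odd_of_orderOf_dvd hy'o (orderOf_dvd_of_pow_eq_one ?_)
        rw [(Commute.refl y'⁻¹).mul_pow, inv_pow, pow_orderOf_eq_one, inv_one, one_mul]
      rw [h5] at h6
      exact absurd h6 (by decide)
    rw [mul_eq_one_iff_eq_inv, inv_inv] at h4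
    have h7 : y' = 1 := eq_one_of_eq_inv_of_odd h4.symm hy'o
    rw [hy'def] at h7
    calc y = g * (g⁻¹ * y * g) * g⁻¹ := by group
      _ = 1 := by rw [h7, mul_one, mul_inv_cancel]
  · exact eq_one_of_odd_prod (SE.odd_of_fixed_ne c.se ht hv he hx hx') hy hc hi

theorem Ctx.inX_pt₀ {y : G} (c : Ctx G r S) :
    InX r (pt₀ S) y ↔ y ∈ centralizer ((S : Subgroup G) : Set G) ∧ y ^ r = 1 := by
  constructor
  · rintro ⟨h1, h2⟩
    refine ⟨mem_centralizer_iff.2 fun s hs => ?_, h1⟩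
    rcases eq_or_ne s 1 with rfl | hs1
    · rw [one_mul, mul_one]
    · exact (h2 s (c.orderOf_mem hs hs1) (mem_Nr_iff.2 (le_normalizer hs))).eq
  · rintro ⟨h1, h2⟩
    exact ⟨h2, fun v hv hvx => mem_centralizer_iff.1 h1 v (c.invol_mem (mem_Nr_iff.1 hvx) hv)⟩

/-- The centraliser of a nontrivial element of exponent `r` centralising `S` normalises `S`. -/
theorem Ctx.centralizer_le_Nr {y : G} (c : Ctx G r S)
    (hy : y ∈ centralizer ((S : Subgroup G) : Set G)) (hyr : y ^ r = 1) (hy1 : y ≠ 1) :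
    centralizer ({y} : Set G) ≤ Nr S := by
  haveI : Fact r.Prime := ⟨c.h.prime⟩
  haveI : Fact (Nat.Prime 2) := ⟨Nat.prime_two⟩
  have hyo : orderOf y = r := orderOf_eq_prime hyr hy1
  obtain ⟨C, hC⟩ : ∃ C, C = centralizer ({y} : Set G) := ⟨_, rfl⟩
  rw [← hC]
  have hSC : (S : Subgroup G) ≤ C := fun s hs => hC ▸ mem_centralizer_singleton.2
    (show Commute y s from (mem_centralizer_iff.1 hy s hs).symm)
  haveI : Group.IsSolvable C := isSolvable_of_exp c.h.prime fun g => Subtype.ext (by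
    rw [Subgroup.coe_pow, Subgroup.coe_one]
    exact c.h.pow_two_r hyo (mem_centralizer_singleton.1 (hC ▸ g.2)))
  let T : Sylow 2 C := S.subtype hSC
  have hTmem : ∀ {a : C}, a ∈ (T : Subgroup C) ↔ (a : G) ∈ (S : Subgroup G) := by
    intro a; rw [Sylow.coe_subtype, mem_subgroupOf]
  have hab : ∀ a ∈ (T : Subgroup C), ∀ b ∈ (T : Subgroup C), a * b = b * a := fun a ha b hb =>
    Subtype.ext (c.comm (hTmem.1 ha) (hTmem.1 hb)).eq
  haveI : IsMulCommutative (T : Subgroup C) :=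
    ⟨⟨fun a b => Subtype.ext (hab a a.2 b b.2)⟩⟩
  have hnc : ¬ IsCyclic (T : Subgroup C) := by
    intro hcy
    obtain ⟨⟨g, hg⟩, hgen⟩ := hcy.exists_generator
    have h1 : Nat.card (T : Subgroup C) = Nat.card (S : Subgroup G) := by
      rw [Sylow.coe_subtype]
      exact Nat.card_congr (subgroupOfEquivOfLe hSC).toEquiv
    have h2 : orderOf (⟨g, hg⟩ : (T : Subgroup C)) ∣ 2 := orderOf_dvd_of_pow_eq_one
      (Subtype.ext (Subtype.ext (by simpa [pow_two] using c.sq_one (hTmem.1 hg))))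
    have h3 := Nat.le_of_dvd two_pos h2
    rw [orderOf_eq_card_of_forall_mem_zpowers hgen, h1] at h3
    have := c.h8
    omega
  set O := Cfsg.pPrimeCore 2 C with hO
  have hOo : Odd (Nat.card O) := by
    rw [← Nat.not_even_iff_odd, even_iff_two_dvd]
    exact Base.not_dvd_card_pPrimeCore 2 C
  have hle : O ≤ (Nr S).subgroupOf C := by
    refine Coprime.le_of_centralizer_le_of_not_isCyclic (A := (T : Subgroup C)) hnc ?_ ?_
      fun a ha ha1 => ?_
    · haveI : O.Normal := Cfsg.pPrimeCore_normal 2 C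
      rw [normalizer_eq_top O]
      exact le_top
    · obtain ⟨k, hk⟩ := IsPGroup.iff_card.1 T.isPGroup'
      rw [hk]
      exact Nat.Coprime.pow_left k (Nat.coprime_two_left.2 hOo)
    · intro x hx
      rw [mem_subgroupOf]
      refine c.hcent _ (hTmem.1 ha) (fun e => ha1 (Subtype.ext e)) ?_
      exact mem_centralizer_singleton.2 (congrArg Subtype.val (mem_centralizer_singleton.1 hx.2).eq)
  have hOT : O ⊔ (T : Subgroup C) ≤ (Nr S).subgroupOf C :=
    sup_le hle fun a ha => mem_subgroupOf.2 (le_normalizer (hTmem.1 ha))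
  have hn := sylow_sup_core_normal T hab
  intro g hg
  rw [mem_normalizer_iff_map_conj_eq]
  refine Subgroup.eq_of_le_of_card_ge ?_
    (Nat.card_congr (equivMapOfInjective _ _ (MulAut.conj g).injective).toEquiv).le
  rintro _ ⟨a, ha, rfl⟩
  obtain ⟨k, hk⟩ := IsPGroup.iff_orderOf.1 S.isPGroup' ⟨a, ha⟩
  refine c.mem_of_two ?_ (k := k) ((orderOf_conj_eq g a).trans (by rw [← hk, orderOf_mk]))
  exact mem_subgroupOf.1 (hOT (hn.conj_mem _ (mem_sup_right (hTmem.2 (show
    ((⟨a, hSC ha⟩ : C) : G) ∈ (S : Subgroup G) from ha))) ⟨g, hg⟩))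

/-- (L2): whatever commutes with a nontrivial element of `InX x` fixes `x`. -/
theorem Ctx.fixes_of_inX {x : Pt S} {y g : G} (c : Ctx G r S) (hy : InX r x y) (hy1 : y ≠ 1)
    (hc : Commute y g) : g • x = x := by
  obtain ⟨a, rfl⟩ := QuotientGroup.mk_surjective x
  have h0 := hy.conj a⁻¹
  rw [inv_inv, show a⁻¹ • (a : Pt S) = pt₀ S by
    rw [MulAction.Quotient.smul_mk, smul_eq_mul, inv_mul_cancel], c.inX_pt₀] at h0
  refine SE.smul_mk_eq_iff.2 (c.centralizer_le_Nr h0.1 h0.2 (fun e => hy1 ?_)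
    (mem_centralizer_singleton.2 ?_))
  · calc y = a * (a⁻¹ * y * a) * a⁻¹ := by group
      _ = 1 := by rw [e, mul_one, mul_inv_cancel]
  · show a⁻¹ * y * a * (a⁻¹ * g * a) = a⁻¹ * g * a * (a⁻¹ * y * a)
    calc a⁻¹ * y * a * (a⁻¹ * g * a) = a⁻¹ * (y * g) * a := by group
      _ = a⁻¹ * (g * y) * a := by rw [hc.eq]
      _ = _ := by group

/-- No nontrivial element lies in `InX` for two points. -/
theorem Ctx.inX_unique {x x' : Pt S} {y : G} (c : Ctx G r S) (h : InX r x y) (h' : InX r x' y)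
    (hy1 : y ≠ 1) : x = x' := by
  obtain ⟨t, htS, ht⟩ := c.exists_invol
  obtain ⟨a, rfl⟩ := QuotientGroup.mk_surjective x'
  have hv : (a * t * a⁻¹) • (a : Pt S) = a :=
    SE.smul_mk_eq_iff.2 (by rw [show a⁻¹ * (a * t * a⁻¹) * a = t by group]; exact le_normalizer htS)
  have h1 := c.fixes_of_inX h hy1 (h'.2 _ (conj_invol a ht) hv).symm
  exact SE.eq_of_fixed c.se (conj_invol a ht) h1 hv

end CfsgLib.Recog.TwoR.Rank3
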